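import Cfsg.Agent.Lib.Stellmacher.Plane

/-!
Graphs of the operators `A` and `A + B⁻¹` on `P × Q`, where `A` runs over a group of isomorphisms `Q → P`
and `B` over a group of isomorphisms `P → Q`, both realised by transvections of an acting group without
section `S₃`.  They are pairwise distinct; if they are also pairwise disjoint there are at most `|P|` of them,
and exactly `|P|` of them together with `P` cover `P × Q`.
-/

set_option autoImplicit false
set_option linter.unusedSectionVars false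
set_option linter.style.haveILetI false

namespace CfsgLib.Stellmacher.Graphs

open CfsgLib.Techniques.SThree CfsgLib.Stellmacher.Plane

universe u v

variable {X : Type u} [Group X] {P Q : Type v} [AddCommGroup P] [AddCommGroup Q]

/-- The shear by a homomorphism into the first factor. -/
def upper (A : Q →+ P) : P × Q →+ P × Q :=
  (A.comp (AddMonoidHom.snd P Q)).prod 0

/-- The shear by a homomorphism into the second factor. -/
def lower (B : P →+ Q) : P × Q →+ P × Q :=
  (0 : P × Q →+ P).prod (B.comp (AddMonoidHom.fst P Q))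

theorem upper_apply (A : Q →+ P) (w : P × Q) : upper A w = (A w.2, 0) := rfl

theorem lower_apply (B : P →+ Q) (w : P × Q) : lower B w = (0, B w.1) := rfl

/-- The first factor, as a subgroup. -/
def base (P Q : Type v) [AddCommGroup P] [AddCommGroup Q] : AddSubgroup (P × Q) :=
  (AddMonoidHom.inl P Q).range

open scoped Classical in
/-- The members of the family: `P`, the graphs of `A`, and the graphs of `A + B⁻¹`. -/
noncomputable def member (𝒜 : AddSubgroup (Q →+ P)) (ℬ : AddSubgroup (P →+ Q)) :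
    Option (𝒜 × ℬ) → AddSubgroup (P × Q)
  | none => base P Q
  | some (A, B) =>
    if (B : P →+ Q) = 0 then ((A : Q →+ P).prod (AddMonoidHom.id Q)).range
    else ((AddMonoidHom.id P + (A : Q →+ P).comp (B : P →+ Q)).prod (B : P →+ Q)).range

/-- The data: two groups of isomorphisms realised as shears. -/
structure Data (ρ : X →* AddMonoid.End (P × Q)) (𝒜 : AddSubgroup (Q →+ P)) (ℬ : AddSubgroup (P →+ Q)) :
    Prop where
  free : ¬ Cfsg.Involves (Equiv.Perm (Fin 3)) X
  hP2 : ∀ x : P, x + x = 0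
  hQ2 : ∀ y : Q, y + y = 0
  nontrivial : ∃ x : P, x ≠ 0
  bijA : ∀ A ∈ 𝒜, A ≠ 0 → Function.Bijective A
  bijB : ∀ B ∈ ℬ, B ≠ 0 → Function.Bijective B
  realA : ∀ A ∈ 𝒜, ∃ g : X, ∀ w, ρ g w = w + upper A w
  realB : ∀ B ∈ ℬ, ∃ g : X, ∀ w, ρ g w = w + lower B w

variable {ρ : X →* AddMonoid.End (P × Q)} {𝒜 : AddSubgroup (Q →+ P)} {ℬ : AddSubgroup (P →+ Q)}

theorem mem_member_zero (A : 𝒜) (B : ℬ) (hB : (B : P →+ Q) = 0) {w : P × Q} :
    w ∈ member 𝒜 ℬ (some (A, B)) ↔ w.1 = (A : Q →+ P) w.2 := by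
  simp only [member, hB, if_true]
  constructor
  · rintro ⟨y, rfl⟩; rfl
  · exact fun h => ⟨w.2, Prod.ext h.symm rfl⟩

theorem mem_member_ne (A : 𝒜) (B : ℬ) (hB : (B : P →+ Q) ≠ 0) {w : P × Q} :
    w ∈ member 𝒜 ℬ (some (A, B)) ↔
      ∃ x, w = (x + (A : Q →+ P) ((B : P →+ Q) x), (B : P →+ Q) x) := by
  simp only [member, hB, if_false]
  exact ⟨fun ⟨x, h⟩ => ⟨x, h.symm⟩, fun ⟨x, h⟩ => ⟨x, h.symm⟩⟩

theorem mem_base {w : P × Q} : w ∈ member 𝒜 ℬ none ↔ w.2 = 0 :=
  ⟨fun ⟨_, h⟩ => h ▸ rfl, fun h => ⟨w.1, Prod.ext rfl h.symm⟩⟩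

theorem Data.two (h : Data ρ 𝒜 ℬ) : ∀ w : P × Q, w + w = 0 :=
  fun w => Prod.ext (h.hP2 w.1) (h.hQ2 w.2)

/-- Members with a nonzero second parameter are images of the base. -/
theorem Data.exists_map_base (h : Data ρ 𝒜 ℬ) (A : 𝒜) (B : ℬ) (hB : (B : P →+ Q) ≠ 0) :
    ∃ g : X, member 𝒜 ℬ (some (A, B)) = (base P Q).map (ρ g : P × Q →+ P × Q) := by
  obtain ⟨g, hg⟩ := h.realA A A.2
  obtain ⟨f, hf⟩ := h.realB B B.2
  refine ⟨g * f, ?_⟩
  have hgf : ∀ x : P, ρ (g * f) (x, 0) =
      (x + (A : Q →+ P) ((B : P →+ Q) x), (B : P →+ Q) x) := fun x => by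
    rw [act_mul, hf, hg]
    simp [upper_apply, lower_apply]
  ext w
  rw [mem_member_ne A B hB]
  constructor
  · rintro ⟨x, rfl⟩; exact ⟨(x, 0), ⟨x, rfl⟩, hgf x⟩
  · rintro ⟨_, ⟨x, rfl⟩, rfl⟩; exact ⟨x, hgf x⟩

/-- Members with zero second parameter are images of the second factor. -/
theorem Data.exists_map_second (h : Data ρ 𝒜 ℬ) (A : 𝒜) (B : ℬ) (hB : (B : P →+ Q) = 0) :
    ∃ g : X, member 𝒜 ℬ (some (A, B)) = (AddMonoidHom.inr P Q).range.map (ρ g : P × Q →+ P × Q) := by
  obtain ⟨g, hg⟩ := h.realA A A.2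
  have hgy : ∀ y : Q, ρ g (0, y) = ((A : Q →+ P) y, y) := fun y => by
    rw [hg]; simp [upper_apply]
  refine ⟨g, ?_⟩
  ext w
  rw [mem_member_zero A B hB]
  constructor
  · exact fun h => ⟨(0, w.2), ⟨w.2, rfl⟩, (hgy w.2).trans (Prod.ext h.symm rfl)⟩
  · rintro ⟨_, ⟨y, rfl⟩, rfl⟩
    show (ρ g (0, y)).1 = (A : Q →+ P) (ρ g (0, y)).2
    rw [hgy]

/-- No shear is the inverse of another one. -/
theorem Data.comp_ne (h : Data ρ 𝒜 ℬ) {A : Q →+ P} (hA : A ∈ 𝒜) {B : P →+ Q} (hB : B ∈ ℬ)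
    (hB0 : B ≠ 0) : ¬ ∀ x, A (B x) = x := by
  intro hAB
  obtain ⟨g, hg⟩ := h.realA A hA
  obtain ⟨f, hf⟩ := h.realB B hB
  obtain ⟨x, hx⟩ := h.nontrivial
  have hBx : B x ≠ 0 := fun e => hx ((h.bijB B hB hB0).1 (e.trans (map_zero B).symm))
  obtain ⟨H, φ, hφ, -⟩ := exists_hom_perm_three ρ h.two ((x, 0) : P × Q) (0, B x) g f
    (by simp [hx]) (by simp [hBx]) (by simp [hx])
    (by rw [hg]; simp [upper_apply]) (by rw [hg]; simp [upper_apply, hAB])
    (by rw [hf]; simp [lower_apply]) (by rw [hf]; simp [lower_apply])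
  exact h.free (LocalEven.Involved.involves_of_hom H φ hφ)

/-- The operators `A + B⁻¹` are distinct. -/
theorem Data.param_unique [Finite P] [Finite Q] (h : Data ρ 𝒜 ℬ) {A : Q →+ P} (hA : A ∈ 𝒜) (hA0 : A ≠ 0)
    {B B' : P →+ Q} (hB : B ∈ ℬ) (hB' : B' ∈ ℬ) (hB0 : B ≠ 0)
    (heq : ∀ x, B' (x + A (B x)) = B x) : False := by
  obtain ⟨g, hg⟩ := h.realA A hA
  obtain ⟨f, hf⟩ := h.realB B hB
  obtain ⟨f', hf'⟩ := h.realB B' hB'
  haveI : Finite (AddMonoid.End (P × Q)) := Finite.of_injective _ (DFunLike.coe_injective (F := P × Q →+ P × Q))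
  set N : AddMonoid.End (P × Q) := upper A
  set M : AddMonoid.End (P × Q) := lower B
  set M' : AddMonoid.End (P × Q) := lower B'
  set θ : AddMonoid.End (P × Q) := N * M + M * N
  have hθ : ∀ w, θ w = (A (B w.1), B (A w.2)) := fun w => by
    show upper A (lower B w) + lower B (upper A w) = _
    simp [upper_apply, lower_apply]
  have hθinj : ∀ w, θ w = 0 → w = 0 := fun w hw => by
    rw [hθ] at hw
    refine Prod.ext ((h.bijB B hB hB0).1 ((h.bijA A hA hA0).1 ?_)) ((h.bijA A hA hA0).1 ((h.bijB B hB hB0).1 ?_))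
    · simpa using (congrArg Prod.fst hw)
    · simpa using (congrArg Prod.snd hw)
  set η : AddMonoid.End (P × Q) := 1 + θ with hη
  have hηapp : ∀ w, η w = (w.1 + A (B w.1), w.2 + B (A w.2)) := fun w => by
    show w + θ w = _
    rw [hθ]; rfl
  have hηinj : ∀ w, η w = 0 → w = 0 := by
    have h1 : ∀ x, x + A (B x) = 0 → x = 0 := fun x hx => by
      have h2 := heq x
      rw [hx, map_zero] at h2
      exact (h.bijB B hB hB0).1 (h2.symm.trans (map_zero B).symm)
    intro w hw
    rw [hηapp] at hw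
    have hy : w.2 + B (A w.2) = 0 := congrArg Prod.snd hw
    obtain ⟨x, hx⟩ := (h.bijB B hB hB0).2 w.2
    rw [← hx, ← map_add] at hy
    refine Prod.ext (h1 _ (congrArg Prod.fst hw)) ?_
    rw [← hx, h1 x ((h.bijB B hB hB0).1 (hy.trans (map_zero B).symm)), map_zero]; rfl
  have hηbij : Function.Bijective η := Finite.injective_iff_bijective.1 ((injective_iff_map_eq_zero _).2 hηinj)
  let e : P × Q ≃+ P × Q := AddEquiv.ofBijective (η : P × Q →+ P × Q) hηbij
  set ψ : AddMonoid.End (P × Q) := e.symm.toAddMonoidHom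
  have hψη : ψ * η = 1 := AddMonoidHom.ext fun w => e.symm_apply_apply w
  have hηψ : η * ψ = 1 := AddMonoidHom.ext fun w => e.apply_symm_apply w
  have hN : N * N = 0 := AddMonoidHom.ext fun w => by
    show upper A (upper A w) = 0
    simp [upper_apply]
  have hM : M * M = 0 := AddMonoidHom.ext fun w => by
    show lower B (lower B w) = 0
    simp [lower_apply]
  have hcN : Commute N θ := by
    show N * (N * M + M * N) = (N * M + M * N) * N
    rw [mul_add, add_mul, ← mul_assoc, hN, zero_mul, zero_add, mul_assoc M N N, hN, mul_zero, add_zero,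
      mul_assoc]
  have hcM : Commute M θ := by
    show M * (N * M + M * N) = (N * M + M * N) * M
    rw [mul_add, add_mul, ← mul_assoc M M, hM, zero_mul, add_zero, mul_assoc N M M, hM, mul_zero, zero_add,
      mul_assoc]
  have hinvc : ∀ F : AddMonoid.End (P × Q), Commute F η → Commute ψ F := fun F hF => by
    show ψ * F = F * ψ
    calc ψ * F = ψ * F * (η * ψ) := by rw [hηψ, mul_one]
      _ = ψ * (F * η) * ψ := by simp only [mul_assoc]
      _ = ψ * η * (F * ψ) := by rw [hF.eq]; simp only [mul_assoc]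
      _ = F * ψ := by rw [hψη, one_mul]
  have hψN : Commute ψ N := hinvc N ((Commute.one_right N).add_right hcN)
  have hψM : Commute ψ M := hinvc M ((Commute.one_right M).add_right hcM)
  have hM'M : M' = ψ * M := by
    have h1 : M' * η = M := AddMonoidHom.ext fun w => by
      show lower B' (η w) = lower B w
      rw [hηapp, lower_apply, lower_apply]
      exact Prod.ext rfl (heq w.1)
    calc M' = M' * (η * ψ) := by rw [hηψ, mul_one]
      _ = M * ψ := by rw [← mul_assoc, h1]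
      _ = ψ * M := hψM.eq.symm
  refine false_of_plane h.free h.two (s := g) (u := f) (w := f') (AddMonoidHom.ext hg) (AddMonoidHom.ext hf)
    (AddMonoidHom.ext fun w => (hf' w).trans ?_) hN hM hψN hψM
    (fun x hx => e.symm.injective (hx.trans (map_zero e.symm).symm)) (fun x hx => ?_) fun m hm => ?_
  · show w + M' w = w + (ψ * M) w
    rw [hM'M]
  · refine hθinj _ ?_
    have h1 := congrArg η hx
    change (η * ψ) (N x) = N x + θ (N x) at h1
    rw [hηψ] at h1
    exact left_eq_add.1 h1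
  · obtain ⟨x, hx⟩ := h.nontrivial
    have hiter : ∀ n : ℕ, ((N * M) ^ n) ((x, 0) : P × Q) = (((fun z => A (B z))^[n]) x, 0) := by
      intro n
      induction n with
      | zero => rfl
      | succ n ih =>
        rw [pow_succ', Function.iterate_succ_apply']
        show upper A (lower B (((N * M) ^ n) ((x, 0) : P × Q))) = _
        rw [ih]; rfl
    have h1 := hiter m
    rw [hm] at h1
    refine hx ((((h.bijA A hA hA0).1.comp (h.bijB B hB hB0).1).iterate m) ?_)
    have h2 : ((fun z => A (B z))^[m]) x = 0 := (congrArg Prod.fst h1).symm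
    have h3 : ∀ n : ℕ, ((fun z => A (B z))^[n]) (0 : P) = 0 := fun n =>
      Function.iterate_fixed (by simp) n
    exact h2.trans (h3 m).symm

theorem Data.sub_mem_A (h : Data ρ 𝒜 ℬ) (A A' : 𝒜) :
    ((A : Q →+ P) + (A' : Q →+ P) ∈ 𝒜) ∧ (∀ y, ((A : Q →+ P) + (A' : Q →+ P)) y = 0 → (A : Q →+ P) y = (A' : Q →+ P) y) :=
  ⟨add_mem A.2 A'.2, fun y hy => by
    rw [AddMonoidHom.add_apply] at hy
    exact (eq_neg_of_add_eq_zero_left hy).trans (neg_eq_of_add_eq_zero_left (h.hP2 _))⟩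

/-- The members are pairwise distinct. -/
theorem Data.member_injective [Finite P] [Finite Q] (h : Data ρ 𝒜 ℬ) :
    Function.Injective (member 𝒜 ℬ) := by
  obtain ⟨x₀, hx₀⟩ := h.nontrivial
  have hnone : ∀ p, member 𝒜 ℬ none ≠ member 𝒜 ℬ (some p) := by
    rintro ⟨A, B⟩ he
    by_cases hB : (B : P →+ Q) = 0
    · have h1 : ((x₀, 0) : P × Q) ∈ member 𝒜 ℬ (some (A, B)) := he ▸ mem_base.2 rfl
      rw [mem_member_zero A B hB] at h1
      exact hx₀ (h1.trans (map_zero _))
    · have h1 : ((x₀ + (A : Q →+ P) ((B : P →+ Q) x₀), (B : P →+ Q) x₀) : P × Q) ∈ member 𝒜 ℬ none :=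
        he ▸ (mem_member_ne A B hB).2 ⟨x₀, rfl⟩
      exact hx₀ ((h.bijB B B.2 hB).1 ((mem_base.1 h1).trans (map_zero _).symm))
  have hmixed : ∀ (A A' : 𝒜) (B B' : ℬ), (B : P →+ Q) = 0 → (B' : P →+ Q) ≠ 0 →
      member 𝒜 ℬ (some (A, B)) ≠ member 𝒜 ℬ (some (A', B')) := by
    intro A A' B B' hB hB' he
    refine h.comp_ne (h.sub_mem_A A A').1 B'.2 hB' fun x => ?_
    have h1 : ((x + (A' : Q →+ P) ((B' : P →+ Q) x), (B' : P →+ Q) x) : P × Q) ∈ member 𝒜 ℬ (some (A, B)) :=
      he ▸ (mem_member_ne A' B' hB').2 ⟨x, rfl⟩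
    rw [mem_member_zero A B hB] at h1
    rw [AddMonoidHom.add_apply, ← h1, add_assoc, h.hP2, add_zero]
  rintro (_ | ⟨A, B⟩) (_ | ⟨A', B'⟩) he
  · rfl
  · exact absurd he (hnone _)
  · exact absurd he.symm (hnone _)
  · by_cases hB : (B : P →+ Q) = 0
    · by_cases hB' : (B' : P →+ Q) = 0
      · have hA : A = A' := Subtype.ext (AddMonoidHom.ext fun y => by
          have h1 : (((A : Q →+ P) y, y) : P × Q) ∈ member 𝒜 ℬ (some (A', B')) :=
            he ▸ (mem_member_zero A B hB).2 rfl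
          exact (mem_member_zero A' B' hB').1 h1)
        rw [hA, Subtype.ext (hB.trans hB'.symm) (a1 := B)]
      · exact absurd he (hmixed A A' B B' hB hB')
    · by_cases hB' : (B' : P →+ Q) = 0
      · exact absurd he.symm (hmixed A' A B' B hB' hB)
      · have hkey : ∀ x, (B' : P →+ Q) (x + ((A : Q →+ P) + (A' : Q →+ P)) ((B : P →+ Q) x)) =
            (B : P →+ Q) x := by
          intro x
          have h1 : ((x + (A : Q →+ P) ((B : P →+ Q) x), (B : P →+ Q) x) : P × Q) ∈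
              member 𝒜 ℬ (some (A', B')) := he ▸ (mem_member_ne A B hB).2 ⟨x, rfl⟩
          obtain ⟨y, hy⟩ := (mem_member_ne A' B' hB').1 h1
          obtain ⟨hy1, hy2⟩ := Prod.ext_iff.1 hy
          replace hy1 : x + (A : Q →+ P) ((B : P →+ Q) x) = y + (A' : Q →+ P) ((B' : P →+ Q) y) := hy1
          replace hy2 : (B : P →+ Q) x = (B' : P →+ Q) y := hy2
          rw [← hy2] at hy1
          rw [AddMonoidHom.add_apply, ← add_assoc, hy1, add_assoc, h.hP2, add_zero, hy2]
        have hA : A = A' := by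
          by_contra hne
          refine h.param_unique (h.sub_mem_A A A').1 (fun h0 => hne (Subtype.ext (AddMonoidHom.ext fun y =>
            (h.sub_mem_A A A').2 y (DFunLike.congr_fun h0 y)))) B.2 B'.2 hB hkey
        subst hA
        have hBB : B = B' := Subtype.ext (AddMonoidHom.ext fun x => by
          rw [← hkey x, AddMonoidHom.add_apply, h.hP2, add_zero])
        rw [hBB]

/-- Every member has the order of the base. -/
theorem Data.card_member [Finite P] [Finite Q] (h : Data ρ 𝒜 ℬ) (hPQ : Nat.card Q = Nat.card P) :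
    ∀ i, Nat.card (member 𝒜 ℬ i) = Nat.card P := by
  rintro (_ | ⟨A, B⟩)
  · exact (Nat.card_congr (AddMonoidHom.ofInjective (f := AddMonoidHom.inl P Q)
      fun x y e => congrArg Prod.fst e).toEquiv).symm
  · by_cases hB : (B : P →+ Q) = 0
    · simp only [member, hB, if_true]
      exact ((Nat.card_congr (AddMonoidHom.ofInjective (f := (A : Q →+ P).prod (AddMonoidHom.id Q))
        fun x y e => congrArg Prod.snd e).toEquiv).symm).trans hPQ
    · simp only [member, hB, if_false]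
      exact (Nat.card_congr (AddMonoidHom.ofInjective
        (f := (AddMonoidHom.id P + (A : Q →+ P).comp (B : P →+ Q)).prod (B : P →+ Q))
        fun x y e => (h.bijB B B.2 hB).1 (congrArg Prod.snd e)).toEquiv).symm

/-- Pairwise disjoint members: at most `|P|` parameters, with equality only if they cover. -/
theorem Data.count [Finite P] [Finite Q] (h : Data ρ 𝒜 ℬ) (hPQ : Nat.card Q = Nat.card P)
    (hdisj : ∀ i j, member 𝒜 ℬ i ≠ member 𝒜 ℬ j → member 𝒜 ℬ i ⊓ member 𝒜 ℬ j = ⊥) :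
    Nat.card 𝒜 * Nat.card ℬ ≤ Nat.card P ∧
      (Nat.card 𝒜 * Nat.card ℬ = Nat.card P → ∀ w : P × Q, ∃ i, w ∈ member 𝒜 ℬ i) := by
  haveI : Finite (Q →+ P) := Finite.of_injective _ DFunLike.coe_injective
  haveI : Finite (P →+ Q) := Finite.of_injective _ DFunLike.coe_injective
  let f : (Σ i, {w : member 𝒜 ℬ i // w ≠ 0}) → {w : P × Q // w ≠ 0} :=
    fun z => ⟨z.2.1.1, fun e => z.2.2 (Subtype.ext e)⟩
  have hf : Function.Injective f := by
    rintro ⟨i, ⟨w, hw⟩, hw0⟩ ⟨j, ⟨w', hw'⟩, hw0'⟩ e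
    obtain rfl : w = w' := congrArg Subtype.val e
    have hij : i = j := by
      by_contra hne
      have h1 := hdisj i j (fun he => hne (h.member_injective he))
      exact hw0 (Subtype.ext (AddSubgroup.mem_bot.1 (h1 ▸ ⟨hw, hw'⟩)))
    subst hij; rfl
  have hsub : ∀ {G : Type v} [AddCommGroup G] [Finite G], Nat.card {w : G // w ≠ 0} + 1 = Nat.card G := by
    intro G _ _
    classical
    letI := Fintype.ofFinite G
    rw [Nat.card_eq_fintype_card, Nat.card_eq_fintype_card,
      Fintype.card_subtype_compl (fun w : G => w = 0), Fintype.card_subtype_eq]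
    exact Nat.sub_add_cancel Fintype.card_pos
  haveI : Fintype (Option (𝒜 × ℬ)) := Fintype.ofFinite _
  have hcard : Nat.card (Σ i, {w : member 𝒜 ℬ i // w ≠ 0}) =
      (Nat.card 𝒜 * Nat.card ℬ + 1) * (Nat.card P - 1) := by
    rw [Nat.card_sigma]
    have h1 : ∀ i, Nat.card {w : member 𝒜 ℬ i // w ≠ 0} = Nat.card P - 1 := fun i => by
      rw [← h.card_member hPQ i, ← hsub (G := member 𝒜 ℬ i), Nat.add_sub_cancel]
    rw [Finset.sum_congr rfl fun i _ => h1 i, Finset.sum_const, Finset.card_univ, smul_eq_mul,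
      ← Nat.card_eq_fintype_card, Finite.card_option, Nat.card_prod]
  have htot : Nat.card {w : P × Q // w ≠ 0} + 1 = Nat.card P * Nat.card P := by
    rw [hsub (G := P × Q), Nat.card_prod, hPQ]
  have hle := Nat.card_le_card_of_injective f hf
  rw [hcard] at hle
  set q := Nat.card P
  set n := Nat.card 𝒜 * Nat.card ℬ
  obtain ⟨x₀, hx₀⟩ := h.nontrivial
  have hq : 2 ≤ q := Finite.one_lt_card_iff_nontrivial.2 ⟨x₀, 0, hx₀⟩
  obtain ⟨q', hq'⟩ : ∃ q', q = q' + 1 := ⟨q - 1, by omega⟩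
  rw [hq', Nat.add_sub_cancel] at hle hcard
  rw [hq'] at htot
  refine ⟨?_, fun he w => ?_⟩
  · by_contra hlt
    have : (q' + 3) * q' ≤ (n + 1) * q' := Nat.mul_le_mul_right _ (by omega)
    nlinarith
  · by_cases hw : w = 0
    · exact ⟨none, hw ▸ zero_mem _⟩
    have heq : Nat.card (Σ i, {w : member 𝒜 ℬ i // w ≠ 0}) = Nat.card {w : P × Q // w ≠ 0} := by
      rw [hcard, he, hq']; nlinarith
    obtain ⟨⟨i, v, hv⟩, hi⟩ := ((Nat.bijective_iff_injective_and_card f).2 ⟨hf, heq⟩).2 ⟨w, hw⟩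
    refine ⟨i, ?_⟩
    have h1 : (v : P × Q) = w := congrArg Subtype.val hi
    exact h1 ▸ v.2

end CfsgLib.Stellmacher.Graphs
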