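import Cfsg.Agent.Lib.Stellmacher.PlaneField
import Cfsg.Agent.Lib.Techniques.SThreeNoOffender
import Cfsg.Agent.Lib.Techniques.JeClassTwo
import Mathlib.RingTheory.Adjoin.Basic
import Mathlib.Algebra.CharP.Two

/-!
The plane lemma: three involutions `1 + N`, `1 + M`, `1 + ψM` acting on an elementary abelian 2-group, with
`ψ` commuting with `N` and `M`, `ψ` and `ψ + 1` injective on the image of `N`, and `NM` not nilpotent, give a
section isomorphic to the symmetric group of degree three.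
-/

set_option autoImplicit false
set_option linter.unusedSectionVars false
set_option linter.style.haveILetI false

namespace CfsgLib.Stellmacher.Plane

open CfsgLib.Techniques.SThree

universe u v

variable {X : Type u} [Group X] {V : Type v} [AddCommGroup V]

theorem End_mul_apply (f g : AddMonoid.End V) (x : V) : (f * g) x = f (g x) := rfl

theorem End_add_apply (f g : AddMonoid.End V) (x : V) : (f + g) x = f x + g x := rfl

theorem End_pow_apply_mem (f : AddMonoid.End V) {W : AddSubgroup V} (h : ∀ x ∈ W, f x ∈ W) (n : ℕ) :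
    ∀ x ∈ W, (f ^ n) x ∈ W := by
  induction n with
  | zero => exact fun x hx => hx
  | succ n ih => exact fun x hx => by rw [pow_succ', End_mul_apply]; exact h _ (ih x hx)

/-- Two transvections with nilpotent product of their nilpotent parts generate a 2-group. -/
theorem exists_pow_eq_one_of_nilpotent (hV2 : ∀ x : V, x + x = 0) {N M : AddMonoid.End V}
    (hN : N * N = 0) (hM : M * M = 0) {m : ℕ} (h : (N * M) ^ m = 0) :
    ∃ j, ((1 + N) * (1 + M)) ^ 2 ^ j = 1 := by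
  have h2 : ∀ f : AddMonoid.End V, f + f = 0 := fun f => AddMonoidHom.ext fun x => hV2 (f x)
  set a := (1 + N) * (1 + M) with ha
  set b := (1 + M) * (1 + N) with hb
  have hinv : ∀ f : AddMonoid.End V, f * f = 0 → (1 + f) * (1 + f) = 1 := fun f hf => by
    simp only [mul_add, add_mul, one_mul, mul_one, hf, add_zero]
    rw [add_assoc, h2, add_zero]
  have hab : a * b = 1 := by
    rw [ha, hb, mul_assoc, ← mul_assoc (1 + M) (1 + M), hinv M hM, one_mul, hinv N hN]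
  have hba : b * a = 1 := by
    rw [ha, hb, mul_assoc, ← mul_assoc (1 + N) (1 + N), hinv N hN, one_mul, hinv M hM]
  have hsum : a + b = N * M + M * N := by
    have e : a + b = (1 + 1) + (N + N) + (M + M) + (N * M + M * N) := by
      rw [ha, hb]; simp only [mul_add, add_mul, one_mul, mul_one]; abel
    rw [e, h2 1, h2 N, h2 M, add_zero, add_zero, zero_add]
  have hNM : (N * M) * (M * N) = 0 := by rw [mul_assoc, ← mul_assoc M M, hM, zero_mul, mul_zero]
  have hMN : (M * N) * (N * M) = 0 := by rw [mul_assoc, ← mul_assoc N N, hN, zero_mul, mul_zero]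
  have hpow : ∀ k : ℕ, (N * M + M * N) ^ (k + 1) = (N * M) ^ (k + 1) + (M * N) ^ (k + 1) := by
    intro k
    induction k with
    | zero => rw [pow_one, pow_one, pow_one]
    | succ k ih =>
      rw [pow_succ, ih, add_mul, mul_add, mul_add, ← pow_succ, ← pow_succ, pow_succ _ k, mul_assoc _ _ (M * N),
        hNM, mul_zero, add_zero, pow_succ _ k, mul_assoc _ _ (N * M), hMN, mul_zero, zero_add]
  have hshift : ∀ k : ℕ, (M * N) ^ (k + 1) = M * (N * M) ^ k * N := by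
    intro k
    induction k with
    | zero => rw [pow_one, pow_zero, mul_one]
    | succ k ih => rw [pow_succ, ih, pow_succ (N * M)]; simp only [mul_assoc]
  have hzero : ∀ r, m + 1 ≤ r → (a + b) ^ r = 0 := by
    intro r hr
    have h0 : ∀ k, m ≤ k → (N * M) ^ k = 0 := fun k hk => pow_eq_zero_of_le hk h
    obtain ⟨k, rfl⟩ : ∃ k, r = k + 1 := ⟨r - 1, by omega⟩
    rw [hsum, hpow, hshift, h0 (k + 1) (by omega), h0 k (by omega), mul_zero, zero_mul, add_zero]
  have hsq : ∀ f : AddMonoid.End V, (f + 1) ^ 2 = f ^ 2 + 1 := fun f => by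
    rw [sq, sq, mul_add, add_mul, mul_one, one_mul]
    calc f * f + f + (f + 1) = f * f + 1 + (f + f) := by abel
      _ = _ := by rw [h2, add_zero]
  have hfrob : ∀ (f : AddMonoid.End V) (j : ℕ), (f + 1) ^ 2 ^ j = f ^ 2 ^ j + 1 := by
    intro f j
    induction j with
    | zero => simp
    | succ j ih => rw [pow_succ, pow_mul, ih, hsq, ← pow_mul, ← pow_succ]
  have hfac : (a + 1) ^ 2 = a * (a + b) := by rw [hsq, mul_add, hab, sq]
  have hcomm : Commute a (a + b) := (Commute.refl a).add_right (hab.trans hba.symm)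
  refine ⟨m + 2, ?_⟩
  have hz : (a + 1) ^ 2 ^ (m + 2) = 0 := by
    rw [pow_succ' 2 (m + 1), pow_mul, hfac, hcomm.mul_pow,
      hzero _ (Nat.lt_two_pow_self).le, mul_zero]
  rw [hfrob] at hz
  calc a ^ 2 ^ (m + 2) = a ^ 2 ^ (m + 2) + 1 + 1 := by rw [add_assoc, h2, add_zero]
    _ = 1 := by rw [hz, zero_add]

theorem not_nilpotent (hV2 : ∀ x : V, x + x = 0) {N M : AddMonoid.End V}
    (hN : N * N = 0) (hM : M * M = 0) (h : ∀ j, ((1 + N) * (1 + M)) ^ 2 ^ j ≠ 1) :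
    ∀ m, (N * M) ^ m ≠ 0 := fun _ hm => let ⟨j, hj⟩ := exists_pow_eq_one_of_nilpotent hV2 hN hM hm; h j hj

/-- The nilpotent part of an involution squares to zero. -/
theorem sq_zero_of_invol (hV2 : ∀ x : V, x + x = 0) {N : AddMonoid.End V} (h : (1 + N) * (1 + N) = 1) :
    N * N = 0 := by
  refine AddMonoidHom.ext fun x => ?_
  have h1 := DFunLike.congr_fun h x
  simp only [End_mul_apply, End_add_apply, map_add] at h1
  change x + N x + (N x + N (N x)) = x at h1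
  rw [add_assoc, ← add_assoc (N x), hV2, zero_add, add_eq_left] at h1
  exact h1

/-- A commutative subring of endomorphisms with no invariant subgroups is a field acting regularly. -/
theorem exists_field (W : Type v) [AddCommGroup W] [Finite W] (θ ψ : AddMonoid.End W) (hc : Commute θ ψ)
    (hW2 : ∀ x : W, x + x = 0)
    (hirr : ∀ U : AddSubgroup W, (∀ x ∈ U, θ x ∈ U) → (∀ x ∈ U, ψ x ∈ U) → U = ⊥ ∨ U = ⊤)
    {x₀ : W} (hx₀ : x₀ ≠ 0) :
    ∃ (κ : Type v) (_ : Field κ) (_ : Finite κ) (_ : CharP κ 2) (e : κ ≃+ W) (a b : κ),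
      e 1 = x₀ ∧ (∀ y, θ (e y) = e (a * y)) ∧ (∀ y, ψ (e y) = e (b * y)) := by
  have hs : ∀ f ∈ ({θ, ψ} : Set (AddMonoid.End W)), ∀ g ∈ ({θ, ψ} : Set (AddMonoid.End W)),
      f * g = g * f := by
    rintro f (rfl | rfl) g (rfl | rfl)
    exacts [rfl, hc, hc.symm, rfl]
  set K := Subring.closure ({θ, ψ} : Set (AddMonoid.End W))
  have hθK : θ ∈ K := Subring.subset_closure (Or.inl rfl)
  have hψK : ψ ∈ K := Subring.subset_closure (Or.inr rfl)
  have hcomm : ∀ f ∈ K, ∀ g ∈ K, f * g = g * f := by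
    have := Subring.isMulCommutative_closure hs
    exact fun f hf g hg => congrArg Subtype.val (mul_comm' (⟨f, hf⟩ : K) ⟨g, hg⟩)
  letI : CommRing K :=
    { (inferInstance : Ring K) with mul_comm := fun f g => Subtype.ext (hcomm f f.2 g g.2) }
  have hinj : ∀ f : K, f ≠ 0 → ∀ x, (f : AddMonoid.End W) x = 0 → x = 0 := by
    intro f hf x hx
    have hker : ∀ g ∈ K, ∀ y, (f : AddMonoid.End W) y = 0 → (f : AddMonoid.End W) (g y) = 0 := by
      intro g hg y hy
      rw [← End_mul_apply, hcomm f f.2 g hg, End_mul_apply, hy, map_zero]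
    rcases hirr (AddMonoidHom.ker (f : AddMonoid.End W)) (fun y hy => hker θ hθK y hy)
      (fun y hy => hker ψ hψK y hy) with h | h
    · exact AddSubgroup.mem_bot.1 (h ▸ (hx : x ∈ AddMonoidHom.ker (f : AddMonoid.End W)))
    · exact absurd (Subtype.ext (AddMonoidHom.ext fun y =>
        (AddMonoidHom.mem_ker.1 (h ▸ AddSubgroup.mem_top y : y ∈ AddMonoidHom.ker (f : AddMonoid.End W))))) hf
  haveI : Finite K := Finite.of_injective (fun f : K => ((f : AddMonoid.End W) : W → W))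
    fun f g h => Subtype.ext (DFunLike.coe_injective h)
  haveI : Nontrivial K := ⟨0, 1, fun h => hx₀ (DFunLike.congr_fun (congrArg Subtype.val h) x₀).symm⟩
  haveI : NoZeroDivisors K := ⟨fun {f g} h => by
    by_cases hf : f = 0
    · exact Or.inl hf
    · exact Or.inr (Subtype.ext (AddMonoidHom.ext fun y =>
        hinj f hf _ (DFunLike.congr_fun (congrArg Subtype.val h) y)))⟩
  haveI : IsDomain K := NoZeroDivisors.to_isDomain _
  letI : Field K := (Finite.isField_of_domain K).toField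
  let o : K →+ W :=
    { toFun := fun f => (f : AddMonoid.End W) x₀, map_zero' := rfl, map_add' := fun _ _ => rfl }
  have hoinj : Function.Injective o := (injective_iff_map_eq_zero o).2 fun f hf => by
    by_contra h
    exact hx₀ (hinj f h x₀ hf)
  have hrange : o.range = ⊤ := by
    refine (hirr o.range ?_ ?_).resolve_left fun h => hx₀ ?_
    · rintro _ ⟨f, rfl⟩; exact ⟨⟨θ, hθK⟩ * f, rfl⟩
    · rintro _ ⟨f, rfl⟩; exact ⟨⟨ψ, hψK⟩ * f, rfl⟩
    · exact AddSubgroup.mem_bot.1 (h ▸ (⟨1, rfl⟩ : x₀ ∈ o.range))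
  have h2 : (2 : K) = 0 := by
    rw [← one_add_one_eq_two]
    exact Subtype.ext (AddMonoidHom.ext fun y => hW2 y)
  refine ⟨K, inferInstance, inferInstance, CharP.charP_iff_prime_eq_zero Nat.prime_two |>.2 (by exact_mod_cast h2),
    AddEquiv.ofBijective o ⟨hoinj, fun y => AddMonoidHom.mem_range.1 (hrange ▸ AddSubgroup.mem_top y)⟩,
    ⟨θ, hθK⟩, ⟨ψ, hψK⟩, rfl, fun _ => rfl, fun _ => rfl⟩

variable [Finite V] {ρ : X →* AddMonoid.End V}

/-- The plane lemma. -/
theorem plane_lemma (hV2 : ∀ x : V, x + x = 0) {s u w : X} {N M ψ : AddMonoid.End V}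
    (hs : ρ s = 1 + N) (hu : ρ u = 1 + M) (hw : ρ w = 1 + ψ * M) (hN : N * N = 0) (hM : M * M = 0)
    (hψN : Commute ψ N) (hψM : Commute ψ M) (h0 : ∀ x, ψ (N x) = 0 → N x = 0)
    (h1 : ∀ x, ψ (N x) = N x → N x = 0) (hnil : ∀ m, (N * M) ^ m ≠ 0) :
    ∃ (H : Subgroup X) (φ : H →* Equiv.Perm (Fin 3)), Function.Surjective φ ∧ ∀ x : H, ρ x = 1 → φ x = 1 := by
  set θ := N * M with hθ
  haveI : Finite (AddMonoid.End V) := Finite.of_injective _ (DFunLike.coe_injective (F := V →+ V))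
  obtain ⟨a, b, hab, hpow⟩ : ∃ a b : ℕ, a < b ∧ θ ^ a = θ ^ b := by
    obtain ⟨i, j, hne, he⟩ := Finite.exists_ne_map_eq_of_infinite fun n : ℕ => θ ^ n
    rcases lt_or_gt_of_ne hne with h | h
    exacts [⟨i, j, h, he⟩, ⟨j, i, h, he.symm⟩]
  set W₀ := AddMonoidHom.range (θ ^ (a + 1))
  have hθψ : Commute θ ψ := (hψN.mul_right hψM).symm
  have hinj₀ : ∀ x ∈ W₀, θ x = 0 → x = 0 := by
    rintro _ ⟨x, rfl⟩ hx
    have e : θ ^ (a + 1) = θ ^ (b - a - 1) * (θ * θ ^ (a + 1)) := by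
      rw [← pow_succ' θ (a + 1), ← pow_add, show b - a - 1 + (a + 1 + 1) = b + 1 by omega, pow_succ θ b,
        ← hpow, ← pow_succ]
    calc (θ ^ (a + 1)) x = (θ ^ (b - a - 1)) (θ ((θ ^ (a + 1)) x)) := DFunLike.congr_fun e x
      _ = 0 := (congrArg (θ ^ (b - a - 1)) hx).trans (map_zero _)
  have hW₀N : ∀ x ∈ W₀, ∃ y, N y = x := by
    rintro _ ⟨x, rfl⟩
    exact ⟨M ((θ ^ a) x), (DFunLike.congr_fun (pow_succ' θ a) x).symm⟩
  have hmove : ∀ f, Commute f θ → ∀ x ∈ W₀, f x ∈ W₀ := by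
    rintro f hf _ ⟨x, rfl⟩
    exact ⟨f x, (DFunLike.congr_fun (hf.pow_right (a + 1)).eq x).symm⟩
  obtain ⟨W, hW⟩ := Set.Finite.exists_minimal
    (s := {U : AddSubgroup V | U ≠ ⊥ ∧ U ≤ W₀ ∧ (∀ x ∈ U, θ x ∈ U) ∧ ∀ x ∈ U, ψ x ∈ U}) (Set.toFinite _)
    ⟨W₀, fun h => hnil (a + 1) (AddMonoidHom.ext fun x =>
      AddSubgroup.mem_bot.1 (h ▸ (⟨x, rfl⟩ : (θ ^ (a + 1)) x ∈ W₀))), le_rfl,
      hmove θ (Commute.refl _), hmove ψ hθψ.symm⟩
  obtain ⟨hWb, hW₀', hWθ, hWψ⟩ := hW.prop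
  obtain ⟨x₀, hx₀W, hx₀⟩ : ∃ x ∈ W, x ≠ (0 : V) := by
    by_contra h
    push Not at h
    exact hWb (eq_bot_iff.2 fun x hx => AddSubgroup.mem_bot.2 (h x hx))
  let θW : AddMonoid.End W :=
    { toFun := fun x => ⟨θ x, hWθ x x.2⟩
      map_zero' := Subtype.ext (map_zero θ), map_add' := fun x y => Subtype.ext (map_add θ x.1 y.1) }
  let ψW : AddMonoid.End W :=
    { toFun := fun x => ⟨ψ x, hWψ x x.2⟩
      map_zero' := Subtype.ext (map_zero ψ), map_add' := fun x y => Subtype.ext (map_add ψ x.1 y.1) }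
  have hirr : ∀ U : AddSubgroup W, (∀ x ∈ U, θW x ∈ U) → (∀ x ∈ U, ψW x ∈ U) → U = ⊥ ∨ U = ⊤ := by
    intro U hU1 hU2
    by_cases hU : U = ⊥
    · exact Or.inl hU
    refine Or.inr (eq_top_iff.2 fun x _ => ?_)
    have hmem : U.map W.subtype ∈
        {U : AddSubgroup V | U ≠ ⊥ ∧ U ≤ W₀ ∧ (∀ x ∈ U, θ x ∈ U) ∧ ∀ x ∈ U, ψ x ∈ U} := by
      refine ⟨fun h => hU ((AddSubgroup.map_eq_bot_iff_of_injective _ Subtype.val_injective).1 h),
        fun _ ⟨y, _, hy⟩ => hy ▸ hW₀' y.2, ?_, ?_⟩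
      · rintro _ ⟨y, hy, rfl⟩; exact ⟨θW y, hU1 y hy, rfl⟩
      · rintro _ ⟨y, hy, rfl⟩; exact ⟨ψW y, hU2 y hy, rfl⟩
    obtain ⟨y, hy, hyx⟩ := hW.le_of_le hmem (fun _ ⟨y, _, hy⟩ => hy ▸ y.2) x.2
    exact (Subtype.ext hyx : y = x) ▸ hy
  obtain ⟨κ, _, _, _, e, ta, tb, -, hea, heb⟩ := exists_field W θW ψW
    (AddMonoidHom.ext fun x => Subtype.ext (DFunLike.congr_fun hθψ.eq (x : V)))
    (fun x => Subtype.ext (hV2 x)) hirr (x₀ := ⟨x₀, hx₀W⟩) fun h => hx₀ (congrArg Subtype.val h)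
  have hθe : ∀ y, N (M (e y : V)) = (e (ta * y) : V) := fun y => congrArg Subtype.val (hea y)
  have hψe : ∀ y, ψ (e y : V) = (e (tb * y) : V) := fun y => congrArg Subtype.val (heb y)
  have hNN : ∀ x, N (N x) = 0 := fun x => DFunLike.congr_fun hN x
  have hMM : ∀ x, M (M x) = 0 := fun x => DFunLike.congr_fun hM x
  have hNe : ∀ y, N (e y : V) = 0 := fun y => by
    obtain ⟨z, hz⟩ := hW₀N _ (hW₀' (e y).2)
    rw [← hz, hNN]
  have he1 : ((e 1 : W) : V) ≠ 0 := fun h => one_ne_zero (e.injective ((Subtype.ext h).trans (map_zero e).symm))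
  obtain ⟨z₁, hz₁⟩ := hW₀N _ (hW₀' (e 1).2)
  have hta : ta ≠ 0 := fun h => he1 (hinj₀ _ (hW₀' (e 1).2) (by
    show N (M (e 1 : V)) = 0
    rw [hθe, h, zero_mul, map_zero]; rfl))
  have htb : tb ≠ 0 := fun h => he1 (by
    rw [← hz₁]
    refine h0 z₁ ?_
    rw [hz₁, hψe, h, zero_mul, map_zero]; rfl)
  have htb1 : tb ≠ 1 := fun h => he1 (by
    rw [← hz₁]
    refine h1 z₁ ?_
    rw [hz₁, hψe, h, one_mul])
  let ι : κ × κ →+ V :=
    { toFun := fun p => (e p.1 : V) + M (e p.2 : V)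
      map_zero' := by simp
      map_add' := fun p q => by
        simp only [Prod.fst_add, Prod.snd_add, map_add, AddSubgroup.coe_add]; abel }
  have hι : ∀ p, ι p = (e p.1 : V) + M (e p.2 : V) := fun _ => rfl
  have hιinj : Function.Injective ι := (injective_iff_map_eq_zero ι).2 fun p hp => by
    rw [hι] at hp
    have h := congrArg N hp
    rw [map_add, hNe, hθe, zero_add, map_zero] at h
    have h2 : ta * p.2 = 0 := e.injective ((Subtype.ext h).trans (map_zero e).symm)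
    have hp2 : p.2 = 0 := (mul_eq_zero.1 h2).resolve_left hta
    rw [hp2, map_zero, AddSubgroup.coe_zero, map_zero, add_zero] at hp
    exact Prod.ext (e.injective ((Subtype.ext hp).trans (map_zero e).symm)) hp2
  let H : Submonoid ((κ × κ) ≃ₗ[κ] (κ × κ)) :=
  { carrier := {f | ∃ g : X, ∀ p, ρ g (ι p) = ι (f p)}
    one_mem' := ⟨1, fun p => act_one ρ _⟩
    mul_mem' := by
      rintro f f' ⟨g, hg⟩ ⟨g', hg'⟩
      exact ⟨g * g', fun p => by rw [act_mul, hg', hg]; rfl⟩ }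
  letI : Fintype κ := Fintype.ofFinite κ
  obtain ⟨r, hr⟩ := FiniteField.isSquare_of_char_two (ringChar.eq κ 2) ta
  obtain ⟨c, hc⟩ := FiniteField.isSquare_of_char_two (ringChar.eq κ 2) tb
  have hr0 : r ≠ 0 := fun h => hta (by rw [hr, h, zero_mul])
  have hc0 : c ≠ 0 := fun h => htb (by rw [hc, h, zero_mul])
  have hc1 : c ≠ 1 := fun h => htb1 (by rw [hc, h, one_mul])
  have hx : tv ((r, 0) : κ × κ) ∈ H := ⟨s, fun p => by
    have hp : tv ((r, 0) : κ × κ) p = (p.1 + ta * p.2, p.2) := by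
      rw [hr]; ext <;> simp [tv_apply, omega]; all_goals ring
    have hN' : N ((e p.1 : V) + M (e p.2 : V)) = (e (ta * p.2) : V) :=
      (map_add N _ _).trans (by rw [hNe, zero_add, hθe])
    rw [hp, hι, hι, hs]
    show (e p.1 : V) + M (e p.2 : V) + N ((e p.1 : V) + M (e p.2 : V)) =
      (e (p.1 + ta * p.2) : V) + M (e p.2 : V)
    rw [hN']
    rw [map_add, AddSubgroup.coe_add]; abel⟩
  have hy : tv ((0, 1) : κ × κ) ∈ H := ⟨u, fun p => by
    have hp : tv ((0, 1) : κ × κ) p = (p.1, p.2 + p.1) := by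
      ext <;> simp [tv_apply, omega]
    have hM' : M ((e p.1 : V) + M (e p.2 : V)) = M (e p.1 : V) :=
      (map_add M _ _).trans (by rw [hMM, add_zero])
    rw [hp, hι, hι, hu]
    show (e p.1 : V) + M (e p.2 : V) + M ((e p.1 : V) + M (e p.2 : V)) =
      (e p.1 : V) + M (e (p.2 + p.1) : V)
    rw [hM']
    rw [map_add, AddSubgroup.coe_add, map_add]; abel⟩
  have hz : tv ((0, c) : κ × κ) ∈ H := ⟨w, fun p => by
    have hp : tv ((0, c) : κ × κ) p = (p.1, p.2 + tb * p.1) := by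
      rw [hc]; ext <;> simp [tv_apply, omega]; all_goals ring
    have hM' : ψ (M ((e p.1 : V) + M (e p.2 : V))) = M (e (tb * p.1) : V) := by
      have h := (map_add M (e p.1 : V) (M (e p.2 : V))).trans (by rw [hMM, add_zero])
      rw [h, ← hψe]
      exact DFunLike.congr_fun hψM.eq _
    rw [hp, hι, hι, hw]
    show (e p.1 : V) + M (e p.2 : V) + ψ (M ((e p.1 : V) + M (e p.2 : V))) =
      (e p.1 : V) + M (e (p.2 + tb * p.1) : V)
    rw [hM']
    rw [map_add, AddSubgroup.coe_add, map_add]; abel⟩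
  obtain ⟨v, v', ⟨g, hg⟩, ⟨g', hg'⟩, hvv⟩ := exists_omega_one hr0 hc0 hc1 hx hy hz
  have hne : v ≠ 0 ∧ v' ≠ 0 ∧ v ≠ v' := by
    refine ⟨?_, ?_, ?_⟩
    · rintro rfl; simp [omega] at hvv
    · rintro rfl; simp [omega] at hvv
    · rintro rfl; exact zero_ne_one ((omega_self v).symm.trans hvv)
  refine exists_hom_perm_three ρ hV2 (ι v) (ι v') g g' (fun h => hne.1 (hιinj (h.trans (map_zero ι).symm)))
    (fun h => hne.2.1 (hιinj (h.trans (map_zero ι).symm))) (fun h => hne.2.2 (hιinj h)) ?_ ?_ ?_ ?_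
  · rw [hg, tv_self]
  · rw [hg, tv_apply, omega_comm, hvv, one_smul, map_add, add_comm]
  · rw [hg', tv_self]
  · rw [hg', tv_apply, hvv, one_smul, map_add]

theorem false_of_plane (hS3 : ¬ Cfsg.Involves (Equiv.Perm (Fin 3)) X) (hV2 : ∀ x : V, x + x = 0) {s u w : X}
    {N M ψ : AddMonoid.End V}
    (hs : ρ s = 1 + N) (hu : ρ u = 1 + M) (hw : ρ w = 1 + ψ * M) (hN : N * N = 0) (hM : M * M = 0)
    (hψN : Commute ψ N) (hψM : Commute ψ M) (h0 : ∀ x, ψ (N x) = 0 → N x = 0)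
    (h1 : ∀ x, ψ (N x) = N x → N x = 0) (hnil : ∀ m, (N * M) ^ m ≠ 0) : False :=
  let ⟨H, φ, hφ, _⟩ := plane_lemma hV2 hs hu hw hN hM hψN hψM h0 h1 hnil
  hS3 (LocalEven.Involved.involves_of_hom H φ hφ)

/-- An element moving as a scalar multiple of another transvection on an irreducible module gives a section
isomorphic to the symmetric group of degree three. -/
theorem false_of_scalar [Finite X] (hS3 : ¬ Cfsg.Involves (Equiv.Perm (Fin 3)) X)
    (hV2 : ∀ x : V, x + x = 0)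
    (hirr : ∀ U : AddSubgroup V, (∀ g, ∀ x ∈ U, ρ g x ∈ U) → U = ⊥ ∨ U = ⊤) {s t : X}
    {N ψ : AddMonoid.End V} (hs : ρ s = 1 + N) (hN : N * N = 0) (hN0 : N ≠ 0) (ht : ρ t = 1 + ψ * N)
    (hψ : ∀ g, Commute ψ (ρ g)) (hψ0 : ψ ≠ 0) (hψ1 : ψ ≠ 1) : False := by
  haveI : Fact (Nat.Prime 2) := ⟨Nat.prime_two⟩
  have hinj : ∀ f : AddMonoid.End V, f ≠ 0 → (∀ g, Commute f (ρ g)) → ∀ x, f x = 0 → x = 0 := by
    intro f hf hc x hx
    rcases hirr (AddMonoidHom.ker f) (fun g y hy => by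
      show f (ρ g y) = 0
      have h3 : f y = 0 := hy
      rw [← End_mul_apply, (hc g).eq, End_mul_apply, h3, map_zero]) with h | h
    · exact AddSubgroup.mem_bot.1 (h ▸ (hx : x ∈ AddMonoidHom.ker f))
    · exact absurd (AddMonoidHom.ext fun y => AddMonoidHom.mem_ker.1 (h ▸ AddSubgroup.mem_top y :
        y ∈ AddMonoidHom.ker f)) hf
  have h2 : ∀ f : AddMonoid.End V, f + f = 0 := fun f => AddMonoidHom.ext fun x => hV2 (f x)
  let σ : X ⧸ ρ.ker →* AddMonoid.End V := QuotientGroup.lift ρ.ker ρ fun _ hx => hx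
  have hσ : ∀ y, σ y = 1 → y = 1 := fun y => QuotientGroup.induction_on y fun g hg =>
    (QuotientGroup.eq_one_iff _).2 (MonoidHom.mem_ker.2 hg)
  set a : X ⧸ ρ.ker := QuotientGroup.mk s with ha
  have ha2 : a * a = 1 := hσ _ (by
    show ρ (s * s) = 1
    rw [map_mul, hs, mul_add, add_mul, add_mul, hN, mul_one, one_mul, mul_one, add_zero, add_assoc, h2,
      add_zero])
  have haQ : a ∉ Cfsg.pCore 2 (X ⧸ ρ.ker) := by
    intro haQ
    set Q := Cfsg.pCore 2 (X ⧸ ρ.ker)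
    haveI : Q.Normal := Cfsg.pCore_normal 2 _
    obtain ⟨v₀, hv₀⟩ : ∃ v, v ≠ (0 : V) := by
      by_contra h
      push Not at h
      exact hN0 (AddMonoidHom.ext fun x => h (N x))
    obtain ⟨v, hv0, hv⟩ := exists_fixed_ne_zero (ρ := σ) hV2 (R := Q) CfsgLib.PCore.pCore_isPGroup (v₀ := v₀) hv₀
    rcases hirr (fixedPts σ Q) (fun g x hx => by
      have h := (act_mem_fixedPts_conj σ Q (QuotientGroup.mk g)).2 hx
      rwa [CfsgLib.Techniques.map_conj_eq_self_iff.2 (Subgroup.normalizer_eq_top Q ▸ Subgroup.mem_top _)] at h)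
      with h | h
    · exact hv0 (AddSubgroup.mem_bot.1 (h ▸ hv))
    · refine hN0 (AddMonoidHom.ext fun x => ?_)
      have h3 : ρ s x = x := (h ▸ AddSubgroup.mem_top x : x ∈ fixedPts σ Q) a haQ
      rw [hs, End_add_apply] at h3
      exact add_eq_left.1 h3
  obtain ⟨q, k, hodd, hne, -⟩ := CfsgLib.Techniques.JeTwo.exists_inverted ha2 haQ
  obtain ⟨g, rfl⟩ := QuotientGroup.mk_surjective q
  set M := ρ g * N * ρ g⁻¹ with hMdef
  have hgg : ρ g⁻¹ * ρ g = 1 := by rw [← map_mul, inv_mul_cancel, map_one]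
  have hgg' : ρ g * ρ g⁻¹ = 1 := by rw [← map_mul, mul_inv_cancel, map_one]
  have hu : ρ (g * s * g⁻¹) = 1 + M := by
    rw [map_mul, map_mul, hs, mul_add, mul_one, add_mul, hgg']
  have hM : M * M = 0 := by
    calc M * M = ρ g * N * (ρ g⁻¹ * ρ g) * N * ρ g⁻¹ := by rw [hMdef]; simp only [mul_assoc]
      _ = ρ g * (N * N) * ρ g⁻¹ := by rw [hgg, mul_one, mul_assoc (ρ g) N N]
      _ = 0 := by rw [hN, mul_zero, zero_mul]
  have hw : ρ (g * t * g⁻¹) = 1 + ψ * M := by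
    rw [map_mul, map_mul, ht, mul_add, mul_one, add_mul, hgg', hMdef, ← mul_assoc, ← mul_assoc,
      ← (hψ g).eq, mul_assoc (ψ * ρ g) N]
    simp only [mul_assoc]
  have hψN : Commute ψ N := by
    have h := (hψ s).eq
    rw [hs, mul_add, add_mul, mul_one, one_mul] at h
    exact add_left_cancel h
  have hψM : Commute ψ M := ((hψ g).mul_right hψN).mul_right (hψ g⁻¹)
  have hψ1' : ψ + 1 ≠ 0 := fun h => hψ1 (by rw [← add_zero ψ, ← h2 1, ← add_assoc, h, zero_add])
  refine false_of_plane hS3 hV2 hs hu hw hN hM hψN hψM (fun x hx => hinj ψ hψ0 hψ _ hx)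
    (fun x hx => hinj (ψ + 1) hψ1' (fun g => (hψ g).add_left (Commute.one_left _)) _
      (by rw [End_add_apply, hx]; exact hV2 (N x))) (not_nilpotent hV2 hN hM fun j hj => hne ?_)
  have h4 : σ ((a * ((QuotientGroup.mk g : X ⧸ ρ.ker) * a * (QuotientGroup.mk g)⁻¹)) ^ 2 ^ j) = 1 := by
    rw [map_pow]
    show (ρ (s * (g * s * g⁻¹))) ^ 2 ^ j = 1
    rw [map_mul, hs, hu]; exact hj
  have h5 := hσ _ h4
  refine orderOf_eq_one_iff.1 ?_
  obtain ⟨i, -, hi⟩ := (Nat.dvd_prime_pow Nat.prime_two).1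
    ((orderOf_pow_dvd _).trans (orderOf_dvd_of_pow_eq_one h5) : orderOf ((a *
      ((QuotientGroup.mk g : X ⧸ ρ.ker) * a * (QuotientGroup.mk g)⁻¹)) ^ 2 ^ k) ∣ 2 ^ j)
  rcases i with _ | i
  · rw [hi, pow_zero]
  · exact absurd hodd (by rw [hi, Nat.not_odd_iff_even]; exact (Nat.even_pow.2 ⟨even_two, by omega⟩))

end CfsgLib.Stellmacher.Plane
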