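import Cfsg.Agent.Lib.Stellmacher.Module
import Mathlib.GroupTheory.QuotientGroup.Defs
import Mathlib.GroupTheory.Perm.Subgroup
import Mathlib.Data.Fintype.Pigeonhole

set_option autoImplicit false
set_option linter.unusedSectionVars false

/-! Elementary facts on elements of odd order acting on an elementary abelian 2-group. -/

namespace CfsgLib.Stellmacher

variable {G : Type*} [Group G] [Finite G] {X : Type*} [AddCommGroup X] [DistribMulAction G X]

theorem exists_card_two_pow [Finite X] (h2 : ∀ x : X, x + x = 0) : ∃ n, Nat.card X = 2 ^ n := by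
  haveI : Fact (Nat.Prime 2) := ⟨Nat.prime_two⟩
  have hp : IsPGroup 2 (Multiplicative X) := isPGroup_iff_pow_pow_eq_one.mpr fun x =>
    ⟨1, Multiplicative.toAdd.injective (by
      rw [pow_one, toAdd_pow, toAdd_one, two_nsmul]; exact h2 _)⟩
  obtain ⟨n, hn⟩ := IsPGroup.iff_card.1 hp
  exact ⟨n, (Nat.card_congr Multiplicative.ofAdd).trans hn⟩

theorem exists_relIndex_two_pow [Finite X] (h2 : ∀ x : X, x + x = 0) (H K : AddSubgroup X) :
    ∃ n, H.relIndex K = 2 ^ n := by
  obtain ⟨m, hm⟩ := exists_card_two_pow h2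
  obtain ⟨n, -, hn⟩ := (Nat.dvd_prime_pow Nat.prime_two).1
    (((H.addSubgroupOf K).index_dvd_card.trans (AddSubgroup.card_addSubgroup_dvd_card K)).trans
      hm.dvd)
  exact ⟨n, hn⟩

theorem exists_relIndex_two_pow_group {S : Subgroup G} (hS : IsPGroup 2 S) {T : Subgroup G} (hT : T ≤ S)
    (H : Subgroup G) : ∃ n, H.relIndex T = 2 ^ n := by
  haveI : Fact (Nat.Prime 2) := ⟨Nat.prime_two⟩
  exact (hS.to_le hT).index (H.subgroupOf T)

theorem two_mul_le_of_lt {a b : ℕ} (ha : ∃ i, a = 2 ^ i) (hb : ∃ j, b = 2 ^ j) (h : a < b) : 2 * a ≤ b := by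
  obtain ⟨i, rfl⟩ := ha
  obtain ⟨j, rfl⟩ := hb
  rw [← pow_succ']
  exact Nat.pow_le_pow_right (by norm_num) ((Nat.pow_lt_pow_iff_right (by norm_num)).1 h)

theorem pow_smul_eq_add (d : G) {x : X} (h : d • (d • x - x) = d • x - x) :
    ∀ n : ℕ, d ^ n • x = x + n • (d • x - x) := by
  intro n
  induction n with
  | zero => simp
  | succ n ih =>
    have hn : d • (n • (d • x - x)) = n • (d • x - x) := by
      rw [smul_comm, h]
    rw [pow_succ', mul_smul, ih, smul_add, hn, succ_nsmul]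
    abel

/-- An element of odd order fixing its displacement fixes the vector. -/
theorem smul_eq_of_fixed_displacement (h2 : ∀ x : X, x + x = 0) {d : G} (hd : Odd (orderOf d)) {x : X}
    (h : d • (d • x - x) = d • x - x) : d • x = x := by
  have h1 := pow_smul_eq_add d h (orderOf d)
  rw [pow_orderOf_eq_one, one_smul, left_eq_add] at h1
  obtain ⟨k, hk⟩ := hd
  rw [hk, add_nsmul, mul_comm 2 k, mul_nsmul', two_nsmul, h2, nsmul_zero, one_nsmul, zero_add] at h1
  exact sub_eq_zero.1 h1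

theorem smul_eq_of_sq {d : G} (hd : Odd (orderOf d)) {x : X} (h : d • d • x = x) : d • x = x := by
  obtain ⟨k, hk⟩ := hd
  have hmem : d ∈ MulAction.stabilizer G x := by
    have h1 : d ^ 2 ∈ MulAction.stabilizer G x := by
      rw [MulAction.mem_stabilizer_iff, pow_two, mul_smul, h]
    have h2 : (d ^ 2) ^ (k + 1) = d := by
      rw [← pow_mul, show 2 * (k + 1) = orderOf d + 1 by omega, pow_succ, pow_orderOf_eq_one, one_mul]
    exact h2 ▸ pow_mem h1 _
  exact hmem

/-- A `q`-element, `q ≥ 5`, fixing a subgroup of index at most four of an invariant subgroup fixes it. -/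
theorem fixed_of_index_le_four [Finite X] (h2 : ∀ x : X, x + x = 0) {d : G} {q j : ℕ} (hq : q.Prime)
    (h5 : 5 ≤ q) (hd : orderOf d = q ^ j) {Z F : AddSubgroup X} (hFZ : F ≤ Z)
    (hZ : ∀ z ∈ Z, d • z ∈ Z) (hF : ∀ f ∈ F, d • f = f) (hidx : F.relIndex Z ≤ 4) :
    ∀ z ∈ Z, d • z = z := by
  intro z hz
  have hmem : ∀ n : ℕ, d ^ n • z ∈ Z := by
    intro n
    induction n with
    | zero => simpa using hz
    | succ n ih => rw [pow_succ', mul_smul]; exact hZ _ ih
  classical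
  haveI := Fintype.ofFinite (Z ⧸ F.addSubgroupOf Z)
  obtain ⟨i, k, hik, he⟩ := Fintype.exists_ne_map_eq_of_card_lt
    (fun i : Fin 5 => (QuotientAddGroup.mk (⟨d ^ (i : ℕ) • z, hmem i⟩ : Z) : Z ⧸ F.addSubgroupOf Z))
    (by
      rw [← Nat.card_eq_fintype_card, ← AddSubgroup.index_eq_card, Fintype.card_fin]
      exact Nat.lt_succ_of_le hidx)
  obtain ⟨i, k, hik, he⟩ : ∃ i k : ℕ, i < k ∧ k < 5 ∧ -(d ^ i • z) + d ^ k • z ∈ F := by
    rcases lt_or_gt_of_ne (Fin.val_ne_of_ne hik) with hlt | hlt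
    · exact ⟨i, k, hlt, k.2, AddSubgroup.mem_addSubgroupOf.1 (QuotientAddGroup.eq.1 he)⟩
    · exact ⟨k, i, hlt, i.2, AddSubgroup.mem_addSubgroupOf.1 (QuotientAddGroup.eq.1 he.symm)⟩
  have hfix : ∀ (n : ℕ) (f : X), f ∈ F → d ^ n • f = f := by
    intro n f hf
    induction n with
    | zero => simp
    | succ n ih => rw [pow_succ', mul_smul, ih, hF f hf]
  set m := k - i with hm
  set y := d ^ i • z with hy
  have hy' : d ^ k • z = d ^ m • y := by
    rw [hy, ← mul_smul, ← pow_add, hm, Nat.sub_add_cancel hik.le]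
  rw [hy'] at he
  have hodd : ∀ n : ℕ, Odd (orderOf (d ^ n)) := fun n => by
    obtain ⟨l, -, hl⟩ := (Nat.dvd_prime_pow hq).1 (hd ▸ orderOf_pow_dvd (x := d) n)
    rw [hl]
    exact (hq.odd_of_ne_two (by omega)).pow
  have hd1 : d ^ m • y = y := smul_eq_of_fixed_displacement h2 (hodd m)
    (hfix m _ (by rw [sub_eq_neg_add]; exact he.2))
  have hcop : m.Coprime (orderOf d) := by
    rw [hd]
    refine (Nat.Prime.coprime_iff_not_dvd hq).2 ?_ |>.symm.pow_right j
    intro hdvd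
    have := Nat.le_of_dvd (by omega) hdvd
    omega
  obtain ⟨n, hn⟩ := exists_pow_eq_self_of_coprime hcop
  have hdy : d • y = y := by
    rw [← hn]
    exact (pow_mem (show d ^ m ∈ MulAction.stabilizer G y from hd1) n :
      (d ^ m) ^ n ∈ MulAction.stabilizer G y)
  rw [hy, ← mul_smul, ← pow_succ', pow_succ, mul_smul] at hdy
  exact (smul_left_cancel_iff _).1 hdy

/-- A permutation of `q`-power order with a single fixed point. -/
theorem modEq_one_of_unique_fixed {Ω : Type*} [Finite Ω] {q j : ℕ} (hq : q.Prime) (π : Equiv.Perm Ω)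
    (hπ : π ^ q ^ j = 1) (ω : Ω) (hω : π ω = ω) (huniq : ∀ x, π x = x → x = ω) :
    Nat.card Ω ≡ 1 [MOD q] := by
  haveI := Fact.mk hq
  obtain ⟨l, -, hl⟩ := (Nat.dvd_prime_pow hq).1 (orderOf_dvd_of_pow_eq_one hπ)
  have hp : IsPGroup q (Subgroup.zpowers π) := IsPGroup.of_card (n := l) (by rw [Nat.card_zpowers, hl])
  refine (hp.card_modEq_card_fixedPoints Ω).trans ?_
  have h1 : Nat.card (MulAction.fixedPoints (Subgroup.zpowers π) Ω) = 1 := by
    rw [Nat.card_eq_one_iff_unique]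
    refine ⟨⟨fun x y => Subtype.ext ?_⟩, ⟨⟨ω, fun g => ?_⟩⟩⟩
    · rw [huniq x (x.2 ⟨π, Subgroup.mem_zpowers π⟩), huniq y (y.2 ⟨π, Subgroup.mem_zpowers π⟩)]
    · exact (Subgroup.zpowers_le.2 (show π ∈ MulAction.stabilizer (Equiv.Perm Ω) ω from hω) g.2 :
        (g : Equiv.Perm Ω) ∈ MulAction.stabilizer (Equiv.Perm Ω) ω)
  rw [h1]

/-- Two relations modulo `q` force `q = 3`. -/
theorem false_of_two_modEq {q t : ℕ} (h5 : 5 ≤ q) (h1 : 2 * t * (2 * t) ≡ 1 [MOD q])
    (h2 : t * t ≡ 1 [MOD q]) : False := by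
  have h3 : 2 * t * (2 * t) ≡ 4 [MOD q] := by
    have := h2.mul_left 4
    calc 2 * t * (2 * t) = 4 * (t * t) := by ring
      _ ≡ 4 * 1 [MOD q] := this
  have h4 := (h1.symm.trans h3)
  rw [Nat.ModEq, Nat.mod_eq_of_lt (by omega : 1 < q), Nat.mod_eq_of_lt (by omega : 4 < q)] at h4
  omega

end CfsgLib.Stellmacher
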