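import Cfsg.Agent.Lib.LocalEven.InvolvesFour
import Cfsg.Agent.Lib.PCore.Basic

set_option autoImplicit false

/-! Involutions of `G/O₂(G)` inverting elements of odd prime power order, for `S₄`-free groups in which
`O₂` contains its centralizer. -/

namespace CfsgLib.Stellmacher

open Subgroup CfsgLib.LocalEven.Involved
open scoped commutatorElement

variable {G : Type*} [Group G] [Finite G]

theorem mem_pCore_of_centralizes_frattini {q : ℕ} [Fact q.Prime] (hq : q ≠ 2)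
    (hC : centralizer (Cfsg.pCore 2 G : Set G) ≤ Cfsg.pCore 2 G) {P : Subgroup G} (hP : IsPGroup q P)
    (h : ∀ u ∈ P, ∀ t ∈ Cfsg.pCore 2 G, ⁅u, t⁆ ∈ (frattini ↥(Cfsg.pCore 2 G)).map (Cfsg.pCore 2 G).subtype) :
    P ≤ Cfsg.pCore 2 G := by
  haveI : Fact (Nat.Prime 2) := ⟨Nat.prime_two⟩
  haveI := Cfsg.pCore_normal 2 G
  exact (le_centralizer_of_le_centralizer_frattini (Ne.symm hq) CfsgLib.PCore.pCore_isPGroup hP h
    (le_normalizer_of_normal)).trans hC

/-- No involution modulo `O₂` inverts an element of order three. -/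
theorem not_inverts_three (hS4 : ¬ Cfsg.Involves (Equiv.Perm (Fin 4)) G)
    (hC : centralizer (Cfsg.pCore 2 G : Set G) ≤ Cfsg.pCore 2 G) {A x : G ⧸ Cfsg.pCore 2 G}
    (hA : orderOf A = 2) (hx : 3 ∣ orderOf x) (hinv : A * x * A⁻¹ = x⁻¹) : False := by
  haveI : Fact (Nat.Prime 2) := ⟨Nat.prime_two⟩
  haveI : Fact (Nat.Prime 3) := ⟨Nat.prime_three⟩
  haveI := Cfsg.pCore_normal 2 G
  set π := QuotientGroup.mk' (Cfsg.pCore 2 G) with hπ
  set y₀ := x ^ (orderOf x / 3) with hy₀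
  have hy₀o : orderOf y₀ = 3 := by
    rw [hy₀, orderOf_pow_of_dvd (Nat.div_pos (Nat.le_of_dvd (orderOf_pos x) hx) (by norm_num)).ne'
      (Nat.div_dvd_of_dvd hx), Nat.div_div_self hx (orderOf_pos x).ne']
  have hinv₀ : A * y₀ * A⁻¹ = y₀⁻¹ := by rw [hy₀, ← conj_pow, hinv, inv_pow]
  set N := Subgroup.zpowers y₀ with hN
  -- pass to the normalizer of `N`
  set K := (normalizer (N : Set (G ⧸ (Cfsg.pCore 2 G)))).comap π with hK
  have hAN : A ∈ normalizer (N : Set (G ⧸ (Cfsg.pCore 2 G))) := by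
    rw [mem_normalizer_iff_map_conj_eq, hN, MonoidHom.map_zpowers]
    show zpowers (A * y₀ * A⁻¹) = zpowers y₀
    rw [hinv₀, zpowers_inv]
  have hK' : Function.Surjective (π.subgroupComap (normalizer (N : Set (G ⧸ (Cfsg.pCore 2 G))))) :=
    π.subgroupComap_surjective_of_surjective _ (QuotientGroup.mk'_surjective (Cfsg.pCore 2 G))
  haveI : (N.subgroupOf (normalizer (N : Set (G ⧸ (Cfsg.pCore 2 G))))).Normal :=
    Subgroup.normal_subgroupOf_iff_le_normalizer le_normalizer |>.2 le_rfl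
  obtain ⟨a, P, ⟨k, hk⟩, hP, haP, haA, hPN⟩ := exists_lift_normalizing (p := 3)
    (π.subgroupComap (normalizer (N : Set (G ⧸ (Cfsg.pCore 2 G))))) hK'
    (N.subgroupOf (normalizer (N : Set (G ⧸ (Cfsg.pCore 2 G)))))
    (IsPGroup.comap_subtype (IsPGroup.of_card (n := 1) (by rw [pow_one, Nat.card_zpowers, hy₀o])))
    ⟨A, hAN⟩ (k := 1) (by rw [orderOf_mk, hA, pow_one])
  set P' := P.map K.subtype with hP'
  have hP'p : IsPGroup 3 P' := hP.map _
  have hP'N : P'.map π = N := by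
    have h1 := congrArg (fun U => U.map (normalizer (N : Set (G ⧸ (Cfsg.pCore 2 G)))).subtype) hPN
    simp only [map_subgroupOf_eq_of_le (le_normalizer : N ≤ _)] at h1
    conv_rhs => rw [← h1, Subgroup.map_map]
    rw [hP', Subgroup.map_map]
    rfl
  have hdis : Disjoint P' (Cfsg.pCore 2 G) :=
    IsPGroup.disjoint_of_ne 3 2 (by norm_num) P' (Cfsg.pCore 2 G) hP'p CfsgLib.PCore.pCore_isPGroup
  obtain ⟨y, hy, hyy⟩ : y₀ ∈ P'.map π := hP'N.ge (mem_zpowers y₀)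
  have hinj : ∀ u ∈ P', π u = 1 → u = 1 := fun u hu h =>
    Subgroup.disjoint_def.1 hdis hu ((QuotientGroup.eq_one_iff u).1 h)
  have hy3 : y ^ 3 = 1 := hinj _ (pow_mem hy 3) (by rw [map_pow, hyy, ← hy₀o, pow_orderOf_eq_one])
  have hne : y ∉ (Cfsg.pCore 2 G) := fun h => by
    have : π y = 1 := (QuotientGroup.eq_one_iff y).2 h
    rw [hyy] at this
    rw [this, orderOf_one] at hy₀o
    omega
  have haN : (a : G) ∈ normalizer (P' : Set G) := le_normalizer_map _ ⟨a, haP, rfl⟩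
  have haA' : π (a : G) = A := congrArg Subtype.val haA
  have hrel : (a : G) * y * (a : G)⁻¹ * y = 1 := by
    refine hinj _ (mul_mem ((mem_normalizer_iff.1 haN y).1 hy) hy) ?_
    rw [map_mul, map_mul, map_mul, map_inv, haA', hyy, hinv₀, inv_mul_cancel]
  have hpow : ∀ u ∈ P', ∃ i : ℕ, y ^ i * u = 1 := by
    intro u hu
    obtain ⟨i, hi⟩ := mem_powers_iff_mem_zpowers.2 (inv_mem (hP'N.le (mem_map_of_mem π hu)))
    refine ⟨i, hinj _ (mul_mem (pow_mem hy i) hu) ?_⟩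
    rw [map_mul, map_pow, hyy, show y₀ ^ i = (π u)⁻¹ from hi, inv_mul_cancel]
  -- the action on the Frattini quotient of `(Cfsg.pCore 2 G)`
  set Φ := (frattini ↥(Cfsg.pCore 2 G)).map (Cfsg.pCore 2 G).subtype with hΦ
  haveI : Φ.Normal := by
    haveI : (frattini ↥(Cfsg.pCore 2 G)).Characteristic := inferInstance
    exact ConjAct.normal_of_characteristic_of_normal
  set ρ := QuotientGroup.mk' Φ with hρ
  haveI : ((Cfsg.pCore 2 G).map ρ).Normal := Subgroup.Normal.map inferInstance ρ (QuotientGroup.mk'_surjective Φ)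
  have hel : Cfsg.IsElementaryAbelian 2 ((Cfsg.pCore 2 G).map ρ) := by
    refine ⟨⟨⟨?_⟩⟩, ?_⟩
    · rintro ⟨_, u, hu, rfl⟩ ⟨_, v, hv, rfl⟩
      refine Subtype.ext ?_
      show ρ u * ρ v = ρ v * ρ u
      rw [← commutatorElement_eq_one_iff_mul_comm, ← map_commutatorElement]
      exact (QuotientGroup.eq_one_iff _).2 ⟨⁅(⟨u, hu⟩ : (Cfsg.pCore 2 G)), ⟨v, hv⟩⁆,
        CfsgLib.PGroup.commutator_le_frattini CfsgLib.PCore.pCore_isPGroup
          (commutator_mem_commutator (mem_top _) (mem_top _)), rfl⟩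
    · rintro _ ⟨u, hu, rfl⟩
      rw [← map_pow]
      exact (QuotientGroup.eq_one_iff _).2 ⟨(⟨u, hu⟩ : (Cfsg.pCore 2 G)) ^ 2,
        CfsgLib.PGroup.pow_mem_frattini CfsgLib.PCore.pCore_isPGroup _, rfl⟩
  obtain ⟨k', -, hk'⟩ : ∃ k' ≤ k, orderOf (ρ a) = 2 ^ k' :=
    (Nat.dvd_prime_pow Nat.prime_two).1 ((orderOf_map_dvd ρ (a : G)).trans (by rw [orderOf_coe, hk]))
  refine hS4 (involves_of_surjective ρ (QuotientGroup.mk'_surjective Φ)
    (involves_four_of_action ((Cfsg.pCore 2 G).map ρ) hel (ρ a) (ρ y) (P'.map ρ) hk' (hP'p.map ρ)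
      (le_normalizer_map ρ ⟨a, haN, rfl⟩) (mem_map_of_mem ρ hy) (fun hc => hne ?_) ?_ ?_ ?_))
  · refine mem_pCore_of_centralizes_frattini (q := 3) (by norm_num) hC
      (P := zpowers y) (hP'p.to_le (zpowers_le.2 hy)) (fun u hu t ht => ?_) (mem_zpowers y)
    refine (QuotientGroup.eq_one_iff _).1 ?_
    show ρ ⁅u, t⁆ = 1
    rw [map_commutatorElement, commutatorElement_eq_one_iff_mul_comm]
    obtain ⟨i, rfl⟩ := mem_zpowers_iff.1 hu
    rw [map_zpow]
    exact ((Commute.symm (mem_centralizer_iff.1 hc _ (mem_map_of_mem ρ ht))).zpow_left i).eq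
  · rw [← map_pow, hy3, map_one]; exact one_mem _
  · rintro _ ⟨u, hu, rfl⟩
    obtain ⟨i, hi⟩ := hpow u hu
    exact ⟨i, by rw [← map_pow, ← map_mul, hi, map_one]; exact one_mem _⟩
  · rw [← map_inv, ← map_mul, ← map_mul, ← map_mul, hrel, map_one]; exact one_mem _

/-- Lifting an element of prime power order to one of prime power order among the powers of a given element. -/
theorem exists_pow_prime_power {H : Type*} [Group H] (π : G →* H) (g : G) {q i : ℕ} (hq : q.Prime)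
    (hg : orderOf (π g) = q ^ i) : ∃ (n j : ℕ), orderOf (g ^ n) = q ^ j ∧ π (g ^ n) = π g := by
  obtain ⟨j, m, hmq, hom⟩ := Nat.exists_eq_pow_mul_and_not_dvd (orderOf_pos g).ne' q hq.ne_one
  have hcop : (q ^ j).Coprime m := (hq.coprime_iff_not_dvd.2 hmq).pow_left j
  obtain ⟨n, hn1, hn0⟩ := Nat.chineseRemainder hcop 1 0
  obtain ⟨j', -, hj'⟩ : ∃ j' ≤ j, orderOf (g ^ n) = q ^ j' := by
    refine (Nat.dvd_prime_pow hq).1 (orderOf_dvd_of_pow_eq_one ?_)
    rw [← pow_mul, ← orderOf_dvd_iff_pow_eq_one, hom, mul_comm n]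
    exact mul_dvd_mul_left _ (Nat.modEq_zero_iff_dvd.1 hn0)
  refine ⟨n, j', hj', ?_⟩
  have hdvd : q ^ i ∣ q ^ j := by
    refine ((hq.coprime_iff_not_dvd.2 hmq).pow_left i).dvd_of_dvd_mul_right ?_
    rw [← hom, ← hg]
    exact orderOf_map_dvd π g
  conv_rhs => rw [← pow_one (π g)]
  rw [map_pow, pow_eq_pow_iff_modEq, hg]
  exact hn1.of_dvd hdvd

/-- An involution modulo `O₂` and a commutator with it of prime power order give a suitable element. -/
theorem exists_inverted_lift (hS4 : ¬ Cfsg.Involves (Equiv.Perm (Fin 4)) G)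
    (hC : centralizer (Cfsg.pCore 2 G : Set G) ≤ Cfsg.pCore 2 G) {a d₀ : G} {q i : ℕ} (hq : q.Prime)
    (hq2 : q ≠ 2) (ha2 : a * a ∈ Cfsg.pCore 2 G) (ha : a ∉ Cfsg.pCore 2 G)
    (hinv : a * d₀ * a⁻¹ * d₀ ∈ Cfsg.pCore 2 G)
    (hd₀ : orderOf (d₀ : G ⧸ Cfsg.pCore 2 G) = q ^ i) (hne : d₀ ∉ Cfsg.pCore 2 G) :
    5 ≤ q ∧ ∃ (n j : ℕ), orderOf (d₀ ^ n) = q ^ j ∧
      ((d₀ ^ n : G) : G ⧸ Cfsg.pCore 2 G) = (d₀ : G ⧸ Cfsg.pCore 2 G) := by
  haveI := Cfsg.pCore_normal 2 G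
  refine ⟨?_, exists_pow_prime_power (QuotientGroup.mk' (Cfsg.pCore 2 G)) d₀ hq hd₀⟩
  have hi : i ≠ 0 := by
    rintro rfl
    rw [pow_zero, orderOf_eq_one_iff, QuotientGroup.eq_one_iff] at hd₀
    exact hne hd₀
  have h3 : q ≠ 3 := by
    rintro rfl
    refine not_inverts_three hS4 hC (A := (a : G ⧸ Cfsg.pCore 2 G)) (x := (d₀ : G ⧸ Cfsg.pCore 2 G))
      (orderOf_eq_prime ?_ fun h => ha ((QuotientGroup.eq_one_iff a).1 h)) (hd₀ ▸ dvd_pow_self 3 hi) ?_
    · rw [pow_two, ← QuotientGroup.mk_mul, QuotientGroup.eq_one_iff]; exact ha2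
    · rw [eq_inv_iff_mul_eq_one, ← QuotientGroup.mk_inv, ← QuotientGroup.mk_mul, ← QuotientGroup.mk_mul,
        ← QuotientGroup.mk_mul, QuotientGroup.eq_one_iff]
      exact hinv
  by_contra hlt
  have := hq.two_le
  interval_cases q <;> simp_all [show ¬ Nat.Prime 4 by norm_num]

end CfsgLib.Stellmacher
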