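import Cfsg.Agent.Lib.Stellmacher.Conj
import Cfsg.Agent.Lib.Stellmacher.Lift
import Cfsg.Agent.S3754

set_option autoImplicit false

/-! A normal subgroup of a Sylow 2-subgroup with both properties lies in `O₂`. -/

namespace CfsgLib.Stellmacher

open Subgroup
open scoped commutatorElement

variable {G : Type*} [Group G] [Finite G]

theorem eq_of_pow_odd {d x y : G} (hd : Odd (orderOf d)) (hy2 : y * y = 1) (hdy : Commute d y)
    (h : d * d * x * (d * d)⁻¹ = y * x) : Commute d x := by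
  obtain ⟨k, hk⟩ := hd
  have key : ∀ n : ℕ, (d * d) ^ n * x * ((d * d) ^ n)⁻¹ = y ^ n * x := by
    intro n
    induction n with
    | zero => simp
    | succ n ih =>
      have hc : Commute (d * d) (y ^ n) := (hdy.mul_left hdy).pow_right n
      calc (d * d) ^ (n + 1) * x * ((d * d) ^ (n + 1))⁻¹
          = d * d * ((d * d) ^ n * x * ((d * d) ^ n)⁻¹) * (d * d)⁻¹ := by
            rw [pow_succ']; simp only [mul_inv_rev, mul_assoc]
        _ = d * d * y ^ n * x * (d * d)⁻¹ := by rw [ih]; group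
        _ = y ^ n * (d * d * x * (d * d)⁻¹) := by rw [hc.eq]; group
        _ = y ^ (n + 1) * x := by rw [h, pow_succ, mul_assoc]
  have h1 := key (2 * k + 1)
  rw [show (d * d) ^ (2 * k + 1) = 1 by
      rw [← hk, ← pow_two, ← pow_mul, mul_comm, pow_mul, pow_orderOf_eq_one, one_pow],
    pow_succ, pow_mul, pow_two, hy2, one_pow, one_mul, one_mul, inv_one, mul_one, right_eq_mul] at h1
  subst h1
  rw [one_mul] at h
  have hdd : Commute (d ^ 2) x := by rw [pow_two]; exact mul_inv_eq_iff_eq_mul.1 h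
  have hd' : (d ^ 2) ^ (k + 1) = d := by
    rw [← pow_mul, show 2 * (k + 1) = orderOf d + 1 by omega, pow_succ, pow_orderOf_eq_one, one_mul]
  exact hd' ▸ hdd.pow_left (k + 1)

/-- The module of an offending pair is centralized by `d`. -/
theorem le_pCore_of_piSub [Group.IsSolvable G] (hS4 : ¬ Cfsg.Involves (Equiv.Perm (Fin 4)) G)
    (hC : centralizer (Cfsg.pCore 2 G : Set G) ≤ Cfsg.pCore 2 G) (P : Sylow 2 G) {V : Subgroup G}
    (hV : PiSub (P : Subgroup G) V) (hVP : V ≤ (P : Subgroup G)) : V ≤ Cfsg.pCore 2 G := by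
  classical
  haveI : Fact (Nat.Prime 2) := ⟨Nat.prime_two⟩
  haveI := Cfsg.pCore_normal 2 G
  by_contra hnle
  set π := QuotientGroup.mk' (Cfsg.pCore 2 G) with hπdef
  have hπ : Function.Surjective π := QuotientGroup.mk'_surjective _
  have hQP : Cfsg.pCore 2 G ≤ (P : Subgroup G) := CfsgLib.PCore.pCore_le_sylow P
  have hVb : Cfsg.IsElementaryAbelian 2 (V.map π) := by
    refine ⟨CfsgLib.PLocal.isMulCommutative_of_forall ?_, ?_⟩
    · rintro _ ⟨s, hs, rfl⟩ _ ⟨t, ht, rfl⟩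
      rw [← map_mul, ← map_mul, hV.comm hs ht]
    · rintro _ ⟨t, ht, rfl⟩
      rw [← map_pow, hV.elem.2 t ht, map_one]
  have hVb1 : V.map π ≠ ⊥ := fun h => hnle fun v hv =>
    (QuotientGroup.eq_one_iff v).1 (mem_bot.1 (h ▸ mem_map_of_mem π hv))
  obtain ⟨Bb, hBb, hBi, hBne⟩ := Cfsg.Agent.S3754.exists_hyperplane
    (CfsgLib.PCore.isPSolvable_quotient CfsgLib.PCore.isPSolvable_of_isSolvable _)
    CfsgLib.PCore.pCore_quotient_pCore hVb hVb1
  set V₀ := V ⊓ Bb.comap π with hV₀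
  have hV₀V : V₀ ≤ V := inf_le_left
  have hidx : V₀.relIndex V = 2 := by rw [hV₀, inf_comm, inf_relIndex_right, relIndex_comap, hBi]
  obtain ⟨c, hc, hcV⟩ := SetLike.not_le_iff_exists.1 hBne
  obtain ⟨hcF, hcB⟩ := mem_inf.1 hc
  obtain ⟨g, rfl⟩ := hπ c
  obtain ⟨_, ⟨a, haV, rfl⟩, hga⟩ : ∃ w ∈ V.map π, ¬ Commute w (π g) := by
    by_contra! hall
    exact hcV (mem_centralizer_iff.2 fun w hw => hall w hw)
  have hVcb : ∀ v ∈ V, ∀ b ∈ Bb, Commute (π v) b := fun v hv b hb => congrArg Subtype.val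
    (hVb.1.1.comm (⟨π v, mem_map_of_mem π hv⟩ : V.map π) ⟨b, hBb hb⟩)
  have ha2 : a * a = 1 := by rw [← pow_two]; exact hV.elem.2 a haV
  have hainv : a⁻¹ = a := inv_eq_of_mul_eq_one_right ha2
  have haV₀ : a ∉ V₀ := fun h => hga (mem_centralizer_iff.1 hcB _ (mem_inf.1 h).2)
  have haQ : a ∉ Cfsg.pCore 2 G := fun h => hga (by
    rw [show π a = 1 from (QuotientGroup.eq_one_iff a).2 h]
    exact Commute.one_left _)
  -- the inverted element
  have hd₀a : a * ⁅g, a⁆ * a⁻¹ = (⁅g, a⁆)⁻¹ := by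
    rw [commutatorElement_def, mul_inv_rev, mul_inv_rev, mul_inv_rev, inv_inv, inv_inv, hainv]
    calc a * (g * a * g⁻¹ * a) * a = a * g * a * g⁻¹ * (a * a) := by group
      _ = a * (g * (a * g⁻¹)) := by rw [ha2]; group
  have hodd : (orderOf (π ⁅g, a⁆)).Coprime 2 := by
    refine CfsgLib.PCore.pPrimeCore_coprime.coprime_dvd_left (orderOf_dvd_natCard _ ?_)
    rw [map_commutatorElement]
    exact commutator_le_left (Cfsg.pPrimeCore 2 _) ⊤ (commutator_mem_commutator hcF (mem_top _))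
  have hne1 : π ⁅g, a⁆ ≠ 1 := fun h => hga (Commute.symm (by
    rw [map_commutatorElement, commutatorElement_eq_one_iff_mul_comm] at h
    exact h))
  set N := orderOf (π ⁅g, a⁆) with hN
  obtain ⟨q, hq, hqN⟩ := Nat.exists_prime_and_dvd (mt orderOf_eq_one_iff.1 hne1)
  have hq2 : q ≠ 2 := by
    rintro rfl
    exact absurd (Nat.eq_one_of_dvd_coprimes hodd hqN dvd_rfl) (by norm_num)
  set d₀ := ⁅g, a⁆ ^ (N / q) with hd₀
  have hd₀o : orderOf (π d₀) = q ^ 1 := by
    rw [hd₀, map_pow, orderOf_pow_of_dvd (Nat.div_pos (Nat.le_of_dvd (orderOf_pos _) hqN) hq.pos).ne'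
      (Nat.div_dvd_of_dvd hqN), ← hN, Nat.div_div_self hqN (orderOf_pos _).ne', pow_one]
  have hinv₀ : a * d₀ * a⁻¹ = d₀⁻¹ := by rw [hd₀, ← conj_pow, hd₀a, inv_pow]
  obtain ⟨hq5, n, j, hdo, hdπ⟩ := exists_inverted_lift hS4 hC hq hq2 (a := a) (d₀ := d₀) (i := 1)
    (ha2 ▸ one_mem _) haQ (by rw [hinv₀, inv_mul_cancel]; exact one_mem _) hd₀o (fun h => by
      rw [show π d₀ = 1 from (QuotientGroup.eq_one_iff _).2 h, orderOf_one, pow_one] at hd₀o
      exact hq.ne_one hd₀o.symm)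
  set d := d₀ ^ n with hd
  have hdo' : Odd (orderOf d) := hdo ▸ (hq.odd_of_ne_two hq2).pow
  have hinv : a * d * a⁻¹ = d⁻¹ := by rw [hd, ← conj_pow, hinv₀, inv_pow]
  have hdQ : d ∉ Cfsg.pCore 2 G := fun h => by
    rw [show π d₀ = π d from hdπ.symm, show π d = 1 from (QuotientGroup.eq_one_iff _).2 h, orderOf_one,
      pow_one] at hd₀o
    exact hq.ne_one hd₀o.symm
  -- `d` centralizes the hyperplane modulo `Q`
  have hdB : ∀ v ∈ V₀, Commute (π d) (π v) := by
    intro v hv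
    have hgb : Commute (π g) (π v) := (mem_centralizer_iff.1 hcB _ (mem_inf.1 hv).2).symm
    have hab : Commute (π a) (π v) := hVcb a haV _ (mem_inf.1 hv).2
    rw [hd, hd₀, map_pow, map_pow, map_commutatorElement, commutatorElement_def]
    exact ((((hgb.mul_left hab).mul_left hgb.inv_left).mul_left hab.inv_left).pow_left _).pow_left _
  have hQconj : ∀ {x : G}, x ∈ Cfsg.pCore 2 G → ∀ y : G, y * x * y⁻¹ ∈ Cfsg.pCore 2 G := fun hx y =>
    (inferInstance : (Cfsg.pCore 2 G).Normal).conj_mem _ hx y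
  have hconjS : ∀ v ∈ V₀, d * v * d⁻¹ ∈ (P : Subgroup G) ∧ d⁻¹ * v * d ∈ (P : Subgroup G) := by
    intro v hv
    have h1 : ∀ e : G, Commute (π e) (π v) → e * v * e⁻¹ ∈ (P : Subgroup G) := by
      intro e he
      have h2 : e * v * e⁻¹ * v⁻¹ ∈ Cfsg.pCore 2 G := (QuotientGroup.eq_one_iff _).1 (by
        show π (e * v * e⁻¹ * v⁻¹) = 1
        rw [map_mul, map_mul, map_mul, map_inv, map_inv, he.eq]
        group)
      simpa [mul_assoc] using mul_mem (hQP h2) (hVP (hV₀V hv))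
    refine ⟨h1 d (hdB v hv), ?_⟩
    have := h1 d⁻¹ (by rw [map_inv]; exact (hdB v hv).inv_left)
    rwa [inv_inv] at this
  set Vd := V.map (MulAut.conj d).toMonoidHom with hVd
  have hmemVd : ∀ {x : G}, x ∈ Vd ↔ d⁻¹ * x * d ∈ V := fun {x} =>
    ⟨by rintro ⟨v, hv, rfl⟩; simpa [mul_assoc] using hv, fun h => ⟨_, h, by simp [mul_assoc]⟩⟩
  set Y₀ := V ⊓ Vd with hY₀
  -- `d` centralizes `Y₀`
  have hYd : ∀ y ∈ Y₀, Commute d y := by
    intro y hy
    obtain ⟨hyV, hyVd⟩ := mem_inf.1 hy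
    have hw := hmemVd.1 hyVd
    set w := d⁻¹ * y * d with hwdef
    have e1 : a * w * a = w := by rw [hV.comm haV hw, mul_assoc, ha2, mul_one]
    have e2 : a * y * a = y := by rw [hV.comm haV hyV, mul_assoc, ha2, mul_one]
    have e3 : a * d * a = d⁻¹ := by rw [← hinv, hainv]
    have e4 : a * d⁻¹ * a = d := by
      rw [← e3]
      calc a * (a * d * a) * a = (a * a) * d * (a * a) := by group
        _ = d := by rw [ha2, one_mul, mul_one]
    have e5 : d * y * d⁻¹ = w := by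
      calc d * y * d⁻¹ = (a * d⁻¹ * a) * (a * y * a) * (a * d * a) := by rw [e2, e3, e4]
        _ = a * d⁻¹ * (a * a) * y * (a * a) * d * a := by group
        _ = a * w * a := by rw [ha2, hwdef]; group
        _ = w := e1
    have hdd : Commute (d * d) y := by
      apply mul_inv_eq_iff_eq_mul.1
      calc d * d * y * (d * d)⁻¹ = d * (d * y * d⁻¹) * d⁻¹ := by group
        _ = y := by rw [e5, hwdef]; group
    obtain ⟨k, hk⟩ := hdo'
    have hd' : (d * d) ^ (k + 1) = d := by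
      rw [← pow_two, ← pow_mul, show 2 * (k + 1) = orderOf d + 1 by omega, pow_succ, pow_orderOf_eq_one,
        one_mul]
    exact hd' ▸ hdd.pow_left (k + 1)
  have hY₀V₀ : Y₀ ≤ V₀ := by
    intro y hy
    by_contra hn
    refine hne1 ?_
    have hh : a * y⁻¹ ∈ V₀ := by
      have h := Subgroup.mul_mem_iff_of_index_two (H := V₀.subgroupOf V) hidx (a := ⟨a, haV⟩)
        (b := ⟨y⁻¹, inv_mem (mem_inf.1 hy).1⟩)
      exact h.2 ⟨fun h1 => absurd h1 haV₀, fun h1 => absurd (inv_mem h1) (by simpa [Subgroup.mem_subgroupOf] using hn)⟩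
    have hc1 : Commute (π d) (π a) := by
      have := (hdB _ hh).mul_right ((hYd y hy).map π)
      rwa [← map_mul, inv_mul_cancel_right] at this
    exfalso
    refine hdQ ((QuotientGroup.eq_one_iff d).1 ?_)
    show π d = 1
    have h3 : (π d)⁻¹ = π d := by
      rw [← map_inv, ← hinv, map_mul, map_mul, map_inv, hc1.symm.eq, mul_inv_cancel_right]
    refine orderOf_eq_one_iff.1 (Nat.eq_one_of_dvd_coprimes (b := 2) ?_ (orderOf_map_dvd π d)
      (orderOf_dvd_of_pow_eq_one (by rw [pow_two]; nth_rw 1 [← h3]; exact inv_mul_cancel _)))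
    exact (Nat.coprime_two_right.2 hdo')
  have hVn : ∀ {s : G}, s ∈ (P : Subgroup G) → ∀ {v : G}, v ∈ V → s * v * s⁻¹ ∈ V := fun hs _ hv =>
    (mem_normalizer_iff.1 (hV.le_normalizer hs) _).1 hv
  set B := V₀.map (MulAut.conj d).toMonoidHom with hBdef
  have hBP : B ≤ (P : Subgroup G) := by rintro _ ⟨v, hv, rfl⟩; exact (hconjS v hv).1
  have hBVd : B ≤ Vd := map_mono hV₀V
  have hY₀B : Y₀ ≤ B := fun y hy => ⟨y, hY₀V₀ hy, by
    show d * y * d⁻¹ = y
    rw [(hYd y hy).eq, mul_inv_cancel_right]⟩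
  have hnVd : ∀ v ∈ V₀, ∀ u ∈ Vd, v * u * v⁻¹ ∈ Vd := by
    intro v hv u hu
    rw [hmemVd] at hu ⊢
    have := hVn (hconjS v hv).2 hu
    simpa [mul_assoc] using this
  have hcomV : ∀ b ∈ B, ∀ v ∈ V, ⁅b, v⁆ ∈ V := fun b hb v hv =>
    mul_mem (hVn (hBP hb) hv) (inv_mem hv)
  have hcom0 : ∀ b ∈ B, ∀ v ∈ V₀, ⁅b, v⁆ ∈ Y₀ := fun b hb v hv => by
    refine mem_inf.2 ⟨hcomV b hb v (hV₀V hv), ?_⟩
    rw [commutatorElement_def, mul_assoc, mul_assoc, ← mul_assoc v]
    exact mul_mem (hBVd hb) (hnVd v hv _ (inv_mem (hBVd hb)))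
  have hVdcomm : ∀ {x y : G}, x ∈ Vd → y ∈ Vd → Commute x y := by
    rintro _ _ ⟨x, hx, rfl⟩ ⟨y, hy, rfl⟩
    exact (show Commute x y from hV.comm hx hy).map (MulAut.conj d).toMonoidHom
  have hYB : Y₀ ≤ centralizer (B : Set G) := fun y hy =>
    mem_centralizer_iff.2 fun b hb => hVdcomm (hBVd hb) (mem_inf.1 hy).2
  have hYV : Y₀ ≤ centralizer (V : Set G) := fun y hy =>
    mem_centralizer_iff.2 fun v hv => hV.comm hv (mem_inf.1 hy).1
  have hY2 : ∀ y ∈ Y₀, y * y = 1 := fun y hy => by rw [← pow_two]; exact hV.elem.2 y (mem_inf.1 hy).1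
  have hB2 : ∀ b ∈ B, b * b = 1 := by
    rintro _ ⟨v, hv, rfl⟩
    rw [← map_mul, ← pow_two, hV.elem.2 v (hV₀V hv), map_one]
  -- an element of `B` whose commutator with `a` is in `Y₀` is in `Y₀`
  have hinjB : ∀ b ∈ B, ⁅b, a⁆ ∈ Y₀ → b ∈ Y₀ := by
    rintro _ ⟨v, hv, rfl⟩ hm
    change ⁅d * v * d⁻¹, a⁆ ∈ Y₀ at hm
    set y := ⁅d * v * d⁻¹, a⁆ with hy
    have hav : a * v * a = v := by rw [hV.comm haV (hV₀V hv), mul_assoc, ha2, mul_one]
    have hbb : (d * v * d⁻¹)⁻¹ = d * v * d⁻¹ :=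
      inv_eq_of_mul_eq_one_right (hB2 _ ⟨v, hv, rfl⟩)
    have e1 : a * (d * v * d⁻¹) * a = d⁻¹ * v * d := by
      calc a * (d * v * d⁻¹) * a = (a * d * a) * (a * v * a) * (a * d * a)⁻¹ := by
            rw [mul_inv_rev, mul_inv_rev, hainv]
            calc a * (d * v * d⁻¹) * a = a * d * 1 * v * 1 * d⁻¹ * a := by group
              _ = a * d * (a * a) * v * (a * a) * d⁻¹ * a := by rw [ha2]
              _ = _ := by group
        _ = d⁻¹ * v * d := by rw [hav, show a * d * a = d⁻¹ by rw [← hinv, hainv], inv_inv]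
    have e2 : y = (d * v * d⁻¹) * (d⁻¹ * v * d) := by
      rw [hy, commutatorElement_def, hbb, hainv, ← e1]; group
    have e3 : d * d * v * (d * d)⁻¹ = y * v := by
      have hdy := hYd y hm
      have h4 : d⁻¹ * v * d = d * v * d⁻¹ * y := by
        rw [e2]
        conv_rhs => rw [← mul_assoc,
          show (d * v * d⁻¹) * (d * v * d⁻¹) = 1 from hB2 _ ⟨v, hv, rfl⟩, one_mul]
      have h5 : v = d * d * v * (d * d)⁻¹ * y := by
        calc v = d * (d⁻¹ * v * d) * d⁻¹ := by group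
          _ = d * d * v * d⁻¹ * (y * d⁻¹) := by rw [h4]; group
          _ = d * d * v * (d * d)⁻¹ * y := by rw [← hdy.inv_left.eq]; group
      have h6 : Commute y v := hV.comm (mem_inf.1 hm).1 (hV₀V hv)
      calc d * d * v * (d * d)⁻¹ = d * d * v * (d * d)⁻¹ * (y * y) := by rw [hY2 y hm, mul_one]
        _ = v * y := by rw [← mul_assoc, ← h5]
        _ = y * v := h6.symm.eq
    have hdv := eq_of_pow_odd hdo' (hY2 y hm) (hYd y hm) e3
    show d * v * d⁻¹ ∈ Y₀
    rw [hdv.eq, mul_inv_cancel_right]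
    exact mem_inf.2 ⟨hV₀V hv, hmemVd.2 (by rw [mul_assoc, ← hdv.eq, inv_mul_cancel_left]; exact hV₀V hv)⟩
  have hBV : centralizer (V : Set G) ⊓ B ≤ Y₀ := fun b hb => by
    refine hinjB b (mem_inf.1 hb).2 ?_
    rw [commutatorElement_eq_one_iff_mul_comm.2 (mem_centralizer_iff.1 (mem_inf.1 hb).1 a haV).symm]
    exact one_mem _
  set s := Y₀.relIndex B with hs
  have hsV : Y₀.relIndex V₀ = s := by
    rw [hs, hBdef]
    conv_rhs => rw [show Y₀ = Y₀.map (MulAut.conj d).toMonoidHom from le_antisymm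
      (fun y hy => ⟨y, hy, by show d * y * d⁻¹ = y; rw [(hYd y hy).eq, mul_inv_cancel_right]⟩)
      (by rintro _ ⟨y, hy, rfl⟩; show d * y * d⁻¹ ∈ Y₀; rw [(hYd y hy).eq, mul_inv_cancel_right]; exact hy)]
    rw [relIndex_map_map_of_injective _ _ (MulAut.conj d).injective]
  -- the case that `d` centralizes the hyperplane
  have hs1 : s ≠ 1 := by
    intro h1
    have hV₀Y : V₀ ≤ Y₀ := relIndex_eq_one.1 (hsV.trans h1)
    have hQa : ∀ x ∈ Cfsg.pCore 2 G, ∃ y ∈ Y₀, a * x * a = y * x := by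
      intro x hx
      refine ⟨a * x * a * x⁻¹, hV₀Y (mem_inf.2 ⟨?_, ?_⟩), by group⟩
      · rw [mul_assoc, mul_assoc, ← mul_assoc x]
        exact mul_mem haV (hVn (hQP hx) haV)
      · show π (a * x * a * x⁻¹) ∈ Bb
        rw [show π (a * x * a * x⁻¹) = 1 by
          rw [map_mul, map_mul, map_mul, map_inv, show π x = 1 from (QuotientGroup.eq_one_iff x).2 hx,
            mul_one, inv_one, mul_one, ← map_mul, ha2, map_one]]
        exact one_mem _
    refine hdQ (hC (mem_centralizer_iff.2 fun x hx => ?_))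
    obtain ⟨y', hy', e'⟩ := hQa (d * x * d⁻¹) (hQconj hx d)
    obtain ⟨y, hy, e⟩ := hQa (d * d * x * (d * d)⁻¹) (hQconj hx _)
    have e3 : a * d * a = d⁻¹ := by rw [← hinv, hainv]
    have h1 : (a * d * d) * x * (a * d * d)⁻¹ = y * (d * d * x * (d * d)⁻¹) := by
      rw [← e, mul_inv_rev, mul_inv_rev, mul_inv_rev, hainv]; group
    have h2 : (a * d * d) * x * (a * d * d)⁻¹ = y' * x := by
      have e5 : a * d * d = d⁻¹ * a * d := by
        rw [← e3]
        calc a * d * d = a * d * (a * a) * d := by rw [ha2, mul_one]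
          _ = _ := by group
      rw [e5]
      calc d⁻¹ * a * d * x * (d⁻¹ * a * d)⁻¹ = d⁻¹ * (a * (d * x * d⁻¹) * a⁻¹) * d := by group
        _ = d⁻¹ * y' * d * x := by rw [hainv, e']; group
        _ = y' * x := by rw [mul_assoc d⁻¹, ← (hYd y' hy').eq, inv_mul_cancel_left]
    have h3 : d * d * x * (d * d)⁻¹ = (y * y') * x := by
      calc d * d * x * (d * d)⁻¹ = y * y * (d * d * x * (d * d)⁻¹) := by rw [hY2 y hy, one_mul]
        _ = _ := by rw [mul_assoc, ← h1, h2, mul_assoc]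
    exact (eq_of_pow_odd hdo' (hY2 _ (mul_mem hy hy')) ((hYd y hy).mul_right (hYd y' hy')) h3).eq.symm
  -- the case of two cosets
  have hs2 : s ≠ 2 := by
    intro h2
    obtain ⟨v, hv, hvY⟩ := SetLike.not_le_iff_exists.1 (fun h => hs1 (hsV ▸ relIndex_eq_one.2 h))
    set b := d * v * d⁻¹ with hb
    have hbB : b ∈ B := ⟨v, hv, rfl⟩
    have hbY : b ∉ Y₀ := fun h => hvY (by
      have e : v = b := by
        calc v = d⁻¹ * (b * d) := by rw [hb]; group
          _ = b := by rw [← (hYd b h).eq, inv_mul_cancel_left]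
      exact e ▸ h)
    set y := ⁅b, a⁆ * v with hy
    have hyY : y ∈ Y₀ := by
      have hba : ⁅b, a⁆ ∉ Y₀ := fun h => hbY (hinjB b hbB h)
      have hbaV₀ : ⁅b, a⁆ ∈ V₀ := mem_inf.2 ⟨hcomV b hbB a haV, by
        show π ⁅b, a⁆ ∈ Bb
        rw [map_commutatorElement, commutatorElement_eq_one_iff_mul_comm.2 ?_]
        · exact one_mem _
        rw [hb, map_mul, map_mul, map_inv, (hdB v hv).eq, mul_inv_cancel_right]
        exact (hVcb a haV _ (mem_inf.1 hv).2).symm⟩
      exact ((Subgroup.mul_mem_iff_of_index_two (H := Y₀.subgroupOf V₀) (hsV.trans h2)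
        (a := ⟨_, hbaV₀⟩) (b := ⟨v, hv⟩)).2 ⟨fun h => absurd h hba, fun h => absurd h hvY⟩ : _)
    have hav : a * v * a = v := by rw [hV.comm haV (hV₀V hv), mul_assoc, ha2, mul_one]
    have e3 : a * d * a = d⁻¹ := by rw [← hinv, hainv]
    have hbb : b⁻¹ = b := inv_eq_of_mul_eq_one_right (hB2 b hbB)
    have e1 : a * b * a = d⁻¹ * v * d := by
      calc a * b * a = a * d * (a * a) * v * (a * a) * d⁻¹ * a := by rw [ha2, hb]; group
        _ = (a * d * a) * (a * v * a) * (a⁻¹ * d⁻¹ * a⁻¹) := by rw [hainv]; group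
        _ = d⁻¹ * v * d := by rw [hav, ← mul_inv_rev, ← mul_inv_rev, ← mul_assoc a, e3, inv_inv]
    -- `d⁻¹ v d = b y v`
    have r0 : d⁻¹ * v * d = b * y * v := by
      have : ⁅b, a⁆ = b * (d⁻¹ * v * d) := by rw [commutatorElement_def, hbb, hainv, ← e1]; group
      rw [hy, this]
      calc d⁻¹ * v * d = (b * b) * (d⁻¹ * v * d) * (v * v) := by
            rw [hB2 b hbB, ← pow_two, hV.elem.2 v (hV₀V hv), one_mul, mul_one]
        _ = _ := by group
    have hc : ∀ x, Commute d x → ∀ z : G, d * (x * z) * d⁻¹ = x * (d * z * d⁻¹) := fun x hx z => by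
      rw [← mul_assoc, hx.eq]; group
    have hyb : Commute y b := (mem_centralizer_iff.1 (hYB hyY) b hbB).symm
    have hyv : Commute y v := hV.comm (mem_inf.1 hyY).1 (hV₀V hv)
    set u₂ := d * b * d⁻¹ with hu₂
    have r1 : v = y * (u₂ * b) := by
      calc v = d * (d⁻¹ * v * d) * d⁻¹ := by group
        _ = d * (y * (b * v)) * d⁻¹ := by rw [r0, ← hyb.eq]; group
        _ = y * (d * (b * v) * d⁻¹) := hc y (hYd y hyY) _
        _ = _ := by rw [hu₂, hb]; group
    have r2 : u₂ = y * (v * b) := by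
      calc u₂ = (y * y) * u₂ * (b * b) := by rw [hY2 y hyY, hB2 b hbB, one_mul, mul_one]
        _ = y * (y * (u₂ * b)) * b := by group
        _ = _ := by rw [← r1]; group
    have r3 : d * u₂ * d⁻¹ = (y * y) * (b * v * b) := by
      calc d * u₂ * d⁻¹ = y * (d * (v * b) * d⁻¹) := by rw [r2]; exact hc y (hYd y hyY) _
        _ = y * (b * u₂) := by rw [hu₂, hb]; group
        _ = y * ((b * y) * (v * b)) := by rw [r2]; group
        _ = _ := by rw [← hyb.eq]; group
    rw [hY2 y hyY, one_mul] at r3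
    set z := ⁅b, v⁆ with hz
    have hzY : z ∈ Y₀ := hcom0 b hbB v hv
    have r4 : d ^ 3 * v * (d ^ 3)⁻¹ = z * v := by
      calc d ^ 3 * v * (d ^ 3)⁻¹ = d * u₂ * d⁻¹ := by
            rw [hu₂, hb]; simp only [pow_succ, pow_zero, one_mul]; group
        _ = z * v := by rw [r3, hz, commutatorElement_def, hbb]; group
    have hd3 : Odd (orderOf (d ^ 3)) := by
      obtain ⟨l, -, hl⟩ := (Nat.dvd_prime_pow hq).1 (hdo ▸ orderOf_pow_dvd (x := d) 3)
      rw [hl]; exact (hq.odd_of_ne_two hq2).pow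
    have hdz : Commute (d ^ 3) z := (hYd z hzY).pow_left 3
    have hc3 : Commute (d ^ 3) v := eq_of_pow_odd hd3 (y := 1) (mul_one 1) (Commute.one_right _) (by
      calc d ^ 3 * d ^ 3 * v * (d ^ 3 * d ^ 3)⁻¹ = d ^ 3 * (d ^ 3 * v * (d ^ 3)⁻¹) * (d ^ 3)⁻¹ := by group
        _ = z * (d ^ 3 * v * (d ^ 3)⁻¹) := by rw [r4, ← mul_assoc (d ^ 3), hdz.eq, ← r4]; group
        _ = 1 * v := by rw [r4, ← mul_assoc, hY2 z hzY])
    have hdv : Commute d v := by
      have hcop : (3 : ℕ).Coprime (orderOf d) := by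
        rw [hdo]
        exact ((Nat.coprime_primes Nat.prime_three hq).2 (by omega)).pow_right j
      obtain ⟨m, hm⟩ := exists_pow_eq_self_of_coprime hcop
      exact hm ▸ hc3.pow_left m
    exact hvY (mem_inf.2 ⟨hV₀V hv, hmemVd.2 (by
      rw [mul_assoc, ← hdv.eq, inv_mul_cancel_left]; exact hV₀V hv)⟩)
  have hspow : ∃ i, s = 2 ^ i := (P.2.to_le hBP).index (Y₀.subgroupOf B)
  have hs4 : 4 ≤ s := by
    obtain ⟨i, hi⟩ := hspow
    rw [hi]
    have : 2 ≤ i := by
      by_contra hlt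
      interval_cases i
      · exact hs1 (by simpa using hi)
      · exact hs2 (by simpa using hi)
    exact Nat.pow_le_pow_right (n := 2) (by norm_num) this
  -- no element of `V₀ \ Y₀` centralizes `B`
  have hV₀B : ∀ v ∈ V₀, v ∈ centralizer (B : Set G) → v ∈ Y₀ := by
    intro v hv hvB
    set v' := d⁻¹ * v * d with hv'
    have hv'P : v' ∈ (P : Subgroup G) := (hconjS v hv).2
    have hv'V₀ : ∀ w ∈ V₀, Commute v' w := by
      intro w hw
      have h1 : Commute v (d * w * d⁻¹) := (mem_centralizer_iff.1 hvB _ ⟨w, hw, rfl⟩).symm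
      have := h1.map (MulAut.conj d⁻¹).toMonoidHom
      simpa [mul_assoc, hv'] using this
    by_contra hvY
    have hncent : ¬ zpowers v' ≤ centralizer (V : Set G) := by
      intro hcent
      have hva : Commute a v' := mem_centralizer_iff.1 (hcent (mem_zpowers v')) a haV
      have e3 : a * d * a = d⁻¹ := by rw [← hinv, hainv]
      have hav : a * v * a = v := by rw [hV.comm haV (hV₀V hv), mul_assoc, ha2, mul_one]
      have e1 : a * v' * a = d * v * d⁻¹ := by
        calc a * v' * a = (a * d⁻¹ * a) * (a * v * a) * (a * d * a) := by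
              rw [hv']
              calc a * (d⁻¹ * v * d) * a = a * d⁻¹ * 1 * v * 1 * d * a := by group
                _ = a * d⁻¹ * (a * a) * v * (a * a) * d * a := by rw [ha2]
                _ = _ := by group
          _ = d * v * d⁻¹ := by
              rw [hav, e3, show a * d⁻¹ * a = (a⁻¹ * d * a⁻¹)⁻¹ by group, hainv, e3, inv_inv]
      rw [hva.eq, mul_assoc, ha2, mul_one] at e1
      have hdd : Commute (d * d) v := by
        apply mul_inv_eq_iff_eq_mul.1
        calc d * d * v * (d * d)⁻¹ = d * (d * v * d⁻¹) * d⁻¹ := by group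
          _ = v := by rw [← e1, hv']; group
      have hdv : Commute d v := eq_of_pow_odd hdo' (mul_one (1 : G)) (Commute.one_right _)
        (by rw [hdd.eq]; group)
      exact hvY (mem_inf.2 ⟨hV₀V hv, hmemVd.2 (by
        rw [mul_assoc, ← hdv.eq, inv_mul_cancel_left]; exact hV₀V hv)⟩)
    have hcz : ∀ z ∈ zpowers v', ∀ w ∈ V₀, Commute z w := by
      intro z hz w hw
      obtain ⟨k, rfl⟩ := mem_zpowers_iff.1 hz
      exact (hv'V₀ w hw).zpow_left k
    have hgood := hV.good (zpowers_le.2 hv'P) (fun z hz t ht w hw => ?_) hncent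
    · have h1 : (centralizer (zpowers v' : Set G)).relIndex V ≤ 2 := by
        refine (relIndex_le_of_le_left (H := V₀ ⊓ V) ?_ index_ne_zero_of_finite).trans
          (by rw [inf_relIndex_right, hidx])
        exact fun w hw => mem_centralizer_iff.2 fun z hz => hcz z hz w (mem_inf.1 hw).1
      have h2 : 2 ≤ (centralizer (V : Set G)).relIndex (zpowers v') := by
        have : 0 < (centralizer (V : Set G)).relIndex (zpowers v') := Nat.pos_of_ne_zero (index_ne_zero_of_finite :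
          (centralizer (V : Set G)).relIndex (zpowers v') ≠ 0)
        by_contra hlt
        exact hncent (relIndex_eq_one.1 (show (centralizer (V : Set G)).relIndex (zpowers v') = 1 by omega))
      omega
    · refine (hcz z hz _ ?_).eq
      refine mem_inf.2 ⟨mul_mem (hVn (zpowers_le.2 hv'P ht) hw) (inv_mem hw), ?_⟩
      obtain ⟨k, rfl⟩ := mem_zpowers_iff.1 ht
      show π ⁅v' ^ k, w⁆ ∈ Bb
      rw [map_commutatorElement, commutatorElement_eq_one_iff_mul_comm.2 ?_]
      · exact one_mem _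
      rw [map_zpow]
      have : π v' = π v := by
        rw [hv', map_mul, map_mul, map_inv, mul_assoc, ← (hdB v hv).eq, inv_mul_cancel_left]
      rw [this]
      exact (((hVcb w hw _ (mem_inf.1 hv).2).symm).zpow_left k).eq
  have hCBV : centralizer (B : Set G) ⊓ V = Y₀ := by
    refine le_antisymm (fun w hw => ?_) (le_inf hYB inf_le_left)
    obtain ⟨hwB, hwV⟩ := mem_inf.1 hw
    by_cases hw₀ : w ∈ V₀
    · exact hV₀B w hw₀ hwB
    exfalso
    refine hs1 (relIndex_eq_one.2 fun b hb => hinjB b hb ?_)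
    have haw : w * a ∈ V₀ := ((Subgroup.mul_mem_iff_of_index_two (H := V₀.subgroupOf V) hidx
      (a := ⟨w, hwV⟩) (b := ⟨a, haV⟩)).2 ⟨fun h => absurd h hw₀, fun h => absurd h haV₀⟩ : _)
    have e : ⁅b, a⁆ = w⁻¹ * ⁅b, w * a⁆ * w := by
      have hbw : Commute b w := mem_centralizer_iff.1 hwB b hb
      calc ⁅b, a⁆ = b * (w⁻¹ * (w * a)) * b⁻¹ * a⁻¹ := by rw [commutatorElement_def]; group
        _ = (b * w⁻¹) * (w * a) * b⁻¹ * a⁻¹ := by group
        _ = w⁻¹ * b * (w * a) * b⁻¹ * a⁻¹ := by rw [hbw.inv_right.eq]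
        _ = _ := by rw [commutatorElement_def]; group
    have hz := hcom0 b hb _ haw
    rw [e, mul_assoc, hV.comm (mem_inf.1 hz).1 hwV, inv_mul_cancel_left]
    exact hz
  have hBcent : (centralizer (V : Set G)).relIndex B = s := by
    rw [hs, ← inf_relIndex_right (centralizer (V : Set G)) B, ← inf_relIndex_right Y₀ B]
    congr 1
    exact le_antisymm (le_inf hBV inf_le_right) (le_inf (inf_le_left.trans hYV) inf_le_right)
  have hVcent : (centralizer (B : Set G)).relIndex V = 2 * s := by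
    rw [← inf_relIndex_right (centralizer (B : Set G)) V, hCBV,
      ← relIndex_mul_relIndex _ _ _ hY₀V₀ hV₀V, hsV, hidx, mul_comm]
  refine hV.false_of_special hBP hB2 (fun x hx y hy => hVdcomm (hBVd hx) (hBVd hy)) haV hV₀V
    (hCBV.le.trans hY₀V₀) haV₀ hidx.le (fun b hb x hx => hYB (hcom0 b hb x hx)) (fun b hb => ?_)
    (by rw [hVcent, hBcent]) (hBcent ▸ hs4) fun b hb hm => hYV (hinjB b hb ?_)
  · refine mem_inf.2 ⟨hcomV b hb a haV, ?_⟩
    obtain ⟨v, hv, rfl⟩ := hb
    show π ⁅d * v * d⁻¹, a⁆ ∈ Bb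
    rw [map_commutatorElement, commutatorElement_eq_one_iff_mul_comm.2 ?_]
    · exact one_mem _
    rw [map_mul, map_mul, map_inv, (hdB v hv).eq, mul_inv_cancel_right]
    exact (hVcb a haV _ (mem_inf.1 hv).2).symm
  · rw [← hCBV]
    exact mem_inf.2 ⟨hm, hcomV b hb a haV⟩

end CfsgLib.Stellmacher
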