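import Cfsg.Agent.Lib.Stellmacher.ProductLemma
import Cfsg.Agent.Lib.Techniques.JeClassTwo

/-!
Configurations `(T, U, Y)` on a module: `[V,T] ≤ U`, `[U,T] ≤ Y = C(T)`, and every `a ∉ U` gives a map from
`T` onto `U/Y`, injective modulo the kernel of the action.  In a group without section `S₃`, a subgroup `U`
containing an invariant subgroup between `Y` and `U` is invariant, and then a subgroup `T` whose part in the
largest normal subgroup with 2-group image is central lies in that subgroup.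
-/

set_option autoImplicit false
set_option linter.unusedSectionVars false
set_option linter.style.haveILetI false

namespace CfsgLib.Stellmacher.Config

open CfsgLib.Techniques CfsgLib.Techniques.SThree CfsgLib.Stellmacher.ProductLemma

universe u v

variable {X : Type u} [Group X] {V : Type v} [AddCommGroup V] {ρ : X →* AddMonoid.End V}

/-- A configuration. -/
structure Hyp (ρ : X →* AddMonoid.End V) (T : Subgroup X) (U Y : AddSubgroup V) : Prop where
  le : Y ≤ U
  fix : fixedPts ρ T = Y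
  step : ∀ t ∈ T, ∀ v, ρ t v - v ∈ U
  step' : ∀ t ∈ T, ∀ u ∈ U, ρ t u - u ∈ Y
  surj : ∀ a, a ∉ U → ∀ u ∈ U, ∃ t ∈ T, ρ t a - a - u ∈ Y
  inj : ∀ a, a ∉ U → ∀ t ∈ T, ρ t a - a ∈ Y → ρ t = 1

/-- A configuration with `Y = U`: a quadratic one. -/
structure Full (ρ : X →* AddMonoid.End V) (T : Subgroup X) (U : AddSubgroup V) : Prop where
  fix : ∀ t ∈ T, ∀ u ∈ U, ρ t u = u
  step : ∀ t ∈ T, ∀ v, ρ t v - v ∈ U
  surj : ∀ a, a ∉ U → ∀ u ∈ U, ∃ t ∈ T, ρ t a - a = u

theorem Full.quad {T : Subgroup X} {U : AddSubgroup V} (h : Full ρ T U) : Quad ρ T :=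
  fun t ht v b hb => h.fix b hb _ (h.step t ht v)

theorem Full.fixedPts_eq {T : Subgroup X} {U : AddSubgroup V} (h : Full ρ T U) (hU : U ≠ ⊥) :
    fixedPts ρ T = U := by
  refine le_antisymm (fun v hv => ?_) fun u hu t ht => h.fix t ht u hu
  by_contra hvU
  refine hU (eq_bot_iff.2 fun u hu => AddSubgroup.mem_bot.2 ?_)
  obtain ⟨t, ht, e⟩ := h.surj v hvU u hu
  rw [← e, hv t ht, sub_self]

theorem Full.quot {T : Subgroup X} {U W : AddSubgroup V} (h : Full ρ T U) (_hWU : W ≤ U)
    (hW : ∀ x : X, ∀ v ∈ W, ρ x v ∈ W) :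
    Full (quotRep ρ W hW) T (U.map (QuotientAddGroup.mk' W)) := by
  refine { fix := ?_, step := ?_, surj := ?_ }
  · rintro t ht _ ⟨u, hu, rfl⟩
    exact congrArg QuotientAddGroup.mk (h.fix t ht u hu)
  · intro t ht v
    induction v using QuotientAddGroup.induction_on with
    | H x => exact ⟨ρ t x - x, h.step t ht x, rfl⟩
  · intro v
    induction v using QuotientAddGroup.induction_on with
    | H x =>
      rintro hx _ ⟨u, hu, rfl⟩
      obtain ⟨t, ht, e⟩ := h.surj x (fun hm => hx ⟨x, hm, rfl⟩) u hu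
      exact ⟨t, ht, congrArg QuotientAddGroup.mk e⟩

theorem Full.sub {T : Subgroup X} {U B : AddSubgroup V} (h : Full ρ T U)
    (hB : ∀ x : X, ∀ v ∈ B, ρ x v ∈ B) : Full (subRep ρ B hB) T (U.comap B.subtype) := by
  refine ⟨fun t ht u hu => Subtype.ext (h.fix t ht u hu), fun t ht v => h.step t ht v, fun a ha u hu => ?_⟩
  obtain ⟨t, ht, e⟩ := h.surj a ha u hu
  exact ⟨t, ht, Subtype.ext e⟩

theorem Full.comap {Z : Type u} [Group Z] (f : Z →* X) {T : Subgroup Z} {U : AddSubgroup V}
    (h : Full ρ (T.map f) U) : Full (ρ.comp f) T U := by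
  refine ⟨fun t ht => h.fix _ ⟨t, ht, rfl⟩, fun t ht => h.step _ ⟨t, ht, rfl⟩, fun a ha u hu => ?_⟩
  obtain ⟨_, ⟨t, ht, rfl⟩, e⟩ := h.surj a ha u hu
  exact ⟨t, ht, e⟩

/-- `U` is at most as large as the image of `T`. -/
theorem Full.card_le [Finite X] [Finite V] {T : Subgroup X} {U : AddSubgroup V} (h : Full ρ T U) {a : V}
    (ha : a ∉ U) : Nat.card U ≤ ρ.ker.relIndex T := by
  have hker : ∀ r s : T, (r⁻¹ * s) ∈ ρ.ker.subgroupOf T → ρ (r : X) a = ρ (s : X) a := by
    intro r s hrs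
    have h1 : ρ ((r : X)⁻¹ * s) = 1 := hrs
    calc ρ (r : X) a = ρ (r : X) (ρ ((r : X)⁻¹ * s) a) := by rw [h1]; rfl
      _ = ρ (s : X) a := by rw [← act_mul, mul_inv_cancel_left]
  let f : T ⧸ ρ.ker.subgroupOf T → U := fun q => Quotient.liftOn' q
    (fun t => ⟨ρ (t : X) a - a, h.step t t.2 a⟩) fun r s hrs => Subtype.ext (by
      show ρ (r : X) a - a = ρ (s : X) a - a
      rw [hker r s (QuotientGroup.leftRel_apply.1 hrs)])
  refine Nat.card_le_card_of_surjective f fun u => ?_
  obtain ⟨t, ht, e⟩ := h.surj a ha u u.2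
  exact ⟨QuotientGroup.mk ⟨t, ht⟩, Subtype.ext e⟩

/-- Two generating conjugates. -/
theorem Full.inv_of_pair [Finite X] [Finite V] (hS3 : ¬ Cfsg.Involves (Equiv.Perm (Fin 3)) X)
    (hV2 : ∀ v : V, v + v = 0) {T : Subgroup X} {g : X}
    (hgen : T ⊔ T.map (MulAut.conj g).toMonoidHom = ⊤) {U : AddSubgroup V} (h : Full ρ T U) :
    ∀ x, ∀ u ∈ U, ρ x u ∈ U := by
  suffices ∀ (n : ℕ) (W : Type v) [AddCommGroup W] [Finite W] (σ : X →* AddMonoid.End W) (U : AddSubgroup W),
      Nat.card W ≤ n → (∀ w : W, w + w = 0) → Full σ T U → ∀ x, ∀ u ∈ U, σ x u ∈ U from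
    this _ V ρ U le_rfl hV2 h
  intro n
  induction n with
  | zero =>
    intro W _ _ σ _ hn
    exact absurd (Nat.card_pos (α := W)) (by omega)
  | succ n ih =>
    intro W _ _ σ U hn hW2 hF x u hu
    by_cases hU0 : U = ⊥
    · rw [hU0, AddSubgroup.mem_bot] at hu ⊢
      rw [hu, map_zero]
    by_cases hU1 : U = ⊤
    · rw [hU1]; exact AddSubgroup.mem_top _
    by_cases hirr : ∀ Z : AddSubgroup W, (∀ y, ∀ z ∈ Z, σ y z ∈ Z) → Z = ⊥ ∨ Z = ⊤
    · exfalso
      obtain ⟨a, ha⟩ : ∃ a, a ∉ U := by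
        by_contra hall
        push Not at hall
        exact hU1 (eq_top_iff.2 fun z _ => hall z)
      set U' := U.map (σ g : W →+ W) with hU'
      have hinv : ∀ y, ∀ z ∈ U ⊔ U', σ y z - z ∈ U ⊔ U' := by
        intro y
        let K : Subgroup X :=
        { carrier := {y | ∀ z, σ y z - z ∈ U ⊔ U'}
          one_mem' := fun z => by rw [act_one, sub_self]; exact zero_mem _
          mul_mem' := fun {p q} hp hq z => by
            rw [act_mul]
            have := add_mem (hp (σ q z)) (hq z)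
            rwa [sub_add_sub_cancel] at this
          inv_mem' := fun {p} hp z => by
            have := neg_mem (hp (σ p⁻¹ z))
            rwa [act_cancel_inv, neg_sub] at this }
        have hK : T ⊔ T.map (MulAut.conj g).toMonoidHom ≤ K := by
          refine sup_le (fun t ht z => AddSubgroup.mem_sup_left (hF.step t ht z)) ?_
          rintro _ ⟨t, ht, rfl⟩ z
          refine AddSubgroup.mem_sup_right ⟨_, hF.step t ht (σ g⁻¹ z), ?_⟩
          show σ g (σ t (σ g⁻¹ z) - σ g⁻¹ z) = σ (g * t * g⁻¹) z - z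
          rw [map_sub, ← act_mul, ← act_mul, act_cancel_inv]
        exact fun z _ => hK (hgen ▸ Subgroup.mem_top y) z
      rcases hirr (U ⊔ U') (fun y z hz => by simpa using add_mem (hinv y z hz) hz) with he | he
      · exact hU0 (eq_bot_iff.2 (he ▸ le_sup_left))
      have hlt := card_lt_of_irreducible hS3 hW2 hirr hF.quad fun hle => hU0 (eq_bot_iff.2 fun z hz => by
        obtain ⟨t, ht, e⟩ := hF.surj a ha z hz
        rw [AddSubgroup.mem_bot, ← e, MonoidHom.mem_ker.1 (hle ht)]
        exact sub_self a)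
      rw [hF.fixedPts_eq hU0] at hlt
      have hU'c : Nat.card U' ≤ Nat.card U :=
        Nat.card_le_card_of_surjective (fun z : U => (⟨σ g z, z, z.2, rfl⟩ : U'))
          fun ⟨_, z, hz, e⟩ => ⟨⟨z, hz⟩, Subtype.ext e⟩
      have h1 : Nat.card W ≤ Nat.card U * Nat.card U' := by
        rw [← Nat.card_prod]
        refine Nat.card_le_card_of_surjective (fun p : U × U' => (p.1 : W) + p.2) fun z => ?_
        obtain ⟨p, hp, q, hq, e⟩ := AddSubgroup.mem_sup.1 (he ▸ AddSubgroup.mem_top z : z ∈ U ⊔ U')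
        exact ⟨(⟨p, hp⟩, ⟨q, hq⟩), e⟩
      have h2 := hF.card_le ha
      have h3 := Nat.mul_le_mul h2 hU'c
      have h4 := (Nat.mul_le_mul_left (Nat.card U) hU'c)
      omega
    · push Not at hirr
      obtain ⟨Z, hZ, hZ0, hZ1⟩ := hirr
      by_cases hZU : Z ≤ U
      · have hlt : Nat.card (W ⧸ Z) < Nat.card W := by
          rw [Z.card_eq_card_quotient_mul_card_addSubgroup]
          exact lt_mul_of_one_lt_right Nat.card_pos (Z.one_lt_card_iff_ne_bot.2 hZ0)
        obtain ⟨w, hw, e⟩ := ih (W ⧸ Z) _ _ (by omega) (fun w => QuotientAddGroup.induction_on w fun z =>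
          congrArg QuotientAddGroup.mk (hW2 z)) (hF.quot hZU hZ) x _ ⟨u, hu, rfl⟩
        have h1 : -w + σ x u ∈ Z := QuotientAddGroup.eq.1 e
        have h2 := add_mem hw (hZU h1)
        rwa [add_neg_cancel_left] at h2
      · obtain ⟨a, haZ, haU⟩ := SetLike.not_le_iff_exists.1 hZU
        have hUZ : U ≤ Z := fun z hz => by
          obtain ⟨t, _, e⟩ := hF.surj a haU z hz
          exact e ▸ sub_mem (hZ t a haZ) haZ
        have hlt : Nat.card Z < Nat.card W := lt_of_le_of_ne (Nat.card_le_card_of_injective _ Subtype.val_injective)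
          fun e => hZ1 (AddSubgroup.eq_top_of_card_eq Z e)
        exact ih Z _ _ (by omega) (fun w => Subtype.ext (hW2 w)) (hF.sub hZ) x ⟨u, hUZ hu⟩ hu

/-- In a faithful irreducible action of a group without section `S₃` only the trivial configuration occurs. -/
theorem Full.inv [Finite X] [Finite V] (hS3 : ¬ Cfsg.Involves (Equiv.Perm (Fin 3)) X)
    (hV2 : ∀ v : V, v + v = 0) {T : Subgroup X} {U : AddSubgroup V} (h : Full ρ T U) :
    ∀ x, ∀ u ∈ U, ρ x u ∈ U := by
  suffices ∀ (n : ℕ) (W : Type v) [AddCommGroup W] [Finite W] (σ : X →* AddMonoid.End W) (U : AddSubgroup W),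
      Nat.card W ≤ n → (∀ w : W, w + w = 0) → Full σ T U → ∀ x, ∀ u ∈ U, σ x u ∈ U from
    this _ V ρ U le_rfl hV2 h
  intro n
  induction n with
  | zero =>
    intro W _ _ σ _ hn
    exact absurd (Nat.card_pos (α := W)) (by omega)
  | succ n ih =>
    intro W _ _ σ U hn hW2 hF x u hu
    by_cases hU0 : U = ⊥
    · rw [hU0, AddSubgroup.mem_bot] at hu ⊢
      rw [hu, map_zero]
    by_cases hU1 : U = ⊤
    · rw [hU1]; exact AddSubgroup.mem_top _
    by_cases hirr : ∀ Z : AddSubgroup W, (∀ y, ∀ z ∈ Z, σ y z ∈ Z) → Z = ⊥ ∨ Z = ⊤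
    · exfalso
      obtain ⟨a, ha⟩ : ∃ a, a ∉ U := by
        by_contra hall
        push Not at hall
        exact hU1 (eq_top_iff.2 fun z _ => hall z)
      obtain ⟨z, hzU, hz0⟩ : ∃ z ∈ U, z ≠ (0 : W) := by
        by_contra hall
        push Not at hall
        exact hU0 (eq_bot_iff.2 fun z hz => AddSubgroup.mem_bot.2 (hall z hz))
      obtain ⟨t, htT, het⟩ := hF.surj a ha z hzU
      let τ : X ⧸ σ.ker →* AddMonoid.End W := QuotientGroup.lift σ.ker σ fun _ hy => hy
      have hτ : ∀ y, τ y = 1 → y = 1 := fun y => QuotientGroup.induction_on y fun g hg =>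
        (QuotientGroup.eq_one_iff _).2 (MonoidHom.mem_ker.2 hg)
      set T' := T.map (QuotientGroup.mk' σ.ker)
      set t' : X ⧸ σ.ker := QuotientGroup.mk t
      have ht2 : t' * t' = 1 := hτ _ (act_mul_self hW2 fun v => hF.fix t htT _ (hF.step t htT v))
      have htne : t' ∉ Cfsg.pCore 2 (X ⧸ σ.ker) := by
        rw [pCore_image_eq_bot hW2 hirr, Subgroup.mem_bot]
        intro e
        have h1 : σ t = 1 := MonoidHom.mem_ker.1 ((QuotientGroup.eq_one_iff t).1 e)
        exact hz0 (het ▸ (by rw [h1]; exact sub_self a))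
      obtain ⟨q, k, hodd, hne, hinvp⟩ := CfsgLib.Techniques.JeTwo.exists_inverted ht2 htne
      set p := (t' * (q * t' * q⁻¹)) ^ 2 ^ k
      set P := T' ⊔ T'.map (MulAut.conj p).toMonoidHom
      have htP : t' ∈ P := Subgroup.mem_sup_left ⟨t, htT, rfl⟩
      have hpP : p ∈ P := by
        have h2 : p * p ∈ P := by
          have h3 : p * t' * p⁻¹ * t' = p * p := by
            have h4 : t' * p⁻¹ * t' = p := by
              rw [← hinvp, inv_eq_of_mul_eq_one_right ht2]
              simp only [← mul_assoc, ht2, one_mul]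
              rw [mul_assoc, ht2, mul_one]
            rw [mul_assoc p t', mul_assoc p, h4]
          exact h3 ▸ P.mul_mem (Subgroup.mem_sup_right ⟨t', ⟨t, htT, rfl⟩, rfl⟩) htP
        obtain ⟨m, hm⟩ := hodd
        have h5 : p = (p * p) ^ (m + 1) := by
          rw [← pow_two, ← pow_mul, show 2 * (m + 1) = orderOf p + 1 by omega, pow_succ, pow_orderOf_eq_one,
            one_mul]
        rw [h5]; exact P.pow_mem h2 _
      have hTP : T' ≤ P := le_sup_left
      have hF' : Full τ T' U := by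
        refine ⟨?_, ?_, fun b hb v hv => ?_⟩
        · rintro _ ⟨s, hs, rfl⟩; exact hF.fix s hs
        · rintro _ ⟨s, hs, rfl⟩; exact hF.step s hs
        · obtain ⟨s, hs, e⟩ := hF.surj b hb v hv
          exact ⟨_, ⟨s, hs, rfl⟩, e⟩
      have hinvU : ∀ y ∈ P, ∀ v ∈ U, τ y v ∈ U := by
        intro y hy
        have hFP : Full (τ.comp P.subtype) (T'.subgroupOf P) U :=
          Full.comap P.subtype (by rw [Subgroup.map_subgroupOf_eq_of_le hTP]; exact hF')
        refine Full.inv_of_pair (fun hI => not_involves_quotient hS3 σ.ker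
          (LocalEven.Involved.involves_of_subgroup hI)) hW2 (g := ⟨p, hpP⟩) ?_ hFP ⟨y, hy⟩
        refine Subgroup.map_injective P.subtype_injective ?_
        rw [Subgroup.map_sup, ← MonoidHom.range_eq_map, Subgroup.range_subtype,
          Subgroup.map_subgroupOf_eq_of_le hTP, Subgroup.map_map]
        show T' ⊔ (T'.subgroupOf P).map ((MulAut.conj p).toMonoidHom.comp P.subtype) = P
        rw [← Subgroup.map_map, Subgroup.map_subgroupOf_eq_of_le hTP]
      let K : Subgroup (X ⧸ σ.ker) :=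
      { carrier := {y | (∀ v, τ y v - v ∈ U) ∧ ∀ v ∈ U, τ y v = v}
        one_mem' := ⟨fun v => by rw [act_one, sub_self]; exact zero_mem _, fun v _ => act_one τ v⟩
        mul_mem' := fun {y y'} hy hy' => ⟨fun v => by
            rw [act_mul]
            have := add_mem (hy.1 (τ y' v)) (hy'.1 v)
            rwa [sub_add_sub_cancel] at this,
          fun v hv => by rw [act_mul, hy'.2 v hv, hy.2 v hv]⟩
        inv_mem' := fun {y} hy => ⟨fun v => by
            have := neg_mem (hy.1 (τ y⁻¹ v))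
            rwa [act_cancel_inv, neg_sub] at this,
          fun v hv => (congrArg (τ y⁻¹) (hy.2 v hv)).symm.trans (act_inv_cancel τ y v)⟩ }
      have hPK : P ≤ K := by
        have hTK : T' ≤ K := fun s hs => ⟨hF'.step s hs, hF'.fix s hs⟩
        refine sup_le hTK ?_
        rintro _ ⟨s, hs, rfl⟩
        have hp' : ∀ v ∈ U, τ p⁻¹ v ∈ U := hinvU _ (P.inv_mem hpP)
        refine ⟨fun v => ?_, fun v hv => ?_⟩
        · have h1 := hinvU p hpP _ (hF'.step s hs (τ p⁻¹ v))
          rw [map_sub, ← act_mul, ← act_mul, act_cancel_inv] at h1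
          exact h1
        · show τ (p * s * p⁻¹) v = v
          rw [act_mul, act_mul, hF'.fix s hs _ (hp' v hv), act_cancel_inv]
      have hp2 : p * p = 1 := hτ _ (act_mul_self hW2 fun v => (hPK hpP).2 _ ((hPK hpP).1 v))
      obtain ⟨m, hm⟩ := hodd
      refine hne ?_
      have h6 : p ^ (2 * m + 1) = 1 := hm ▸ pow_orderOf_eq_one p
      rwa [pow_succ, pow_mul, pow_two, hp2, one_pow, one_mul] at h6
    · push Not at hirr
      obtain ⟨Z, hZ, hZ0, hZ1⟩ := hirr
      by_cases hZU : Z ≤ U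
      · have hlt : Nat.card (W ⧸ Z) < Nat.card W := by
          rw [Z.card_eq_card_quotient_mul_card_addSubgroup]
          exact lt_mul_of_one_lt_right Nat.card_pos (Z.one_lt_card_iff_ne_bot.2 hZ0)
        obtain ⟨w, hw, e⟩ := ih (W ⧸ Z) _ _ (by omega) (fun w => QuotientAddGroup.induction_on w fun z =>
          congrArg QuotientAddGroup.mk (hW2 z)) (hF.quot hZU hZ) x _ ⟨u, hu, rfl⟩
        have h1 : -w + σ x u ∈ Z := QuotientAddGroup.eq.1 e
        have h2 := add_mem hw (hZU h1)
        rwa [add_neg_cancel_left] at h2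
      · obtain ⟨a, haZ, haU⟩ := SetLike.not_le_iff_exists.1 hZU
        have hUZ : U ≤ Z := fun z hz => by
          obtain ⟨t, _, e⟩ := hF.surj a haU z hz
          exact e ▸ sub_mem (hZ t a haZ) haZ
        have hlt : Nat.card Z < Nat.card W := lt_of_le_of_ne (Nat.card_le_card_of_injective _ Subtype.val_injective)
          fun e => hZ1 (AddSubgroup.eq_top_of_card_eq Z e)
        exact ih Z _ _ (by omega) (fun w => Subtype.ext (hW2 w)) (hF.sub hZ) x ⟨u, hUZ hu⟩ hu

/-- Lemma B and its corollary: an invariant subgroup between `Y` and `U` makes `U` invariant. -/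
theorem Hyp.inv_of_le [Finite X] [Finite V] (hS3 : ¬ Cfsg.Involves (Equiv.Perm (Fin 3)) X)
    (hV2 : ∀ v : V, v + v = 0) {T : Subgroup X} {U Y J : AddSubgroup V} (h : Hyp ρ T U Y)
    (hYJ : Y ≤ J) (hJU : J ≤ U) (hJ : ∀ x : X, ∀ v ∈ J, ρ x v ∈ J) : ∀ x, ∀ u ∈ U, ρ x u ∈ U := by
  have hF : Full (quotRep ρ J hJ) T (U.map (QuotientAddGroup.mk' J)) := by
    refine { fix := ?_, step := ?_, surj := ?_ }
    · rintro t ht _ ⟨u, hu, rfl⟩
      refine ((QuotientAddGroup.eq (s := J)).2 ?_).symm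
      rw [neg_add_eq_sub]; exact hYJ (h.step' t ht u hu)
    · intro t ht v
      induction v using QuotientAddGroup.induction_on with
      | H x => exact ⟨ρ t x - x, h.step t ht x, rfl⟩
    · intro v
      induction v using QuotientAddGroup.induction_on with
      | H z =>
        rintro hz _ ⟨u, hu, rfl⟩
        obtain ⟨t, ht, e⟩ := h.surj z (fun hm => hz ⟨z, hm, rfl⟩) u hu
        refine ⟨t, ht, ((QuotientAddGroup.eq (s := J)).2 ?_).symm⟩
        show -u + (ρ t z - z) ∈ J
        rw [neg_add_eq_sub]; exact hYJ e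
  intro x u hu
  obtain ⟨w, hw, e⟩ := Full.inv hS3 (fun w => QuotientAddGroup.induction_on w fun z =>
    congrArg QuotientAddGroup.mk (hV2 z)) hF x _ ⟨u, hu, rfl⟩
  have h1 : -w + ρ x u ∈ J := QuotientAddGroup.eq.1 e
  have h2 := add_mem hw (hJU h1)
  rwa [add_neg_cancel_left] at h2

/-- The central lemma. -/
theorem Hyp.le_flat_of_central [Finite X] [Finite V] (hS3 : ¬ Cfsg.Involves (Equiv.Perm (Fin 3)) X)
    (hV2 : ∀ v : V, v + v = 0) {T : Subgroup X} {U Y : AddSubgroup V} (h : Hyp ρ T U Y) (hU1 : U ≠ ⊤)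
    (hU : ∀ x : X, ∀ u ∈ U, ρ x u ∈ U)
    (hcomm : ∀ t ∈ T ⊓ flat ρ, ∀ x : X, Commute (ρ t) (ρ x)) : T ≤ flat ρ := by
  obtain ⟨a, ha⟩ : ∃ a, a ∉ U := by
    by_contra hall
    push Not at hall
    exact hU1 (eq_top_iff.2 fun z _ => hall z)
  by_contra hT
  set T0 := T ⊓ flat ρ
  set U' := U
  -- `[U, T₀]` and `[V, T₀]`
  set A := AddSubgroup.closure {w | ∃ t ∈ T0, ∃ v ∈ U, w = ρ t v - v}
  set B := AddSubgroup.closure {w | ∃ t ∈ T0, ∃ v, w = ρ t v - v}
  have hswap : ∀ t ∈ T0, ∀ x v, ρ x (ρ t v - v) = ρ t (ρ x v) - ρ x v := fun t ht x v => by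
    rw [map_sub]
    exact congrArg (· - ρ x v) (DFunLike.congr_fun (hcomm t ht x).eq v).symm
  have hBU : B ≤ U := (AddSubgroup.closure_le _).2 fun _ ⟨t, ht, v, e⟩ => e ▸ h.step t ht.1 v
  have hAY : A ≤ Y := (AddSubgroup.closure_le _).2 fun _ ⟨t, ht, v, hv, e⟩ => e ▸ h.step' t ht.1 v hv
  have hAinv : ∀ x : X, ∀ w ∈ A, ρ x w ∈ A := fun x w hw => by
    refine (AddSubgroup.closure_le (K := A.comap (ρ x : V →+ V))).2 ?_ hw
    rintro _ ⟨t, ht, v, hv, rfl⟩
    exact AddSubgroup.subset_closure ⟨t, ht, ρ x v, hU x v hv, hswap t ht x v⟩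
  have hBinv : ∀ x : X, ∀ w ∈ B, ρ x w ∈ B := fun x w hw => by
    refine (AddSubgroup.closure_le (K := B.comap (ρ x : V →+ V))).2 ?_ hw
    rintro _ ⟨t, ht, v, rfl⟩
    exact AddSubgroup.subset_closure ⟨t, ht, ρ x v, hswap t ht x v⟩
  have hAB : A ≤ B :=
    (AddSubgroup.closure_le _).2 fun _ ⟨t, ht, v, _, e⟩ => AddSubgroup.subset_closure ⟨t, ht, v, e⟩
  have hTA : ∀ s ∈ T, ∀ w ∈ A, ρ s w = w := fun s hs w hw => by
    have := hAY hw
    rw [← h.fix] at this
    exact this s hs
  have hTB : ∀ s ∈ T, ∀ w ∈ B, ρ s w - w ∈ A := fun s hs w hw => by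
    let d : V →+ V :=
      { toFun := fun z => ρ s z - z
        map_zero' := by rw [map_zero, sub_zero]
        map_add' := fun z z' => by rw [map_add]; abel }
    refine (AddSubgroup.closure_le (K := A.comap d)).2 ?_ hw
    rintro _ ⟨t, ht, v, rfl⟩
    show ρ s (ρ t v - v) - (ρ t v - v) ∈ A
    rw [hswap t ht s v, show ρ t (ρ s v) - ρ s v - (ρ t v - v) = (ρ t (ρ s v) - ρ t v) - (ρ s v - v) by abel,
      ← map_sub]
    exact AddSubgroup.subset_closure ⟨t, ht, _, h.step s hs v, rfl⟩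
  -- the action on `U`
  set ρU := subRep ρ U hU
  set B' := B.comap U.subtype
  have hB'inv : ∀ x : X, ∀ w ∈ B', ρU x w ∈ B' := fun x w hw => hBinv x _ hw
  have hU2 : ∀ w : U, w + w = 0 := fun w => Subtype.ext (hV2 w)
  set σ := quotRep ρU B' hB'inv
  have hσb : Bound σ T := by
    refine bound_of_quad hS3 (fun w => QuotientAddGroup.induction_on w fun z =>
      congrArg QuotientAddGroup.mk (hU2 z)) fun s hs w b hb => QuotientAddGroup.induction_on w fun z => ?_
    refine congrArg QuotientAddGroup.mk (Subtype.ext ?_)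
    have hy := h.step' s hs (z : V) z.2
    rw [← h.fix] at hy
    exact hy b hb
  set ρB := subRep ρ B hBinv
  set A' := A.comap B.subtype
  have hA'inv : ∀ x : X, ∀ w ∈ A', ρB x w ∈ A' := fun x w hw => hAinv x _ hw
  have hflatB : T ≤ flat ρB := by
    refine le_trans (le_inf ?_ ?_) (flat_inf_le (fun w => Subtype.ext (hV2 w)) A' hA'inv)
    · exact fun s hs => mem_flat_of_act_eq_one (AddMonoidHom.ext fun w => Subtype.ext (Subtype.ext
        (hTA s hs (w : B) w.2)))
    · exact fun s hs => mem_flat_of_act_eq_one (AddMonoidHom.ext fun w => QuotientAddGroup.induction_on w fun z => by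
        refine (QuotientAddGroup.eq.2 ?_).symm
        rw [neg_add_eq_sub]; exact hTB s hs z z.2)
  have hflatQ : T ≤ flat (quotRep ρ U hU) := fun s hs =>
    mem_flat_of_act_eq_one (AddMonoidHom.ext fun w => QuotientAddGroup.induction_on w fun z => by
      refine (QuotientAddGroup.eq.2 ?_).symm
      rw [neg_add_eq_sub]; exact h.step s hs z)
  have hflatB' : T ≤ flat (subRep ρU B' hB'inv) := by
    refine fun s hs => ?_
    obtain hk := hflatB hs
    haveI := flat_normal ρB
    refine le_flat (N := flat ρB) (fun x hx => ?_) hk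
    obtain ⟨k, hk⟩ := exists_pow_of_mem_flat hx
    exact ⟨k, AddMonoidHom.ext fun w => Subtype.ext (Subtype.ext
      (congrArg Subtype.val (DFunLike.congr_fun hk ⟨((w : U) : V), w.2⟩) :))⟩
  have hkey : flat σ ⊓ T ≤ flat ρ := by
    refine le_trans (le_inf ?_ ?_) (flat_inf_le hV2 U hU)
    · exact le_trans (le_inf (inf_le_right.trans hflatB') inf_le_left) (flat_inf_le hU2 B' hB'inv)
    · exact inf_le_right.trans hflatQ
  rcases hσb with hσ | hσ
  · exact hT fun s hs => hkey ⟨hσ hs, hs⟩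
  -- the numbers
  have hidx : (flat ρ).relIndex T ≤ (flat σ).relIndex T := by
    rw [← Subgroup.inf_relIndex_right (flat σ)]
    exact Subgroup.relIndex_le_of_le_left hkey relIndex_ne
  let e : T →* Multiplicative (U ⧸ (Y.comap U.subtype)) :=
  { toFun := fun s => Multiplicative.ofAdd (QuotientAddGroup.mk ⟨ρ (s : X) a - a, h.step s s.2 a⟩)
    map_one' := by
      refine congrArg Multiplicative.ofAdd ((QuotientAddGroup.eq_zero_iff _).2 ?_)
      show ρ (1 : X) a - a ∈ Y
      rw [act_one, sub_self]; exact zero_mem _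
    map_mul' := fun s s' => by
      refine congrArg Multiplicative.ofAdd ((QuotientAddGroup.eq.2 ?_).symm)
      show -(ρ (s : X) a - a + (ρ (s' : X) a - a)) + (ρ ((s : X) * s') a - a) ∈ Y
      have h1 := h.step' s s.2 _ (h.step s' s'.2 a)
      rw [map_sub, ← act_mul] at h1
      convert h1 using 1
      abel }
  have hesurj : Function.Surjective e := by
    intro q
    obtain ⟨u, hu⟩ := QuotientAddGroup.mk_surjective (Multiplicative.toAdd q)
    obtain ⟨s, hs, hsy⟩ := h.surj a ha u u.2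
    refine ⟨⟨s, hs⟩, Multiplicative.toAdd.injective ?_⟩
    show QuotientAddGroup.mk _ = Multiplicative.toAdd q
    rw [← hu]
    refine (QuotientAddGroup.eq.2 ?_).symm
    show -(u : V) + (ρ s a - a) ∈ Y
    rw [neg_add_eq_sub]; exact hsy
  have heker : e.ker = ρ.ker.subgroupOf T := by
    ext s
    constructor
    · intro hs
      refine MonoidHom.mem_ker.2 (h.inj a ha s s.2 ?_)
      have h1 : (⟨ρ (s : X) a - a, h.step s s.2 a⟩ : U) ∈ Y.comap U.subtype :=
        (QuotientAddGroup.eq_zero_iff _).1 (congrArg Multiplicative.toAdd (MonoidHom.mem_ker.1 hs))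
      exact h1
    · intro hs
      refine MonoidHom.mem_ker.2 (congrArg Multiplicative.ofAdd ((QuotientAddGroup.eq_zero_iff _).2 ?_))
      show ρ (s : X) a - a ∈ Y
      rw [show ρ (s : X) = 1 from hs]
      exact (sub_self a).symm ▸ zero_mem _
  -- images in `U / B`
  set Y' := Y.comap U.subtype
  set F := T0.subgroupOf T
  have hF : F = (flat ρ).subgroupOf T := by
    ext s; exact ⟨fun hs => hs.2, fun hs => ⟨s.2, hs⟩⟩
  set C := (Y' ⊔ B')
  have hFC : ∀ s ∈ F, Multiplicative.toAdd (e s) ∈ C.map (QuotientAddGroup.mk' Y') := fun s hs =>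
    ⟨⟨ρ (s : X) a - a, h.step s s.2 a⟩, AddSubgroup.mem_sup_right
      (AddSubgroup.subset_closure ⟨s, hs, a, rfl⟩ : ρ (s : X) a - a ∈ B), rfl⟩
  have hc1 : (ρ.ker.subgroupOf T).relIndex F ≤ Nat.card (C.map (QuotientAddGroup.mk' Y')) := by
    rw [← heker, Subgroup.relIndex, ← MonoidHom.ker_domRestrict, Subgroup.index_ker]
    refine Nat.card_le_card_of_injective (fun z => (⟨Multiplicative.toAdd (z : Multiplicative (U ⧸ Y')), ?_⟩ :
      C.map (QuotientAddGroup.mk' Y'))) fun z z' hz => Subtype.ext (Multiplicative.toAdd.injective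
        (congrArg Subtype.val hz :))
    obtain ⟨s, hs⟩ := z.2
    rw [← hs]
    exact hFC s s.2
  have hc2 : Nat.card (C.map (QuotientAddGroup.mk' Y')) * Nat.card Y' = Nat.card C := by
    rw [← card_preimage Y', AddSubgroup.comap_map_eq_self
      ((QuotientAddGroup.ker_mk' Y').le.trans le_sup_left)]
  have hT' : (ρ.ker.subgroupOf T).index * Nat.card Y' = Nat.card U := by
    rw [← heker, Subgroup.index_ker, MonoidHom.range_eq_top.2 hesurj, Subgroup.card_top,
      Y'.card_eq_card_quotient_mul_card_addSubgroup]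
    rfl
  have hsplit : (ρ.ker.subgroupOf T).relIndex F * F.index = (ρ.ker.subgroupOf T).index := by
    rw [hF]
    exact Subgroup.relIndex_mul_index (Subgroup.comap_mono (ker_le_flat ρ))
  -- fixed vectors in `U / B`
  have hfix : Nat.card C ≤ Nat.card (fixedPts σ T) * Nat.card B' := by
    have hle : C ≤ (fixedPts σ T).comap (QuotientAddGroup.mk' B') := by
      refine sup_le (fun y hy s hs => ?_) (fun b hb s hs => ?_)
      · refine congrArg QuotientAddGroup.mk (Subtype.ext ?_)
        have hy' : (y : V) ∈ fixedPts ρ T := h.fix ▸ hy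
        exact hy' s hs
      · show σ s (QuotientAddGroup.mk b) = QuotientAddGroup.mk b
        rw [(QuotientAddGroup.eq_zero_iff b).2 hb, map_zero]
    refine (Nat.card_le_card_of_injective _ (AddSubgroup.inclusion_injective hle)).trans ?_
    rw [card_preimage B']
  have hU3 : Nat.card U = Nat.card (U ⧸ B') * Nat.card B' :=
    B'.card_eq_card_quotient_mul_card_addSubgroup
  have hFi : F.index ≤ (flat σ).relIndex T := by rw [hF]; exact hidx
  have hpos : 0 < Nat.card B' := Nat.card_pos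
  have h1 : Nat.card U ≤ (flat σ).relIndex T * (Nat.card (fixedPts σ T) * Nat.card B') := by
    calc Nat.card U = (ρ.ker.subgroupOf T).relIndex F * Nat.card Y' * F.index := by
          rw [← hT', ← hsplit]; ring
      _ ≤ Nat.card C * F.index := Nat.mul_le_mul_right _ (hc2 ▸ Nat.mul_le_mul_right _ hc1)
      _ ≤ _ := by rw [mul_comm]; exact Nat.mul_le_mul hFi hfix
  rw [hU3, ← mul_assoc] at h1
  exact absurd (Nat.le_of_mul_le_mul_right h1 hpos) (not_le.2 hσ)

/-- Restriction of a configuration to an invariant subgroup. -/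
theorem Hyp.sub {T : Subgroup X} {U Y B : AddSubgroup V} (h : Hyp ρ T U Y)
    (hB : ∀ x : X, ∀ v ∈ B, ρ x v ∈ B) :
    Hyp (subRep ρ B hB) T (U.comap B.subtype) (Y.comap B.subtype) := by
  refine ⟨AddSubgroup.comap_mono h.le, ?_, fun t ht v => h.step t ht v, fun t ht u hu => h.step' t ht u hu,
    fun a ha u hu => ?_, fun a ha t ht e => AddMonoidHom.ext fun v => Subtype.ext ?_⟩
  · ext v
    constructor
    · exact fun hv => (h.fix ▸ fun t ht => congrArg Subtype.val (hv t ht) : (v : V) ∈ Y)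
    · intro hv t ht
      have h1 : (v : V) ∈ fixedPts ρ T := h.fix.symm ▸ hv
      exact Subtype.ext (h1 t ht)
  · obtain ⟨t, ht, e⟩ := h.surj a ha u hu
    exact ⟨t, ht, e⟩
  · exact DFunLike.congr_fun (h.inj a ha t ht e) (v : V)

end CfsgLib.Stellmacher.Config
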