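import Cfsg.Agent.Lib.Stellmacher.Module
import Cfsg.Prelude.Def_Transfer
import Mathlib.GroupTheory.Commutator.Basic

set_option autoImplicit false
set_option linter.unusedSectionVars false

/-! The two properties for an elementary abelian 2-subgroup acted on by conjugation. -/

namespace CfsgLib.Stellmacher

open Subgroup IsMulCommutative
open scoped commutatorElement

variable {G : Type*} [Group G] {H : Type*} [Group H]

/-- Conjugation through a homomorphism on an abelian subgroup. -/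
@[reducible]
def conjAction (N : Subgroup G) [IsMulCommutative N] (κ : H →* G)
    (hκ : ∀ h : H, κ h ∈ normalizer (N : Set G)) : DistribMulAction H (Additive N) where
  smul h x := Additive.ofMul ⟨κ h * (x.toMul : G) * (κ h)⁻¹, (mem_normalizer_iff.1 (hκ h) _).1 x.toMul.2⟩
  one_smul x := Additive.toMul.injective (Subtype.ext (by
    show κ 1 * (x.toMul : G) * (κ 1)⁻¹ = (x.toMul : G)
    simp))
  mul_smul g h x := Additive.toMul.injective (Subtype.ext (by
    show κ (g * h) * (x.toMul : G) * (κ (g * h))⁻¹ = κ g * (κ h * (x.toMul : G) * (κ h)⁻¹) * (κ g)⁻¹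
    rw [map_mul]; group))
  smul_zero h := Additive.toMul.injective (Subtype.ext (by
    show κ h * (1 : G) * (κ h)⁻¹ = 1
    simp))
  smul_add h x y := Additive.toMul.injective (Subtype.ext (by
    show κ h * ((x.toMul : G) * (y.toMul : G)) * (κ h)⁻¹
      = (κ h * (x.toMul : G) * (κ h)⁻¹) * (κ h * (y.toMul : G) * (κ h)⁻¹)
    group))

/-- The subgroup `V` inside the additive copy of `N`. -/
abbrev toAdd (N V : Subgroup G) : AddSubgroup (Additive N) := Subgroup.toAddSubgroup (V.subgroupOf N)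

theorem add_self (N : Subgroup G) [IsMulCommutative N] (h2 : ∀ v ∈ N, v ^ 2 = 1) (x : Additive N) :
    x + x = 0 :=
  Additive.toMul.injective (Subtype.ext (by
    show (x.toMul : G) * (x.toMul : G) = 1
    rw [← pow_two]; exact h2 _ x.toMul.2))

section Translate

variable (N : Subgroup G) [IsMulCommutative N] (κ : H →* G)
  (hκ : ∀ h : H, κ h ∈ normalizer (N : Set G))

theorem val_smul_sub (h : H) (x : Additive N) :
    letI := conjAction N κ hκ
    ((h • x - x).toMul : G) = ⁅κ h, (x.toMul : G)⁆ := by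
  letI := conjAction N κ hκ
  rw [sub_eq_add_neg, commutatorElement_def]
  rfl

theorem fixV_eq (T : Subgroup H) :
    letI := conjAction N κ hκ
    fixV (Additive N) T = toAdd N (centralizer (T.map κ : Set G)) := by
  letI := conjAction N κ hκ
  ext x
  refine ⟨fun hx => ?_, fun hx t ht => Additive.toMul.injective (Subtype.ext ?_)⟩
  · show (x.toMul : G) ∈ centralizer (T.map κ : Set G)
    rw [mem_centralizer_iff]
    rintro _ ⟨t, ht, rfl⟩
    exact mul_inv_eq_iff_eq_mul.1 (congrArg (fun z : Additive N => (z.toMul : G)) (hx t ht))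
  · show κ t * (x.toMul : G) * (κ t)⁻¹ = (x.toMul : G)
    exact mul_inv_eq_iff_eq_mul.2 (mem_centralizer_iff.1 hx _ ⟨t, ht, rfl⟩)

theorem fixG_eq {V : Subgroup G} (hV : V ≤ N) :
    letI := conjAction N κ hκ
    fixG H (toAdd N V) = (centralizer (V : Set G)).comap κ := by
  letI := conjAction N κ hκ
  ext h
  refine ⟨fun hh => ?_, fun hh x hx => Additive.toMul.injective (Subtype.ext ?_)⟩
  · rw [mem_comap, mem_centralizer_iff]
    intro v hv
    exact (mul_inv_eq_iff_eq_mul.1 (congrArg (fun z : Additive N => (z.toMul : G))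
      (hh (Additive.ofMul ⟨v, hV hv⟩) hv))).symm
  · show κ h * (x.toMul : G) * (κ h)⁻¹ = (x.toMul : G)
    exact mul_inv_eq_iff_eq_mul.2 (mem_centralizer_iff.1 hh _ hx).symm

theorem relIndex_fixV {V : Subgroup G} (hV : V ≤ N) (T : Subgroup H) :
    letI := conjAction N κ hκ
    (fixV (Additive N) T).relIndex (toAdd N V) = (centralizer (T.map κ : Set G)).relIndex V := by
  rw [fixV_eq, Subgroup.relIndex_toAddSubgroup, Subgroup.relIndex_subgroupOf hV]

theorem relIndex_fixG {V : Subgroup G} (hV : V ≤ N) (T : Subgroup H) :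
    letI := conjAction N κ hκ
    (fixG H (toAdd N V)).relIndex T = (centralizer (V : Set G)).relIndex (T.map κ) := by
  rw [fixG_eq N κ hκ hV, Subgroup.relIndex_comap]

end Translate

/-- `V` is elementary abelian, normalized by `S` and has both properties. -/
def PiSub (S V : Subgroup G) : Prop :=
  ∃ (hV : Cfsg.IsElementaryAbelian 2 V) (hn : S ≤ normalizer (V : Set G)),
    haveI := hV.1
    letI := conjAction V S.subtype (fun s => hn s.2)
    IsPi (⊤ : Subgroup S) (⊤ : AddSubgroup (Additive V))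

/-- The module and the group language agree. -/
theorem isPi_iff_piSub (N : Subgroup G) [IsMulCommutative N] (h2 : ∀ v ∈ N, v ^ 2 = 1) (κ : H →* G)
    (hinj : Function.Injective κ) (hκ : ∀ h : H, κ h ∈ normalizer (N : Set G)) {V : Subgroup G}
    (hV : V ≤ N) (S : Subgroup H) :
    letI := conjAction N κ hκ
    IsPi S (toAdd N V) ↔ PiSub (S.map κ) V := by
  letI := conjAction N κ hκ
  have hVe : Cfsg.IsElementaryAbelian 2 V :=
    ⟨⟨⟨fun a b => Subtype.ext (congrArg (fun z : N => (z : G))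
      (mul_comm' (⟨a, hV a.2⟩ : N) ⟨b, hV b.2⟩))⟩⟩, fun v hv => h2 v (hV hv)⟩
  haveI := hVe.1
  let φ : ↥(S.map κ) →* H := S.subtype.comp (S.equivMapOfInjective κ hinj).symm.toMonoidHom
  have hφ : Function.Injective φ := S.subtype_injective.comp (S.equivMapOfInjective κ hinj).symm.injective
  have hκφ : ∀ γ, κ (φ γ) = (γ : G) := fun γ =>
    congrArg Subtype.val ((S.equivMapOfInjective κ hinj).apply_symm_apply γ)
  let f : Additive V →+ Additive N := MonoidHom.toAdditive (Subgroup.inclusion hV)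
  have hf : Function.Injective f := Subgroup.inclusion_injective hV
  have htopS : (⊤ : Subgroup ↥(S.map κ)).map φ = S := by
    rw [← Subgroup.map_map, Subgroup.map_top_of_surjective _ (MulEquiv.surjective _),
      ← MonoidHom.range_eq_map, Subgroup.range_subtype]
  have htopV : (⊤ : AddSubgroup (Additive V)).map f = toAdd N V := by
    ext x
    constructor
    · rintro ⟨v, -, rfl⟩
      exact v.toMul.2
    · intro hx
      exact ⟨Additive.ofMul ⟨_, hx⟩, AddSubgroup.mem_top _, rfl⟩
  have key : ∀ hn : S.map κ ≤ normalizer (V : Set G),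
      letI := conjAction V (S.map κ).subtype (fun s => hn s.2)
      IsPi S (toAdd N V) ↔ IsPi (⊤ : Subgroup ↥(S.map κ)) (⊤ : AddSubgroup (Additive V)) := by
    intro hn
    letI := conjAction V (S.map κ).subtype (fun s => hn s.2)
    conv_lhs => rw [← htopS, ← htopV]
    refine isPi_map_iff hφ hf fun γ v => Additive.toMul.injective (Subtype.ext ?_)
    show (γ : G) * (v.toMul : G) * (γ : G)⁻¹ = κ (φ γ) * (v.toMul : G) * (κ (φ γ))⁻¹
    rw [hκφ]
  constructor
  · intro h
    have hn : S.map κ ≤ normalizer (V : Set G) := by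
      rintro _ ⟨s, hs, rfl⟩
      refine mem_normalizer_iff.2 fun v => ⟨fun hv => h.inv s hs (Additive.ofMul ⟨v, hV hv⟩) hv, fun hv => ?_⟩
      have h1 := h.inv s⁻¹ (inv_mem hs) (Additive.ofMul ⟨_, hV hv⟩) hv
      have h2' : κ s⁻¹ * (κ s * v * (κ s)⁻¹) * (κ s⁻¹)⁻¹ ∈ V := h1
      simpa [mul_assoc] using h2'
    exact ⟨hVe, hn, (key hn).1 h⟩
  · rintro ⟨_, hn, h⟩
    exact (key hn).2 h

namespace PiSub

variable {S V : Subgroup G}

theorem elem (h : PiSub S V) : Cfsg.IsElementaryAbelian 2 V := h.1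

theorem le_normalizer (h : PiSub S V) : S ≤ normalizer (V : Set G) := h.2.1

theorem comm (h : PiSub S V) {v w : G} (hv : v ∈ V) (hw : w ∈ V) : v * w = w * v :=
  congrArg Subtype.val (h.1.1.1.comm (⟨v, hv⟩ : V) ⟨w, hw⟩)

/-- The action of `S` on `V`. -/
theorem isPi (h : PiSub S V) (hn : ∀ s : S, S.subtype s ∈ normalizer (V : Set G)) :
    haveI := h.elem.1
    letI := conjAction V S.subtype hn
    IsPi (⊤ : Subgroup S) (toAdd V V) := by
  haveI := h.elem.1
  exact (isPi_iff_piSub V h.elem.2 S.subtype S.subtype_injective hn le_rfl ⊤).2 (by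
    rwa [← MonoidHom.range_eq_map, range_subtype])

theorem good (h : PiSub S V) {T : Subgroup G} (hT : T ≤ S)
    (hq : ∀ s ∈ T, ∀ t ∈ T, ∀ v ∈ V, s * ⁅t, v⁆ = ⁅t, v⁆ * s) (hn : ¬ T ≤ centralizer (V : Set G)) :
    (centralizer (V : Set G)).relIndex T < (centralizer (T : Set G)).relIndex V := by
  haveI := h.elem.1
  letI := conjAction V S.subtype (fun s => h.le_normalizer s.2)
  have hmap : (T.subgroupOf S).map S.subtype = T := map_subgroupOf_eq_of_le hT
  have h1 := (h.isPi _).good (T.subgroupOf S) le_top ?_ ?_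
  · rwa [relIndex_fixG V S.subtype _ le_rfl, relIndex_fixV V S.subtype _ le_rfl, hmap] at h1
  · intro s hs t ht x _
    refine Additive.toMul.injective (Subtype.ext ?_)
    show (s : G) * ((t • x - x).toMul : G) * (s : G)⁻¹ = ((t • x - x).toMul : G)
    rw [val_smul_sub]
    exact mul_inv_eq_iff_eq_mul.2 (hq _ hs _ ht _ x.toMul.2)
  · rw [fixG_eq V S.subtype _ le_rfl, ← map_le_iff_le_comap, hmap]
    exact hn

theorem false_of_special (h : PiSub S V) {T : Subgroup G} (hT : T ≤ S) (h2 : ∀ t ∈ T, t * t = 1)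
    (hcm : ∀ s ∈ T, ∀ t ∈ T, s * t = t * s) {a : G} (ha : a ∈ V) {V₀ : Subgroup G} (hV₀ : V₀ ≤ V)
    (hC : centralizer (T : Set G) ⊓ V ≤ V₀) (ha₀ : a ∉ V₀) (hidx : V₀.relIndex V ≤ 2)
    (h0 : ∀ t ∈ T, ∀ x ∈ V₀, ⁅t, x⁆ ∈ centralizer (T : Set G)) (ha1 : ∀ t ∈ T, ⁅t, a⁆ ∈ V₀)
    (hc : (centralizer (T : Set G)).relIndex V = 2 * (centralizer (V : Set G)).relIndex T)
    (h4 : 4 ≤ (centralizer (V : Set G)).relIndex T)
    (hinj : ∀ t ∈ T, ⁅t, a⁆ ∈ centralizer (T : Set G) → t ∈ centralizer (V : Set G)) : False := by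
  haveI := h.elem.1
  letI := conjAction V S.subtype (fun s => h.le_normalizer s.2)
  have hmap : (T.subgroupOf S).map S.subtype = T := map_subgroupOf_eq_of_le hT
  refine (h.isPi _).noSpec (T.subgroupOf S) le_top (fun t ht => Subtype.ext (h2 _ ht))
    (fun s hs t ht => Subtype.ext (hcm _ hs _ ht)) (Additive.ofMul ⟨a, ha⟩) ha (toAdd V V₀)
    (fun x _ => x.toMul.2) ?_ ha₀ ?_ ?_ ?_ ?_ ?_ ?_
  · rw [fixV_eq, hmap]
    exact fun x hx => hC ⟨hx.1, x.toMul.2⟩
  · rw [Subgroup.relIndex_toAddSubgroup, Subgroup.relIndex_subgroupOf le_rfl]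
    exact hidx
  · intro t ht x hx
    rw [fixV_eq, hmap]
    show ((t • x - x).toMul : G) ∈ centralizer (T : Set G)
    rw [val_smul_sub]
    exact h0 _ ht _ hx
  · intro t ht
    show ((t • Additive.ofMul (⟨a, ha⟩ : V) - Additive.ofMul (⟨a, ha⟩ : V)).toMul : G) ∈ V₀
    rw [val_smul_sub]
    exact ha1 _ ht
  · rw [relIndex_fixV V S.subtype _ le_rfl, relIndex_fixG V S.subtype _ le_rfl, hmap]
    exact hc
  · rw [relIndex_fixG V S.subtype _ le_rfl, hmap]
    exact h4
  · intro t ht hm
    rw [fixV_eq, hmap] at hm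
    change ((t • Additive.ofMul (⟨a, ha⟩ : V) - Additive.ofMul (⟨a, ha⟩ : V)).toMul : G) ∈
      centralizer (T : Set G) at hm
    rw [val_smul_sub] at hm
    rw [fixG_eq V S.subtype _ le_rfl]
    exact hinj _ ht hm

theorem of_le_centralizer (hV : Cfsg.IsElementaryAbelian 2 V) (h : S ≤ centralizer (V : Set G)) :
    PiSub S V := by
  haveI := hV.1
  have hn : S ≤ normalizer (V : Set G) := h.trans (centralizer_le_normalizer _)
  letI := conjAction V S.subtype (fun s => hn s.2)
  refine ⟨hV, hn, isPi_of_fixed fun s _ x _ => Additive.toMul.injective (Subtype.ext ?_)⟩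
  show (s : G) * (x.toMul : G) * (s : G)⁻¹ = (x.toMul : G)
  exact mul_inv_eq_iff_eq_mul.2 (mem_centralizer_iff.1 (h s.2) _ x.toMul.2).symm

theorem mono_group (h : PiSub S V) {S' : Subgroup G} (hle : S' ≤ S) : PiSub S' V := by
  haveI := h.elem.1
  letI := conjAction V S.subtype (fun s => h.le_normalizer s.2)
  have := (isPi_iff_piSub V h.elem.2 S.subtype S.subtype_injective _ le_rfl (S'.subgroupOf S)).1
    ((h.isPi _).mono_group le_top)
  rwa [map_subgroupOf_eq_of_le hle] at this

theorem map {G' : Type*} [Group G'] (h : PiSub S V) (τ : G →* G') (hτ : Function.Injective τ) :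
    PiSub (S.map τ) (V.map τ) := by
  haveI := h.elem.1
  haveI : IsMulCommutative ↥(V.map τ) := ⟨⟨fun a b => by
    obtain ⟨_, v, hv, rfl⟩ := a
    obtain ⟨_, w, hw, rfl⟩ := b
    exact Subtype.ext (show τ v * τ w = τ w * τ v by rw [← map_mul, ← map_mul, h.comm hv hw])⟩⟩
  have hn : ∀ s : S, (τ.comp S.subtype) s ∈ normalizer (V.map τ : Set G') := fun s =>
    le_normalizer_map τ ⟨s, h.le_normalizer s.2, rfl⟩
  have hkey := isPi_iff_piSub (V.map τ) (by rintro _ ⟨v, hv, rfl⟩; rw [← map_pow, h.elem.2 v hv, map_one])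
    (τ.comp S.subtype) (hτ.comp S.subtype_injective) hn le_rfl ⊤
  letI := conjAction V S.subtype (fun s => h.le_normalizer s.2)
  letI := conjAction (V.map τ) (τ.comp S.subtype) hn
  rw [← Subgroup.map_map, ← MonoidHom.range_eq_map, range_subtype] at hkey
  refine hkey.1 ?_
  have e1 : (⊤ : Subgroup S).map (MonoidHom.id S) = ⊤ := Subgroup.map_id _
  let f : Additive V →+ Additive ↥(V.map τ) := MonoidHom.toAdditive (τ.subgroupMap V)
  have hf : Function.Injective f := fun x y hxy =>
    Additive.toMul.injective (Subtype.ext (hτ (congrArg (fun z : Additive ↥(V.map τ) => (z.toMul : G')) hxy)))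
  have e2 : (toAdd V V).map f = toAdd (V.map τ) (V.map τ) := by
    refine le_antisymm (fun x _ => x.toMul.2) fun x _ => ?_
    obtain ⟨y, hy⟩ := τ.subgroupMap_surjective V x.toMul
    exact ⟨Additive.ofMul y, y.2, congrArg Additive.ofMul hy⟩
  rw [← e1, ← e2]
  refine (isPi_map_iff (φ := MonoidHom.id S) Function.injective_id hf fun γ v =>
    Additive.toMul.injective (Subtype.ext ?_)).2 (h.isPi _)
  show τ ((γ : G) * (v.toMul : G) * (γ : G)⁻¹) = τ γ * τ (v.toMul : G) * (τ γ)⁻¹
  rw [map_mul, map_mul, map_inv]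

variable [Finite G]

/-- Two such subgroups normalizing each other commute. -/
theorem commute_of_normalizing {S' V' : Subgroup G} (h : PiSub S V) (h' : PiSub S' V') (hV' : V' ≤ S)
    (hV : V ≤ S') : ∀ v ∈ V, ∀ w ∈ V', v * w = w * v := by
  suffices hle : V' ≤ centralizer (V : Set G) from fun v hv w hw => mem_centralizer_iff.1 (hle hw) v hv
  by_contra hn
  have hn' : ¬ V ≤ centralizer (V' : Set G) := fun h1 => hn (le_centralizer_iff.1 h1)
  have hcomm : ∀ {U W : Subgroup G}, (∀ u ∈ U, u ∈ normalizer (W : Set G)) →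
      (∀ w ∈ W, w ∈ normalizer (U : Set G)) → ∀ u ∈ U, ∀ w ∈ W, ⁅u, w⁆ ∈ U ⊓ W := by
    intro U W h1 h2 u hu w hw
    rw [commutatorElement_def]
    refine mem_inf.2 ⟨?_, mul_mem ((mem_normalizer_iff.1 (h1 u hu) w).1 hw) (inv_mem hw)⟩
    rw [mul_assoc, mul_assoc, ← mul_assoc w]
    exact mul_mem hu ((mem_normalizer_iff.1 (h2 w hw) _).1 (inv_mem hu))
  have hVn : ∀ v ∈ V, v ∈ normalizer (V' : Set G) := fun v hv => h'.le_normalizer (hV hv)
  have hV'n : ∀ w ∈ V', w ∈ normalizer (V : Set G) := fun w hw => h.le_normalizer (hV' hw)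
  have h1 := h.good hV' (fun s hs t ht v hv => h'.comm hs ((hcomm hV'n hVn t ht v hv).1)) hn
  have h2 := h'.good hV (fun s hs t ht v hv => h.comm hs ((hcomm hVn hV'n t ht v hv).1)) hn'
  omega

/-- The join of two such subgroups of `S`. -/
theorem sup {V' : Subgroup G} (h : PiSub S V) (h' : PiSub S V') (hV : V ≤ S) (hV' : V' ≤ S) :
    PiSub S (V ⊔ V') := by
  have hc := h.commute_of_normalizing h' hV' hV
  haveI : IsMulCommutative ↥(V ⊔ V') := by
    rw [Subgroup.sup_eq_closure]
    refine Subgroup.isMulCommutative_closure ?_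
    rintro x (hx | hx) y (hy | hy)
    · exact h.comm hx hy
    · exact hc x hx y hy
    · exact (hc y hy x hx).symm
    · exact h'.comm hx hy
  have h2 : ∀ x ∈ V ⊔ V', x ^ 2 = 1 := by
    intro x hx
    rw [Subgroup.sup_eq_closure] at hx
    induction hx using Subgroup.closure_induction with
    | mem y hy => exact hy.elim (h.elem.2 y) (h'.elem.2 y)
    | one => exact one_pow 2
    | mul y z hy hz h1 h2 =>
      rw [← Subgroup.sup_eq_closure] at hy hz
      have hyz : Commute y z := congrArg Subtype.val (mul_comm' (⟨y, hy⟩ : ↥(V ⊔ V')) ⟨z, hz⟩)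
      rw [hyz.mul_pow, h1, h2, one_mul]
    | inv y _ h1 => rw [inv_pow, h1, inv_one]
  have hn : ∀ s : S, S.subtype s ∈ normalizer ((V ⊔ V' : Subgroup G) : Set G) := fun s =>
    mem_normalizer_iff_map_conj_eq.2 (by
      rw [Subgroup.map_sup,
        mem_normalizer_iff_map_conj_eq.1 (h.le_normalizer s.2 : S.subtype s ∈ normalizer (V : Set G)),
        mem_normalizer_iff_map_conj_eq.1 (h'.le_normalizer s.2 : S.subtype s ∈ normalizer (V' : Set G))])
  letI := conjAction (V ⊔ V') S.subtype hn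
  have hS : (⊤ : Subgroup S).map S.subtype = S := by rw [← MonoidHom.range_eq_map, range_subtype]
  have hp := (isPi_iff_piSub (V ⊔ V') h2 S.subtype S.subtype_injective hn le_sup_left ⊤).2 (hS.symm ▸ h)
  have hp' := (isPi_iff_piSub (V ⊔ V') h2 S.subtype S.subtype_injective hn le_sup_right ⊤).2 (hS.symm ▸ h')
  have := (isPi_iff_piSub (V ⊔ V') h2 S.subtype S.subtype_injective hn le_rfl ⊤).1 (?_ : IsPi _ _)
  · rwa [hS] at this
  · convert hp.sup hp' using 1
    refine le_antisymm (fun x _ => ?_) (sup_le (fun x _ => x.toMul.2) (fun x _ => x.toMul.2))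
    have hx : (x.toMul : G) ∈ V ⊔ V' := x.toMul.2
    have : ∀ g ∈ closure ((V : Set G) ∪ V'), ∃ hg : g ∈ V ⊔ V', Additive.ofMul (⟨g, hg⟩ : ↥(V ⊔ V')) ∈
        toAdd (V ⊔ V') V ⊔ toAdd (V ⊔ V') V' := by
      intro g hg
      induction hg using Subgroup.closure_induction with
      | mem y hy =>
        exact hy.elim (fun hy => ⟨mem_sup_left hy, AddSubgroup.mem_sup_left hy⟩)
          (fun hy => ⟨mem_sup_right hy, AddSubgroup.mem_sup_right hy⟩)
      | one => exact ⟨one_mem _, zero_mem _⟩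
      | mul y z _ _ h1 h2 => exact ⟨mul_mem h1.1 h2.1, add_mem h1.2 h2.2⟩
      | inv y _ h1 => exact ⟨inv_mem h1.1, neg_mem h1.2⟩
    exact (this _ (Subgroup.sup_eq_closure V V' ▸ hx)).2

end PiSub

end CfsgLib.Stellmacher
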