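import Cfsg.Agent.Lib.Stellmacher.Parabolic

set_option autoImplicit false
set_option linter.unusedSectionVars false

/-! The closure of a module without quadratic offenders under a minimal parabolic group has none. -/

namespace CfsgLib.Stellmacher

open scoped commutatorElement

variable {G : Type*} [Group G] [Finite G] {X : Type*} [AddCommGroup X] [DistribMulAction G X]

/-- The translate of a submodule. -/
def piece (W : AddSubgroup X) (g : G) : AddSubgroup X := W.map (DistribSMul.toAddMonoidHom X g)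

theorem smul_mem_piece {W : AddSubgroup X} (g : G) {w : X} (hw : w ∈ W) : g • w ∈ piece W g :=
  AddSubgroup.mem_map_of_mem _ hw

theorem isPi_piece {S : Subgroup G} {W : AddSubgroup X} (h : IsPi S W) (g : G) :
    IsPi (S.map (MulAut.conj g).toMonoidHom) (piece W g) := by
  refine (isPi_map_iff (φ := (MulAut.conj g).toMonoidHom) (f := DistribSMul.toAddMonoidHom X g)
    (MulAut.conj g).injective (MulAction.injective g) ?_).2 h
  intro γ v
  show g • γ • v = (g * γ * g⁻¹) • g • v
  rw [← mul_smul, ← mul_smul]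
  simp [mul_assoc]

/-- The kernel of the action. -/
def actKer (G : Type*) [Group G] (X : Type*) [AddCommGroup X] [DistribMulAction G X] : Subgroup G :=
  fixG G (⊤ : AddSubgroup X)

theorem actKer_normal : (actKer G X).Normal :=
  ⟨fun k hk g x _ => by
    rw [mul_smul, mul_smul, hk _ (AddSubgroup.mem_top _), smul_inv_smul]⟩

theorem smul_eq_of_mem_actKer {k : G} (hk : k ∈ actKer G X) (x : X) : k • x = x :=
  hk x (AddSubgroup.mem_top x)

/-- All translates generate, so a subgroup fixing all of them acts trivially. -/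
theorem le_actKer_of_pieces {W : AddSubgroup X}
    (hgen : AddSubgroup.closure {x : X | ∃ g : G, ∃ w ∈ W, x = g • w} = ⊤) {T : Subgroup G}
    (h : ∀ g : G, T ≤ fixG G (piece W g)) : T ≤ actKer G X := by
  intro t ht
  show t ∈ fixG G ⊤
  rw [← hgen]
  refine mem_fixG_of_forall_gen ?_
  rintro _ ⟨g, w, hw, rfl⟩
  exact h g ht _ (smul_mem_piece g hw)

theorem inverts {a d : G} (h : a * d * a⁻¹ * d ∈ actKer G X) (x : X) : a • d • x = d⁻¹ • a • x := by
  have h1 := smul_eq_of_mem_actKer h (d⁻¹ • a • x)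
  rwa [mul_smul, mul_smul, mul_smul, smul_inv_smul, inv_smul_smul] at h1

theorem inverts' {a d : G} (h : a * d * a⁻¹ * d ∈ actKer G X) (x : X) : a • d⁻¹ • x = d • a • x := by
  have h1 := inverts h (d⁻¹ • x)
  rw [smul_inv_smul] at h1
  rw [h1, smul_inv_smul]

theorem index_piece (W : AddSubgroup X) (g : G) : (piece W g).index = W.index :=
  AddSubgroup.index_map_of_bijective (f := DistribSMul.toAddMonoidHom X g)
    ⟨MulAction.injective g, MulAction.surjective g⟩ W

variable [Finite X]

theorem sup_eq_top_of_relIndex {Y U : AddSubgroup X} (h : Y.index ≤ Y.relIndex U) : U ⊔ Y = ⊤ := by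
  rw [← AddSubgroup.index_eq_one]
  have h1 := AddSubgroup.relIndex_mul_index (le_sup_right : Y ≤ U ⊔ Y)
  rw [AddSubgroup.relIndex_sup_right] at h1
  have h2 := relIndex_addSubgroup_pos Y U
  have h3 : 0 < (U ⊔ Y).index := Nat.pos_of_ne_zero AddSubgroup.index_ne_zero_of_finite
  rw [← h1] at h
  by_contra hne
  have h4 : 2 * Y.relIndex U ≤ (U ⊔ Y).index * Y.relIndex U := Nat.mul_le_mul_right _ (by omega)
  rw [mul_comm (U ⊔ Y).index] at h4
  omega

variable {S Q M : Subgroup G}

/-- The inheritance of the absence of quadratic offenders. -/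
theorem good_closure (hP : Para S Q M) (h2 : ∀ x : X, x + x = 0) {W : AddSubgroup X} (hpi : IsPi S W)
    (hM : ∀ g, (∀ w ∈ W, g • w ∈ W) → g ∈ M)
    (hgen : AddSubgroup.closure {x : X | ∃ g : G, ∃ w ∈ W, x = g • w} = ⊤) :
    Good S (⊤ : AddSubgroup X) := by
  classical
  haveI := hP.normal
  set K := actKer G X with hK
  have hKn : K.Normal := actKer_normal
  have hKM : K ≤ M := fun k hk => hM k fun w hw => by rw [smul_eq_of_mem_actKer hk w]; exact hw
  have hKS : K ⊓ S ≤ Q := hP.kernel K hKn hKM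
  suffices H : ∀ (n : ℕ) (T : Subgroup G), Nat.card T = n → T ≤ S →
      (∀ s ∈ T, ∀ t ∈ T, ∀ x : X, s • (t • x - x) = t • x - x) → ¬ T ≤ K →
      K.relIndex T < (fixV X T).index by
    intro T hT hq hn
    rw [AddSubgroup.relIndex_top_right]
    exact H _ T rfl hT (fun s hs t ht x => hq s hs t ht x (AddSubgroup.mem_top x)) hn
  intro n
  induction n using Nat.strong_induction_on with
  | _ n ih =>
  intro T hcard hT hq hn
  by_contra hcon
  push Not at hcon
  have h2G : ∀ {T' : Subgroup G}, T' ≤ S → ∀ H : Subgroup G, ∃ i, H.relIndex T' = 2 ^ i :=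
    fun h H => exists_relIndex_two_pow_group hP.isP h H
  have h2V : ∀ H : AddSubgroup X, ∃ i, H.index = 2 ^ i := fun H => by
    obtain ⟨i, hi⟩ := exists_relIndex_two_pow h2 H ⊤
    exact ⟨i, by rwa [AddSubgroup.relIndex_top_right] at hi⟩
  have hstrict : ∀ T' : Subgroup G, T' < T → ¬ T' ≤ K → 2 * K.relIndex T' ≤ (fixV X T').index := by
    intro T' hlt hn'
    refine two_mul_le_of_lt (h2G (hlt.le.trans hT) K) (h2V _) (ih _ ?_ T' rfl (hlt.le.trans hT)
      (fun s hs t ht => hq s (hlt.le hs) t (hlt.le ht)) hn')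
    rw [← hcard]
    exact lt_of_not_ge fun hge => hlt.ne (Subgroup.eq_of_le_of_card_ge hlt.le hge)
  have hle : ∀ T' : Subgroup G, T' < T → K.relIndex T' ≤ (fixV X T').index := by
    intro T' hlt
    by_cases hn' : T' ≤ K
    · rw [Subgroup.relIndex_eq_one.2 hn']
      exact Nat.pos_of_ne_zero AddSubgroup.index_ne_zero_of_finite
    · have := hstrict T' hlt hn'
      omega
  have hpiece : ∀ g, T ≤ S.map (MulAut.conj g).toMonoidHom → T ≤ fixG G (piece W g) := by
    intro g hg
    by_contra hn'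
    have hlt : T ⊓ fixG G (piece W g) < T := lt_of_le_of_ne inf_le_left fun he => hn' (inf_eq_left.1 he)
    have := (isPi_piece hpi g).good.lt_of_split hg (fun s hs t ht u _ => hq s hs t ht u) hn'
      (le_top : piece W g ≤ ⊤) (by rw [AddSubgroup.relIndex_top_right]; exact hle _ hlt)
    rw [AddSubgroup.relIndex_top_right] at this
    exact absurd this (not_lt.2 hcon)
  have hTW : T ≤ fixG G W := fun t ht w hw =>
    hpiece 1 (fun s hs => ⟨s, hT hs, by simp⟩) ht w ⟨w, hw, one_smul G w⟩
  have hTQ : ¬ T ≤ Q := fun h => hn (le_actKer_of_pieces hgen fun g => hpiece g (h.trans (hP.Q_le_conj g)))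
  have hT2 : ∀ t ∈ T, t * t ∈ K := by
    intro t ht x _
    rw [mul_smul]
    have h1 := hq t ht t ht x
    rw [smul_sub] at h1
    have h3 : t • t • x = x + ((t • x - x) + (t • x - x)) := by
      rw [sub_eq_iff_eq_add.1 h1]; abel
    rw [h3, h2, add_zero]
  have hTc : ∀ s ∈ T, ∀ t ∈ T, ⁅s, t⁆ ∈ K := by
    intro s hs t ht
    have hcomm : ∀ x : X, s • t • x = t • s • x := by
      intro x
      have h1 := hq s hs t ht x
      have h3 := hq t ht s hs x
      rw [smul_sub] at h1 h3
      rw [sub_eq_iff_eq_add.1 h1, sub_eq_iff_eq_add.1 h3]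
      abel
    intro x _
    rw [commutatorElement_def, mul_smul, mul_smul, mul_smul]
    rw [hcomm, smul_inv_smul, smul_inv_smul]
  obtain ⟨B, a, d, q, j, hBT, hB2, hBQ, haT, haB, hq', hq5, hdo, hdM, hBd, had⟩ :=
    hP.select K hKn hKM T hT hTQ hT2 hTc
  have hBlt : B < T := lt_of_le_of_ne hBT fun h => haB (h ▸ haT)
  have hKB : K ⊓ T ≤ B := fun x hx => hBQ ⟨hx.2, hKS ⟨hx.1, hT hx.2⟩⟩
  set t₀ := K.relIndex B with ht₀
  have ht : K.relIndex T = 2 * t₀ := by
    rw [← Subgroup.inf_relIndex_right K T, ← Subgroup.relIndex_mul_relIndex _ _ _ hKB hBT, hB2,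
      mul_comm, ht₀, ← Subgroup.inf_relIndex_right (K ⊓ T) B, inf_assoc, inf_eq_right.2 hBT,
      Subgroup.inf_relIndex_right]
  have hodd : Odd (orderOf d) := hdo ▸ (hq'.odd_of_ne_two (by omega)).pow
  have hodd' : Odd (orderOf d⁻¹) := by rwa [orderOf_inv]
  -- the case of a transvection
  have ht₀2 : 2 ≤ t₀ := by
    by_contra hlt
    have hlt' : t₀ ≤ 1 := by omega
    have hpos : 0 < t₀ := Nat.pos_of_ne_zero Subgroup.index_ne_zero_of_finite
    have hidx : (fixV X T).index ≤ 2 := by rw [ht] at hcon; omega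
    set F := fixV X T ⊓ piece (fixV X T) d with hF
    have hFfix : ∀ f ∈ F, d • f = f := by
      intro f hf
      obtain ⟨hf1, f', hf', hff⟩ := AddSubgroup.mem_inf.1 hf
      change d • f' = f at hff
      have e1 : a • f = f := hf1 a haT
      have e2 : a • f = d⁻¹ • f' := by rw [← hff, inverts had, hf' a haT]
      have e3 : d • d • f = f := by
        conv_lhs => rw [← e1, e2, smul_inv_smul]
        exact hff
      exact smul_eq_of_sq hodd e3
    have hF4 : F.relIndex ⊤ ≤ 4 := by
      refine AddSubgroup.relIndex_inf_le.trans ?_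
      rw [AddSubgroup.relIndex_top_right, AddSubgroup.relIndex_top_right]
      rw [index_piece]
      exact Nat.mul_le_mul hidx hidx
    have hall := fixed_of_index_le_four h2 hq' hq5 hdo le_top (fun z _ => AddSubgroup.mem_top _) hFfix hF4
    exact hdM (hM d fun w hw => by rw [hall w (AddSubgroup.mem_top w)]; exact hw)
  have hBK : ¬ B ≤ K := fun h => by
    rw [ht₀, Subgroup.relIndex_eq_one.2 h] at ht₀2
    omega
  set Y := fixV X T with hY
  have hc : Y.index = 2 * t₀ := by
    refine le_antisymm (ht ▸ hcon) ((hstrict B hBlt hBK).trans ?_)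
    exact Nat.le_of_dvd (Nat.pos_of_ne_zero AddSubgroup.index_ne_zero_of_finite)
      (AddSubgroup.index_dvd_of_le (fixV_anti hBT))
  -- the translate by `e`
  have hfaith : ∀ e : G, e ∉ M → Odd (orderOf e) → (∀ x : X, a • e • x = e⁻¹ • a • x) →
      B ≤ S.map (MulAut.conj e).toMonoidHom →
      Y.relIndex (piece W e) = 2 * t₀ ∧ t₀ ≤ (fixG G (piece W e)).relIndex B := by
    intro e he heo hinv hBe
    set U := piece W e with hU
    have hnT : ¬ T ≤ fixG G U := by
      intro h
      refine he (hM e fun w hw => ?_)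
      have h1 : a • e • w = e • w := h haT _ (smul_mem_piece e hw)
      rw [hinv, hTW haT w hw] at h1
      have h3 : e • e • w = w := by rw [← h1, smul_inv_smul]
      rw [smul_eq_of_sq heo h3]
      exact hw
    have hw1 : 1 < Y.relIndex U := by
      have := relIndex_addSubgroup_pos Y U
      by_contra hlt
      exact hnT (le_fixG_of_le_fixV (AddSubgroup.relIndex_eq_one.1 (show Y.relIndex U = 1 by omega)))
    set b₀ := (fixG G U).relIndex B with hb₀
    have htU : (fixG G U).relIndex T ≤ 2 * b₀ := by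
      rw [← hB2, hb₀, ← Subgroup.inf_relIndex_right (fixG G U) B, mul_comm,
        Subgroup.relIndex_mul_relIndex _ _ _ inf_le_right hBT]
      exact Subgroup.relIndex_le_of_le_left inf_le_left Subgroup.index_ne_zero_of_finite
    have hbw : 2 ≤ b₀ → 2 * b₀ ≤ Y.relIndex U := by
      intro hb
      have hnB : ¬ B ≤ fixG G U := fun h => by
        rw [hb₀, Subgroup.relIndex_eq_one.2 h] at hb; omega
      refine (two_mul_le_of_lt (h2G (hBT.trans hT) _) (exists_relIndex_two_pow h2 _ _)
        ((isPi_piece hpi e).good B hBe (fun s hs t ht u _ => hq s (hBT hs) t (hBT ht) u) hnB)).trans ?_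
      exact AddSubgroup.relIndex_le_of_le_left (fixV_anti hBT) AddSubgroup.index_ne_zero_of_finite
    have htUw : (fixG G U).relIndex T ≤ Y.relIndex U := by
      have hb0 : 0 < b₀ := Nat.pos_of_ne_zero Subgroup.index_ne_zero_of_finite
      rcases Nat.lt_or_ge b₀ 2 with hb | hb
      · omega
      · exact htU.trans (hbw hb)
    have hfx : T ⊓ fixG G U ≤ K := by
      by_contra hnk
      have hlt : T ⊓ fixG G U < T := lt_of_le_of_ne inf_le_left fun hh => hnT (inf_eq_left.1 hh)
      have h1 := cost_split (W := ⊤) (inf_le_left : T ⊓ fixG G U ≤ T)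
        (le_fixV_of_le_fixG inf_le_right) le_top
      rw [AddSubgroup.relIndex_top_right, AddSubgroup.relIndex_top_right, hc] at h1
      have h3 := (Nat.mul_le_mul (hstrict _ hlt hnk) htUw).trans h1
      have h4 : K.relIndex (T ⊓ fixG G U) * (fixG G U).relIndex T = K.relIndex T :=
        order_split T le_top
      rw [mul_assoc, h4, ht] at h3
      omega
    have htU' : (fixG G U).relIndex T = 2 * t₀ := by
      have h4 : K.relIndex (T ⊓ fixG G U) * (fixG G U).relIndex T = K.relIndex T :=
        order_split T le_top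
      rwa [Subgroup.relIndex_eq_one.2 hfx, one_mul, ht] at h4
    refine ⟨le_antisymm ?_ (htU' ▸ htUw), by omega⟩
    rw [← hc]
    exact (AddSubgroup.relIndex_le_of_le_right le_top AddSubgroup.index_ne_zero_of_finite).trans
      (AddSubgroup.relIndex_top_right Y).le
  have hdM' : d⁻¹ ∉ M := fun h => hdM (inv_inv d ▸ inv_mem h)
  obtain ⟨hU1, hU2⟩ := hfaith d hdM hodd (inverts had) (by simpa using hP.le_conj (hBT.trans hT) hBd 1)
  obtain ⟨hU'1, hU'2⟩ := hfaith d⁻¹ hdM' hodd' (fun x => by rw [inv_inv]; exact inverts' had x)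
    (by simpa using hP.le_conj (hBT.trans hT) hBd (-1))
  set U := piece W d with hU
  set Y' := piece Y d with hY'
  have hWY : W ≤ Y := le_fixV_of_le_fixG hTW
  have hUY' : U ≤ Y' := AddSubgroup.map_mono hWY
  set Y₀ := Y ⊓ Y' with hY₀
  have hUtop : U ⊔ Y = ⊤ := sup_eq_top_of_relIndex (by rw [hU1, hc])
  have hWtop : W ⊔ Y' = ⊤ := by
    have h1 : piece W d⁻¹ ⊔ Y = ⊤ := sup_eq_top_of_relIndex (by rw [hU'1, hc])
    refine eq_top_iff.2 fun x _ => ?_
    obtain ⟨_, ⟨w, hw, rfl⟩, z, hz, hwz⟩ := AddSubgroup.mem_sup.1 (h1.ge (AddSubgroup.mem_top (d⁻¹ • x)))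
    change d⁻¹ • w + z = d⁻¹ • x at hwz
    have h3 := congrArg (fun y => d • y) hwz
    simp only [smul_add, smul_inv_smul] at h3
    exact h3 ▸ AddSubgroup.add_mem_sup hw (smul_mem_piece d hz)
  -- `d` fixes `Y₀` and moves every vector outside
  have hY₀fix : ∀ y ∈ Y₀, d • y = y := by
    intro y hy
    obtain ⟨hy1, y', hy', hyy⟩ := AddSubgroup.mem_inf.1 hy
    change d • y' = y at hyy
    have e1 : a • y = y := hy1 a haT
    have e2 : a • y = d⁻¹ • y' := by rw [← hyy, inverts had, hy' a haT]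
    have e3 : d • d • y = y := by
      conv_lhs => rw [← e1, e2, smul_inv_smul]
      exact hyy
    exact smul_eq_of_sq hodd e3
  have hdY : ∀ y ∈ Y, d • y = y → y ∈ Y₀ := fun y hy h =>
    AddSubgroup.mem_inf.2 ⟨hy, ⟨y, hy, h⟩⟩
  have hYY₀ : ∀ {x : X}, x ∈ U → a • x - x ∈ Y₀ → x ∈ Y₀ := by
    intro x hx hax
    obtain ⟨w, hw, rfl⟩ := hx
    change a • d • w - d • w ∈ Y₀ at hax
    rw [inverts had, hTW haT w hw] at hax
    have h5 : d • (d⁻¹ • w - d • w) = d⁻¹ • w - d • w := hY₀fix _ hax
    rw [smul_sub, smul_inv_smul] at h5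
    set u := d • w with hu
    have hdd : d • d • (d⁻¹ • w) - d⁻¹ • w ∈ Y₀ := by
      rw [smul_inv_smul, ← hu, ← neg_sub]
      exact neg_mem hax
    have h6 : d • d • (d⁻¹ • w) = d⁻¹ • w := by
      have h7 : Odd (orderOf (d * d)) := by
        obtain ⟨l, -, hl⟩ := (Nat.dvd_prime_pow hq').1 (hdo ▸ (show orderOf (d * d) ∣ orderOf d by
          rw [← pow_two]; exact orderOf_pow_dvd 2))
        rw [hl]; exact (hq'.odd_of_ne_two (by omega)).pow
      have h8 := hY₀fix _ hdd
      have := smul_eq_of_fixed_displacement h2 h7 (x := d⁻¹ • w) (by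
        rw [mul_smul, mul_smul, h8, h8])
      rwa [mul_smul] at this
    have h9 : d • w = w := by
      have h10 := smul_eq_of_sq hodd h6
      rw [smul_inv_smul] at h10
      conv_lhs => rw [h10, smul_inv_smul]
    show d • w ∈ Y₀
    rw [h9]
    exact hdY w (hWY hw) h9
  have hfpf : ∀ x : X, d • x = x → x ∈ Y₀ := by
    intro x hx
    obtain ⟨u, hu, y, hy, rfl⟩ := AddSubgroup.mem_sup.1 (hUtop.ge (AddSubgroup.mem_top x))
    have hz : a • u - u ∈ Y₀ := by
      have h1 : a • (u + y) - (u + y) = a • u - u := by rw [smul_add, hy a haT]; abel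
      refine hdY _ (fun t ht => hq t ht a haT u) ?_
      rw [← h1, smul_sub, hx, ← inverts' had, inv_smul_eq_iff.2 hx.symm]
    have huY₀ := hYY₀ hu hz
    have hy' : d • y = y := by
      have := hY₀fix u huY₀
      rw [smul_add, this] at hx
      exact add_left_cancel hx
    exact add_mem huY₀ (hdY y hy hy')
  have hY₀idx : Y₀.index = 2 * t₀ * (2 * t₀) := by
    have h1 : Y'.index = Y.index := index_piece Y d
    have h3 : Y ⊔ Y' = ⊤ := top_le_iff.1 (hWtop.ge.trans (sup_le_sup_right hWY _))
    have h4 : Y'.relIndex Y = Y'.index := by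
      rw [← AddSubgroup.relIndex_sup_right, h3, AddSubgroup.relIndex_top_right]
    rw [hY₀, ← AddSubgroup.relIndex_mul_index (inf_le_left : Y ⊓ Y' ≤ Y), inf_comm,
      AddSubgroup.inf_relIndex_right, h4, h1, hc]
  have hπmap : Y₀ ≤ Y₀.comap (DistribSMul.toAddMonoidHom X d) := fun y hy => by
    show d • y ∈ Y₀
    rw [hY₀fix y hy]; exact hy
  set F := QuotientAddGroup.map Y₀ Y₀ (DistribSMul.toAddMonoidHom X d) hπmap with hF
  have hFinj : Function.Injective F := by
    rw [injective_iff_map_eq_zero]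
    intro v
    induction v using QuotientAddGroup.induction_on with
    | H x =>
      intro h
      have h1 : d • x ∈ Y₀ := (QuotientAddGroup.eq_zero_iff _).1 h
      refine (QuotientAddGroup.eq_zero_iff x).2 ?_
      have h3 := hY₀fix _ h1
      exact ((smul_left_cancel_iff d).1 h3) ▸ h1
  set π := Equiv.ofBijective F (Finite.injective_iff_bijective.1 hFinj) with hπ
  have hpow : ∀ (m : ℕ) (x : X), (π ^ m) (QuotientAddGroup.mk x) = QuotientAddGroup.mk (d ^ m • x) := by
    intro m
    induction m with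
    | zero => intro x; simp
    | succ m ihm =>
      intro x
      rw [pow_succ', Equiv.Perm.mul_apply, ihm, pow_succ', mul_smul]
      rfl
  have hmod1 : 2 * t₀ * (2 * t₀) ≡ 1 [MOD q] := by
    rw [← hY₀idx, AddSubgroup.index_eq_card]
    refine modEq_one_of_unique_fixed (j := j) hq' π (Equiv.ext fun v => ?_) 0 (map_zero F) fun v => ?_
    · induction v using QuotientAddGroup.induction_on with
      | H x => rw [hpow, ← hdo, pow_orderOf_eq_one, one_smul]; rfl
    · induction v using QuotientAddGroup.induction_on with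
      | H x =>
        intro h
        refine (QuotientAddGroup.eq_zero_iff x).2 (hfpf x ?_)
        have h1 : -x + d • x ∈ Y₀ := QuotientAddGroup.eq.1 (show _ = _ from h).symm
        rw [neg_add_eq_sub] at h1
        exact smul_eq_of_fixed_displacement h2 hodd (hY₀fix _ h1)
  -- the group generated by the conjugates of `B`
  set gens : Set G := {g | ∃ (i : ℤ) (b : G), b ∈ B ∧ g = d ^ i * b * d ^ (-i)} with hgens
  set P₀ := Subgroup.closure gens with hP₀
  have hP₀S : P₀ ≤ S := by
    rw [hP₀, Subgroup.closure_le]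
    rintro _ ⟨i, b, hb, rfl⟩
    have := hP.conj_le (hBT.trans hT) hBd i ⟨b, hb, rfl⟩
    rw [zpow_neg]
    exact this
  have hY₀pow : ∀ (i : ℤ) (y : X), y ∈ Y₀ → d ^ i • y = y := fun i y hy =>
    (Subgroup.zpowers_le.2 (show d ∈ MulAction.stabilizer G y from hY₀fix y hy) ⟨i, rfl⟩ :
      d ^ i ∈ MulAction.stabilizer G y)
  have hdY' : ∀ b ∈ B, ∀ x : X, b • x - x ∈ Y₀ := by
    intro b hb x
    obtain ⟨u, hu, y, hy, rfl⟩ := AddSubgroup.mem_sup.1 (hUtop.ge (AddSubgroup.mem_top x))
    have e : b • (u + y) - (u + y) = b • u - u := by rw [smul_add, hy b (hBT hb)]; abel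
    rw [e]
    refine AddSubgroup.mem_inf.2 ⟨fun t ht => hq t ht b (hBT hb) u, ?_⟩
    refine sub_mem ?_ (hUY' hu)
    refine hUY' ((isPi_piece hpi d).inv b ?_ u hu)
    simpa using hP.le_conj (hBT.trans hT) hBd 1 hb
  have hP₀act : ∀ p ∈ P₀, (∀ y ∈ Y₀, p • y = y) ∧ ∀ x : X, p • x - x ∈ Y₀ := by
    intro p hp
    induction hp using Subgroup.closure_induction with
    | mem g hg =>
      obtain ⟨i, b, hb, rfl⟩ := hg
      refine ⟨fun y hy => ?_, fun x => ?_⟩
      · rw [mul_smul, mul_smul, hY₀pow _ y hy, (AddSubgroup.mem_inf.1 hy).1 b (hBT hb), hY₀pow _ y hy]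
      · have h1 := hdY' b hb (d ^ (-i) • x)
        have h3 : (d ^ i * b * d ^ (-i)) • x - x = d ^ i • (b • d ^ (-i) • x - d ^ (-i) • x) := by
          rw [smul_sub, ← mul_smul (d ^ i) (d ^ (-i)), ← zpow_add, add_neg_cancel, zpow_zero, one_smul,
            mul_smul, mul_smul]
        rw [h3, hY₀pow i _ h1]
        exact h1
    | one => exact ⟨fun y _ => one_smul G y, fun x => by rw [one_smul, sub_self]; exact zero_mem _⟩
    | mul g g' _ _ hg hg' =>
      refine ⟨fun y hy => by rw [mul_smul, hg'.1 y hy, hg.1 y hy], fun x => ?_⟩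
      rw [mul_smul, show g • g' • x - x = (g • g' • x - g' • x) + (g' • x - x) by abel]
      exact add_mem (hg.2 _) (hg'.2 x)
    | inv g _ hg =>
      refine ⟨fun y hy => by rw [inv_smul_eq_iff, hg.1 y hy], fun x => ?_⟩
      have := hg.2 (g⁻¹ • x)
      rw [smul_inv_smul] at this
      rw [← neg_sub]
      exact neg_mem this
  have hP₀conj : P₀.map (MulAut.conj d).toMonoidHom = P₀ := by
    rw [hP₀, MonoidHom.map_closure]
    congr 1
    ext g
    constructor
    · rintro ⟨_, ⟨i, b, hb, rfl⟩, rfl⟩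
      exact ⟨i + 1, b, hb, by
        show d * (d ^ i * b * d ^ (-i)) * d⁻¹ = _
        rw [show -(i + 1) = -i + -1 by ring, add_comm i 1, zpow_add, zpow_add]; group⟩
    · rintro ⟨i, b, hb, rfl⟩
      refine ⟨_, ⟨i - 1, b, hb, rfl⟩, ?_⟩
      show d * (d ^ (i - 1) * b * d ^ (-(i - 1))) * d⁻¹ = _
      rw [show -(i - 1) = -i + 1 by ring, zpow_sub_one, zpow_add_one]; group
  have hfixconj : (fixG G W).map (MulAut.conj d).toMonoidHom = fixG G U := by
    refine le_antisymm ?_ fun g hg => ⟨d⁻¹ * g * d, fun w hw => ?_, by simp [mul_assoc]⟩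
    · rintro _ ⟨g, hg, rfl⟩ _ ⟨w, hw, rfl⟩
      show (d * g * d⁻¹) • d • w = d • w
      rw [mul_smul, mul_smul, inv_smul_smul, hg w hw]
    · rw [mul_smul, mul_smul, hg _ (smul_mem_piece d hw), inv_smul_smul]
  have hPUW : (fixG G U).relIndex P₀ = (fixG G W).relIndex P₀ := by
    rw [← hfixconj]
    conv_lhs => rw [← hP₀conj]
    exact Subgroup.relIndex_map_map_of_injective _ _ (MulAut.conj d).injective
  have hBP : B ≤ P₀ := fun b hb => Subgroup.subset_closure ⟨0, b, hb, by simp⟩
  have hWlow : t₀ ≤ (fixG G W).relIndex P₀ := by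
    have hfix' : fixG G (piece W d⁻¹) = (fixG G W).comap (MulAut.conj d).toMonoidHom := by
      ext g
      rw [Subgroup.mem_comap]
      show _ ↔ d * g * d⁻¹ ∈ fixG G W
      refine ⟨fun hg w hw => ?_, ?_⟩
      · rw [mul_smul, mul_smul, hg _ (smul_mem_piece _ hw), smul_inv_smul]
      · rintro hg _ ⟨w, hw, rfl⟩
        show g • d⁻¹ • w = d⁻¹ • w
        have := hg w hw
        rw [mul_smul, mul_smul] at this
        exact (smul_left_cancel_iff d).1 (this.trans (smul_inv_smul d w).symm)
    rw [hfix', Subgroup.relIndex_comap] at hU'2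
    refine hU'2.trans (Subgroup.relIndex_le_of_le_right ?_ Subgroup.index_ne_zero_of_finite)
    rw [← hP₀conj]
    exact Subgroup.map_mono hBP
  have hWup : (fixG G W).relIndex P₀ ≤ t₀ := by
    have hn' : ¬ P₀ ≤ fixG G W := fun h => by
      rw [Subgroup.relIndex_eq_one.2 h] at hWlow; omega
    have h1 := two_mul_le_of_lt (h2G hP₀S _) (exists_relIndex_two_pow h2 _ _)
      (hpi.good P₀ hP₀S (fun s hs t ht w _ => (hP₀act s hs).1 _ ((hP₀act t ht).2 w)) hn')
    have h3 : (fixV X P₀).relIndex W ≤ 2 * t₀ := by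
      calc (fixV X P₀).relIndex W ≤ Y₀.relIndex W :=
            AddSubgroup.relIndex_le_of_le_left (fun y hy p hp => (hP₀act p hp).1 y hy)
              AddSubgroup.index_ne_zero_of_finite
        _ = Y'.relIndex W := by
            rw [← AddSubgroup.inf_relIndex_right Y₀ W, hY₀, inf_comm Y Y', inf_assoc,
              inf_eq_right.2 hWY, AddSubgroup.inf_relIndex_right]
        _ ≤ Y'.relIndex ⊤ := AddSubgroup.relIndex_le_of_le_right le_top AddSubgroup.index_ne_zero_of_finite
        _ = 2 * t₀ := by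
            rw [AddSubgroup.relIndex_top_right, ← hc]
            exact index_piece Y d
    omega
  have hE : K.relIndex P₀ = t₀ * t₀ := by
    have h1 : K.relIndex (P₀ ⊓ fixG G W) * (fixG G W).relIndex P₀ = K.relIndex P₀ :=
      order_split P₀ le_top
    have h3 : t₀ ≤ K.relIndex (P₀ ⊓ fixG G W) :=
      Subgroup.relIndex_le_of_le_right (le_inf hBP (hBT.trans hTW)) Subgroup.index_ne_zero_of_finite
    have h4 : K.relIndex (P₀ ⊓ fixG G W) ≤ t₀ := by
      refine le_trans ?_ ((Subgroup.relIndex_le_of_le_right (inf_le_left : P₀ ⊓ fixG G W ≤ P₀)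
        Subgroup.index_ne_zero_of_finite).trans (hPUW.le.trans hWup))
      rw [← Subgroup.inf_relIndex_right (fixG G U)]
      refine Subgroup.relIndex_le_of_le_left ?_ Subgroup.index_ne_zero_of_finite
      intro g hg x _
      obtain ⟨hgU, hg'⟩ := Subgroup.mem_inf.1 hg
      obtain ⟨hgP, hgW⟩ := Subgroup.mem_inf.1 hg'
      obtain ⟨u, hu, y, hy, rfl⟩ := AddSubgroup.mem_sup.1 (hUtop.ge (AddSubgroup.mem_top x))
      obtain ⟨w, hw, y', hy', hwy⟩ := AddSubgroup.mem_sup.1 (hWtop.ge (AddSubgroup.mem_top y))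
      have hy'Y : y' ∈ Y₀ := AddSubgroup.mem_inf.2 ⟨by
        have := sub_mem hy (hWY hw)
        rwa [← hwy, add_sub_cancel_left] at this, hy'⟩
      rw [smul_add, hgU u hu, ← hwy, smul_add, hgW w hw, (hP₀act g hgP).1 y' hy'Y]
    rw [← h1, le_antisymm (le_antisymm h4 h3).le (le_antisymm h4 h3).ge,
      le_antisymm hWup hWlow]
  haveI hKn' : (K.subgroupOf P₀).Normal := hKn.comap _
  let cj : P₀ →* P₀ := MonoidHom.mk' (fun p => ⟨d * p * d⁻¹, hP₀conj.le ⟨p, p.2, rfl⟩⟩)
    fun p p' => Subtype.ext (by simp [mul_assoc])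
  have hcmap : K.subgroupOf P₀ ≤ (K.subgroupOf P₀).comap cj := fun p hp => hKn.conj_mem _ hp d
  set Fg := QuotientGroup.map (K.subgroupOf P₀) (K.subgroupOf P₀) cj hcmap with hFg
  have hFginj : Function.Injective Fg := by
    rw [injective_iff_map_eq_one]
    intro v
    induction v using QuotientGroup.induction_on with
    | H p =>
      intro h
      have h1 : d * (p : G) * d⁻¹ ∈ K := (QuotientGroup.eq_one_iff (cj p)).1 h
      refine (QuotientGroup.eq_one_iff p).2 ?_
      have := hKn.conj_mem _ h1 d⁻¹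
      simpa [Subgroup.mem_subgroupOf, mul_assoc] using this
  set σ := Equiv.ofBijective Fg (Finite.injective_iff_bijective.1 hFginj) with hσ
  have hpow' : ∀ (m : ℕ) (p : P₀), ∃ p' : P₀, (p' : G) = d ^ m * p * (d ^ m)⁻¹ ∧
      (σ ^ m) (QuotientGroup.mk p) = QuotientGroup.mk p' := by
    intro m
    induction m with
    | zero => intro p; exact ⟨p, by simp, by simp⟩
    | succ m ihm =>
      intro p
      obtain ⟨p', hp', he⟩ := ihm p
      refine ⟨cj p', ?_, by rw [pow_succ', Equiv.Perm.mul_apply, he]; rfl⟩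
      show d * (p' : G) * d⁻¹ = _
      rw [hp', pow_succ']; group
  set Dm := DistribSMul.toAddMonoidHom X d - AddMonoidHom.id X with hDm
  have hDmtop : Dm.range ⊔ Y₀ = ⊤ := by
    refine sup_eq_top_of_relIndex (le_of_eq ?_)
    have hker : Dm.ker = Y₀ := by
      ext x
      rw [AddMonoidHom.mem_ker]
      show d • x - x = 0 ↔ _
      exact ⟨fun h => hfpf x (sub_eq_zero.1 h), fun h => sub_eq_zero.2 (hY₀fix x h)⟩
    calc Y₀.index = Nat.card Dm.range := by rw [← hker, AddSubgroup.index_ker]
      _ = (⊥ : AddSubgroup X).relIndex Dm.range := (AddSubgroup.relIndex_bot_left _).symm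
      _ = Y₀.relIndex Dm.range := by
          rw [← AddSubgroup.inf_relIndex_right Y₀]
          congr 1
          rw [eq_comm, AddSubgroup.eq_bot_iff_forall]
          rintro _ ⟨hy, x, rfl⟩
          have hy' : d • x - x ∈ Y₀ := hy
          show d • x - x = 0
          exact sub_eq_zero.2 (smul_eq_of_fixed_displacement h2 hodd (hY₀fix _ hy'))
  have hmod2 : t₀ * t₀ ≡ 1 [MOD q] := by
    rw [← hE, Subgroup.relIndex, Subgroup.index_eq_card]
    refine modEq_one_of_unique_fixed (j := j) hq' σ (Equiv.ext fun v => ?_) 1 (map_one Fg) fun v => ?_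
    · induction v using QuotientGroup.induction_on with
      | H p =>
        obtain ⟨p', hp', he⟩ := hpow' (q ^ j) p
        rw [he, ← hdo, pow_orderOf_eq_one] at *
        rw [show p' = p from Subtype.ext (by simpa using hp')]
        rfl
    · induction v using QuotientGroup.induction_on with
      | H p =>
        intro h
        refine (QuotientGroup.eq_one_iff p).2 ?_
        have h1 : (p : G)⁻¹ * (d * p * d⁻¹) ∈ K := (QuotientGroup.eq (s := K.subgroupOf P₀)).1 (show QuotientGroup.mk (cj p) = QuotientGroup.mk p from h).symm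
        intro x _
        have hcomm : ∀ x : X, d • (p : G) • x = (p : G) • d • x := by
          intro x
          have h3 := smul_eq_of_mem_actKer h1 (d • x)
          rw [mul_smul, mul_smul, mul_smul, inv_smul_smul, inv_smul_eq_iff] at h3
          exact h3
        obtain ⟨_, ⟨x', rfl⟩, y, hy, rfl⟩ := AddSubgroup.mem_sup.1 (hDmtop.ge (AddSubgroup.mem_top x))
        have h4 : (p : G) • (d • x' - x') = d • x' - x' := by
          have h5 := hY₀fix _ ((hP₀act _ p.2).2 x')
          rw [smul_sub, hcomm] at h5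
          rw [smul_sub, sub_eq_iff_eq_add.1 h5]
          abel
        show (p : G) • ((d • x' - x') + y) = d • x' - x' + y
        rw [smul_add, (hP₀act _ p.2).1 y hy, h4]
  exact false_of_two_modEq hq5 hmod1 hmod2

end CfsgLib.Stellmacher
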