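import Cfsg.Agent.Lib.Stellmacher.InheritGood

set_option autoImplicit false
set_option linter.unusedSectionVars false

/-! The closure of a module with both properties under a minimal parabolic group has no exceptional
near offender. -/

namespace CfsgLib.Stellmacher

open scoped commutatorElement

variable {G : Type*} [Group G] [Finite G] {X : Type*} [AddCommGroup X] [DistribMulAction G X]

/-- A 2-group fixes a nonzero vector in every nonzero invariant subgroup. -/
theorem exists_fixed_ne_zero [Finite X] (h2 : ∀ x : X, x + x = 0) {B : Subgroup G} (hB : IsPGroup 2 B)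
    {I : AddSubgroup X} (hI : ∀ b ∈ B, ∀ v ∈ I, b • v ∈ I) (hne : I ≠ ⊥) :
    ∃ v ∈ I, v ≠ 0 ∧ v ∈ fixV X B := by
  haveI : Fact (Nat.Prime 2) := ⟨Nat.prime_two⟩
  letI : MulAction B I :=
    { smul := fun b v => ⟨(b : G) • (v : X), hI b b.2 v v.2⟩
      one_smul := fun v => Subtype.ext (one_smul G (v : X))
      mul_smul := fun b b' v => Subtype.ext (mul_smul (b : G) (b' : G) (v : X)) }
  obtain ⟨n, hn⟩ := exists_card_two_pow (X := I) (fun x => Subtype.ext (h2 x))
  have hn0 : n ≠ 0 := by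
    rintro rfl
    exact hne (AddSubgroup.eq_bot_of_card_eq I (by simpa using hn))
  have h0 : (0 : I) ∈ MulAction.fixedPoints B I := fun b => Subtype.ext (smul_zero (b : G))
  obtain ⟨v, hv, hv0⟩ := hB.exists_fixed_point_of_prime_dvd_card_of_fixed_point I
    (hn ▸ dvd_pow_self 2 hn0) h0
  exact ⟨v, v.2, fun h => hv0 (Subtype.ext h.symm), fun b hb => congrArg Subtype.val (hv ⟨b, hb⟩)⟩

/-- The action on a quotient by an invariant subgroup. -/
@[reducible]
def quotAction (L : AddSubgroup X) (hL : ∀ (g : G), ∀ x ∈ L, g • x ∈ L) : DistribMulAction G (X ⧸ L) where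
  smul g := QuotientAddGroup.map L L (DistribSMul.toAddMonoidHom X g) (fun x hx => hL g x hx)
  one_smul v := by
    induction v using QuotientAddGroup.induction_on with
    | H x => show QuotientAddGroup.mk ((1 : G) • x) = _; rw [one_smul]
  mul_smul g h v := by
    induction v using QuotientAddGroup.induction_on with
    | H x => show QuotientAddGroup.mk ((g * h) • x) = QuotientAddGroup.mk (g • h • x); rw [mul_smul]
  smul_zero g := map_zero (QuotientAddGroup.map L L (DistribSMul.toAddMonoidHom X g) (fun x hx => hL g x hx))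
  smul_add g := map_add (QuotientAddGroup.map L L (DistribSMul.toAddMonoidHom X g) (fun x hx => hL g x hx))

theorem quotAction_mk (L : AddSubgroup X) (hL : ∀ (g : G), ∀ x ∈ L, g • x ∈ L) (g : G) (x : X) :
    letI := quotAction L hL
    g • (QuotientAddGroup.mk x : X ⧸ L) = QuotientAddGroup.mk (g • x) := rfl

/-- The commutators of a subgroup with the module. -/
def commV (X : Type*) [AddCommGroup X] [DistribMulAction G X] (Q : Subgroup G) : AddSubgroup X :=
  AddSubgroup.closure {v | ∃ g ∈ Q, ∃ x : X, v = g • x - x}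

theorem sub_mem_commV {Q : Subgroup G} {g : G} (hg : g ∈ Q) (x : X) : g • x - x ∈ commV X Q :=
  AddSubgroup.subset_closure ⟨g, hg, x, rfl⟩

theorem smul_mem_commV {Q : Subgroup G} (hQ : Q.Normal) (h : G) {v : X} (hv : v ∈ commV X Q) :
    h • v ∈ commV X Q := by
  induction hv using AddSubgroup.closure_induction with
  | mem v hv =>
    obtain ⟨g, hg, x, rfl⟩ := hv
    have := sub_mem_commV (hQ.conj_mem g hg h) (h • x)
    rwa [mul_smul, mul_smul, inv_smul_smul, ← smul_sub] at this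
  | zero => rw [smul_zero]; exact zero_mem _
  | add x y _ _ hx hy => rw [smul_add]; exact add_mem hx hy
  | neg x _ hx => rw [smul_neg]; exact neg_mem hx

/-- An invariant subgroup supplementing the commutators of a 2-group is everything. -/
theorem eq_top_of_sup_commV [Finite X] (h2 : ∀ x : X, x + x = 0) {Q : Subgroup G} (hQ : IsPGroup 2 Q)
    {W : AddSubgroup X} (hW : ∀ g ∈ Q, ∀ w ∈ W, g • w ∈ W) (h : W ⊔ commV X Q = ⊤) : W = ⊤ := by
  haveI : Finite (AddSubgroup X) := Finite.of_injective _ SetLike.coe_injective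
  by_contra hne
  obtain ⟨Z, ⟨hWZ, hZtop, hZinv⟩, hmax⟩ := Set.Finite.exists_maximal
    (s := {Z : AddSubgroup X | W ≤ Z ∧ Z ≠ ⊤ ∧ ∀ g ∈ Q, ∀ z ∈ Z, g • z ∈ Z})
    (Set.toFinite _) ⟨W, le_rfl, hne, hW⟩
  letI : DistribMulAction Q X := inferInstance
  have hZ' : ∀ (g : Q), ∀ z ∈ Z, g • z ∈ Z := fun g z hz => hZinv g g.2 z hz
  letI := quotAction Z hZ'
  have hne' : (⊤ : AddSubgroup (X ⧸ Z)) ≠ ⊥ := by
    intro hh
    refine hZtop (eq_top_iff.2 fun x _ => (QuotientAddGroup.eq_zero_iff x).1 ?_)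
    exact AddSubgroup.mem_bot.1 (hh ▸ AddSubgroup.mem_top _)
  obtain ⟨v, -, hv0, hv⟩ := exists_fixed_ne_zero (G := Q) (X := X ⧸ Z) (B := ⊤)
    (fun w => by
      induction w using QuotientAddGroup.induction_on with
      | H x => rw [← QuotientAddGroup.mk_add, h2]; rfl)
    (hQ.to_subgroup ⊤) (fun _ _ _ _ => AddSubgroup.mem_top _) hne'
  induction v using QuotientAddGroup.induction_on with
  | H z =>
  have hz : ∀ g ∈ Q, g • z - z ∈ Z := by
    intro g hg
    have h1 := hv ⟨g, hg⟩ (Subgroup.mem_top _)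
    rw [quotAction_mk, eq_comm, QuotientAddGroup.eq, neg_add_eq_sub] at h1
    exact h1
  have htop : Z ⊔ AddSubgroup.zmultiples z = ⊤ := by
    by_contra hne2
    refine hv0 ((QuotientAddGroup.eq_zero_iff z).2 ?_)
    refine hmax ⟨hWZ.trans le_sup_left, hne2, fun g hg x hx => ?_⟩ le_sup_left
      (AddSubgroup.mem_sup_right (AddSubgroup.mem_zmultiples z))
    obtain ⟨y, hy, _, ⟨k, rfl⟩, rfl⟩ := AddSubgroup.mem_sup.1 hx
    show g • (y + k • z) ∈ _
    rw [smul_add, smul_comm, show g • z = (g • z - z) + z by abel, smul_add, ← add_assoc]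
    exact AddSubgroup.add_mem_sup (add_mem (hZinv g hg y hy) (zsmul_mem (hz g hg) k))
      (zsmul_mem (AddSubgroup.mem_zmultiples z) k)
  refine hZtop (eq_top_iff.2 (h.ge.trans (sup_le hWZ ?_)))
  rw [commV, AddSubgroup.closure_le]
  rintro _ ⟨g, hg, x, rfl⟩
  obtain ⟨y, hy, _, ⟨k, rfl⟩, rfl⟩ := AddSubgroup.mem_sup.1 (htop.ge (AddSubgroup.mem_top x))
  show g • (y + k • z) - (y + k • z) ∈ Z
  rw [smul_add, smul_comm, show g • y + k • g • z - (y + k • z) = (g • y - y) + k • (g • z - z) by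
    rw [smul_sub]; abel]
  exact add_mem (sub_mem (hZinv g hg y hy) hy) (zsmul_mem (hz g hg) k)

variable {S Q M : Subgroup G}

/-- In a module with trivial `Q`-action, elementary subgroups have quadratic cost. -/
theorem sq_relIndex_le [Finite X] (hP : Para S Q M) (h2 : ∀ x : X, x + x = 0)
    (hQ : ∀ g ∈ Q, ∀ x : X, g • x = x) (hker : ∀ d : G, (∀ x : X, d • x = x) → d ∈ M) :
    ∀ T : Subgroup G, T ≤ S → (∀ t ∈ T, t * t ∈ Q) → (∀ s ∈ T, ∀ t ∈ T, ⁅s, t⁆ ∈ Q) →
      Q.relIndex T * Q.relIndex T ≤ (fixV X T).index := by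
  suffices H : ∀ (n : ℕ) (T : Subgroup G), Nat.card T = n → T ≤ S → (∀ t ∈ T, t * t ∈ Q) →
      (∀ s ∈ T, ∀ t ∈ T, ⁅s, t⁆ ∈ Q) → Q.relIndex T * Q.relIndex T ≤ (fixV X T).index from
    fun T => H _ T rfl
  intro n
  induction n using Nat.strong_induction_on with
  | _ n ih =>
  intro T hcard hT hsq hcm
  by_cases hTQ : T ≤ Q
  · rw [Subgroup.relIndex_eq_one.2 hTQ]
    exact Nat.pos_of_ne_zero AddSubgroup.index_ne_zero_of_finite
  obtain ⟨B, a, d, q, j, hBT, hB2, hBQ, haT, haB, hq', hq5, hdo, hdM, hBd, had⟩ :=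
    hP.select Q hP.normal (hP.le_S.trans hP.S_le) T hT hTQ hsq hcm
  have hBlt : B < T := lt_of_le_of_ne hBT fun h => haB (h ▸ haT)
  have hQT : Q.relIndex T = Q.relIndex B * 2 := by
    rw [← hB2, ← Subgroup.inf_relIndex_right Q T,
      ← Subgroup.relIndex_mul_relIndex _ _ _ (inf_comm T Q ▸ hBQ) hBT,
      ← Subgroup.inf_relIndex_right (Q ⊓ T) B, inf_assoc, inf_eq_right.2 hBT, Subgroup.inf_relIndex_right]
  have hstep := ih _ (hcard ▸ lt_of_not_ge fun hge => hBlt.ne (Subgroup.eq_of_le_of_card_ge hBlt.le hge))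
    B rfl (hBT.trans hT) (fun t ht => hsq t (hBT ht)) (fun s hs t ht => hcm s (hBT hs) t (hBT ht))
  rw [hQT, ← AddSubgroup.relIndex_mul_index (fixV_anti hBT : fixV X T ≤ fixV X B),
    show Q.relIndex B * 2 * (Q.relIndex B * 2) = 4 * (Q.relIndex B * Q.relIndex B) by ring]
  refine Nat.mul_le_mul ?_ hstep
  by_contra hlt
  have hidx : (fixV X T).relIndex (fixV X B) ≤ 2 := by
    obtain ⟨i, hi⟩ := exists_relIndex_two_pow h2 (fixV X T) (fixV X B)
    rw [hi] at hlt ⊢
    have : i < 2 := by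
      by_contra h
      exact hlt (Nat.pow_le_pow_right (by norm_num) (not_lt.1 h) : 2 ^ 2 ≤ 2 ^ i)
    exact Nat.pow_le_pow_right (by norm_num) (Nat.le_of_lt_succ this) |>.trans (by norm_num)
  have hKQ : ∀ g ∈ Q, g ∈ actKer G X := fun g hg x _ => hQ g hg x
  have hodd : Odd (orderOf d) := hdo ▸ (hq'.odd_of_ne_two (by omega)).pow
  have hcomm : ∀ b ∈ B, ∀ x : X, b • d • x = d • b • x := by
    intro b hb x
    have h1 := hQ _ (hBd b hb 1) (b • d • x)
    rw [← mul_smul b, ← mul_smul, show d ^ (1 : ℤ) * b * d ^ (-1 : ℤ) * b⁻¹ * (b * d) = d * b by group,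
      mul_smul, mul_smul] at h1
    exact h1.symm
  have hdB : piece (fixV X B) d = fixV X B := by
    refine le_antisymm ?_ fun z hz => ⟨d⁻¹ • z, fun b hb => ?_, smul_inv_smul d z⟩
    · rintro _ ⟨z, hz, rfl⟩ b hb
      show b • d • z = d • z
      rw [hcomm b hb, hz b hb]
    · have h1 := hcomm b hb (d⁻¹ • z)
      rw [smul_inv_smul, hz b hb] at h1
      exact (eq_inv_smul_iff.2 h1.symm)
  set F := fixV X T ⊓ piece (fixV X T) d with hF
  have hFfix : ∀ f ∈ F, d • f = f := by
    intro f hf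
    obtain ⟨hf1, f', hf', hff⟩ := AddSubgroup.mem_inf.1 hf
    change d • f' = f at hff
    have e1 : a • f = f := hf1 a haT
    have e2 : a • f = d⁻¹ • f' := by rw [← hff, inverts (hKQ _ had), hf' a haT]
    have e3 : d • d • f = f := by
      conv_lhs => rw [← e1, e2, smul_inv_smul]
      exact hff
    exact smul_eq_of_sq hodd e3
  have hF4 : F.relIndex (fixV X B) ≤ 4 := by
    refine AddSubgroup.relIndex_inf_le.trans (Nat.mul_le_mul hidx (le_trans (le_of_eq ?_) hidx))
    conv_lhs => rw [← hdB]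
    exact AddSubgroup.relIndex_map_map_of_injective _ _ (MulAction.injective d)
  have hall := fixed_of_index_le_four h2 hq' hq5 hdo (inf_le_left.trans (fixV_anti hBT))
    (fun z hz => hdB.le (smul_mem_piece d hz)) hFfix hF4
  refine hdM (hker d fun x => ?_)
  set Dm := DistribSMul.toAddMonoidHom X d - AddMonoidHom.id X with hDm
  by_contra hx
  have hne : Dm.range ≠ ⊥ := fun h => hx (sub_eq_zero.1
    (AddSubgroup.mem_bot.1 (h.le ⟨x, rfl⟩)))
  obtain ⟨v, ⟨y, rfl⟩, hv0, hv⟩ := exists_fixed_ne_zero h2 (hP.isP.to_le (hBT.trans hT))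
    (I := Dm.range) (by
      rintro b hb _ ⟨y, rfl⟩
      exact ⟨b • y, show d • b • y - b • y = b • (d • y - y) by rw [smul_sub, hcomm b hb]⟩) hne
  refine hv0 ?_
  show d • y - y = 0
  exact sub_eq_zero.2 (smul_eq_of_fixed_displacement h2 hodd (hall _ hv))

/-- The inheritance of the absence of exceptional near offenders. -/
theorem noSpec_closure [Finite X] (hP : Para S Q M) (h2 : ∀ x : X, x + x = 0) {W : AddSubgroup X}
    (hpi : IsPi S W) (hM : ∀ g, (∀ w ∈ W, g • w ∈ W) → g ∈ M)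
    (hgen : AddSubgroup.closure {x : X | ∃ g : G, ∃ w ∈ W, x = g • w} = ⊤) :
    NoSpec S (⊤ : AddSubgroup X) := by
  classical
  intro T hT hel hcm a _ X₀ _ hC ha hidx h0 ha1 hc h4 hinj
  haveI := hP.normal
  set K := actKer G X with hK
  have hKn : K.Normal := actKer_normal
  have hKS : K ⊓ S ≤ Q := hP.kernel K hKn fun k hk => hM k fun w hw => by
    rw [smul_eq_of_mem_actKer hk w]; exact hw
  by_cases hTQ : T ≤ Q
  · obtain ⟨g, hg⟩ : ∃ g : G, ¬ piece W g ≤ X₀ := by
      by_contra hall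
      push Not at hall
      refine ha (hgen.ge.trans ((AddSubgroup.closure_le _).2 ?_) (AddSubgroup.mem_top a))
      rintro _ ⟨g, w, hw, rfl⟩
      exact hall g (smul_mem_piece g hw)
    exact (isPi_piece hpi g).noSpec.false_of_piece (isPi_piece hpi g).inv le_top
      (hTQ.trans (hP.Q_le_conj g)) hel hcm le_top hC ha (AddSubgroup.mem_top a) hidx h0 ha1 hc h4 hinj hg
  set L := commV X Q with hLdef
  have hL : ∀ (g : G), ∀ x ∈ L, g • x ∈ L := fun g x hx => smul_mem_commV hP.normal g hx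
  letI := quotAction L hL
  have hker : ∀ d : G, (∀ v : X ⧸ L, d • v = v) → d ∈ M := by
    let N := actKer G (X ⧸ L)
    intro d hd
    by_contra hdM
    have hH : S ⊔ N = ⊤ := by
      by_contra hne
      exact hdM (hP.over _ le_sup_left hne (Subgroup.mem_sup_right fun v _ => hd v))
    have hinv : ∀ g : G, ∀ z ∈ W ⊔ L, g • z ∈ W ⊔ L := by
      intro g
      have hg : g ∈ S ⊔ N := hH ▸ Subgroup.mem_top g
      have hset : ∀ g ∈ (S : Set G) ∪ N, ∀ z ∈ W ⊔ L, g • z ∈ W ⊔ L := by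
        rintro g hg z hz
        obtain ⟨w, hw, l, hl, rfl⟩ := AddSubgroup.mem_sup.1 hz
        rcases hg with hg | hg
        · rw [smul_add]; exact AddSubgroup.add_mem_sup (hpi.inv g hg w hw) (hL g l hl)
        · have h1 := smul_eq_of_mem_actKer hg (QuotientAddGroup.mk (w + l) : X ⧸ L)
          rw [quotAction_mk, eq_comm, QuotientAddGroup.eq] at h1
          have := add_mem hz (AddSubgroup.mem_sup_right (S := W) h1)
          rwa [add_neg_cancel_left] at this
      rw [Subgroup.sup_eq_closure] at hg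
      induction hg using Subgroup.closure_induction'' with
      | mem x hx => exact hset x hx
      | inv_mem x hx => exact hset x⁻¹ (hx.imp inv_mem inv_mem)
      | one => intro z hz; rwa [one_smul]
      | mul x y _ _ hx hy => intro z hz; rw [mul_smul]; exact hx _ (hy z hz)
    have hWL : W ⊔ L = ⊤ := top_le_iff.1 (hgen.ge.trans ((AddSubgroup.closure_le _).2 (by
      rintro _ ⟨g, w, hw, rfl⟩
      exact hinv g w (AddSubgroup.mem_sup_left hw))))
    have hWtop := eq_top_of_sup_commV h2 (hP.isP.to_le hP.le_S) (fun g hg => hpi.inv g (hP.le_S hg)) hWL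
    exact hdM (hM d fun w _ => hWtop ▸ AddSubgroup.mem_top _)
  have h2' : ∀ v : X ⧸ L, v + v = 0 := fun v => by
    induction v using QuotientAddGroup.induction_on with
    | H x => rw [← QuotientAddGroup.mk_add, h2]; rfl
  have hQ' : ∀ g ∈ Q, ∀ v : X ⧸ L, g • v = v := fun g hg v => by
    induction v using QuotientAddGroup.induction_on with
    | H x =>
      rw [quotAction_mk, eq_comm, QuotientAddGroup.eq, neg_add_eq_sub]
      exact sub_mem_commV hg x
  have hsq := sq_relIndex_le hP h2' hQ' hker T hT (fun t ht => by rw [hel t ht]; exact one_mem Q)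
    (fun s hs t ht => by
      rw [commutatorElement_def, mul_inv_eq_iff_eq_mul.2 (mul_inv_eq_iff_eq_mul.2 ?_)]
      · exact one_mem Q
      · rw [one_mul, hcm s hs t ht])
  set t₁ := Q.relIndex T with ht₁
  set T₀ := T ⊓ Q with hT₀
  set t₀ := K.relIndex T₀ with ht₀
  have hKT : K ⊓ T ≤ T₀ := le_inf inf_le_right fun x hx => hKS ⟨hx.1, hT hx.2⟩
  have ht : K.relIndex T = t₀ * t₁ := by
    rw [← Subgroup.inf_relIndex_right K T, ← Subgroup.relIndex_mul_relIndex _ _ _ hKT inf_le_left,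
      ht₀, ← Subgroup.inf_relIndex_right (K ⊓ T) T₀, inf_assoc,
      inf_eq_right.2 (inf_le_left : T₀ ≤ T), Subgroup.inf_relIndex_right, hT₀, Subgroup.inf_relIndex_left]
  rw [AddSubgroup.relIndex_top_right] at hc
  change (fixV X T).index = 2 * K.relIndex T at hc
  rw [ht] at hc
  set Y := fixV X T with hY
  set Ls := L ⊔ Y with hLs
  set C' := (fixV (X ⧸ L) T).comap (QuotientAddGroup.mk' L) with hC'
  have hC'idx : C'.index = (fixV (X ⧸ L) T).index :=
    AddSubgroup.index_comap_of_surjective _ (QuotientAddGroup.mk'_surjective L)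
  have hmemC' : ∀ x : X, x ∈ C' ↔ ∀ t ∈ T, t • x - x ∈ L := by
    intro x
    refine forall₂_congr fun t _ => ?_
    show t • (QuotientAddGroup.mk x : X ⧸ L) = QuotientAddGroup.mk x ↔ _
    rw [quotAction_mk, eq_comm, QuotientAddGroup.eq, neg_add_eq_sub]
  have hLsC' : Ls ≤ C' := sup_le (fun l hl => (hmemC' l).2 fun t _ => sub_mem (hL t l hl) hl)
    fun y hy => (hmemC' y).2 fun t ht => by rw [hy t ht, sub_self]; exact zero_mem _
  have hval : ∀ s ∈ T₀, s • a - a ∈ Ls := fun s hs =>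
    AddSubgroup.mem_sup_left (sub_mem_commV (Subgroup.mem_inf.1 hs).2 a)
  have hsep : ∀ s ∈ T, ∀ t ∈ T, -(s • a - a) + (t • a - a) ∈ Y → s * t ∈ K := by
    intro s hs t ht hm
    refine hinj (s * t) (mul_mem hs ht) ?_
    have e : s • (-(s • a - a) + (t • a - a)) = (s * t) • a - a := by
      rw [smul_add, smul_neg, smul_sub, smul_sub, ← mul_smul, ← mul_smul, hel s hs, one_smul]
      abel
    rw [← e, hm s hs]
    exact hm
  let φ : T₀ ⧸ K.subgroupOf T₀ → Ls ⧸ Y.addSubgroupOf Ls := fun v =>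
    QuotientAddGroup.mk ⟨((Quotient.out v : T₀) : G) • a - a, hval _ (Quotient.out v).2⟩
  have hφ : Function.Injective φ := by
    intro v v' he
    have hs := (Subgroup.mem_inf.1 (Quotient.out v).2).1
    have ht' := (Subgroup.mem_inf.1 (Quotient.out v').2).1
    have h6 := hsep _ hs _ ht' (AddSubgroup.mem_addSubgroupOf.1 (QuotientAddGroup.eq.1 he))
    rw [← Quotient.out_eq v, ← Quotient.out_eq v']
    refine QuotientGroup.eq.2 ?_
    show ((Quotient.out v : T₀) : G)⁻¹ * ((Quotient.out v' : T₀) : G) ∈ K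
    rwa [inv_eq_of_mul_eq_one_right (hel _ hs)]
  have hℓ : t₀ ≤ Y.relIndex Ls := by
    rw [ht₀, Subgroup.relIndex, Subgroup.index_eq_card, AddSubgroup.relIndex, AddSubgroup.index_eq_card]
    exact Nat.card_le_card_of_injective φ hφ
  have hmul : Y.relIndex Ls * Ls.index = 2 * (t₀ * t₁) := by
    rw [AddSubgroup.relIndex_mul_index le_sup_right, hc]
  have ht₀p : 0 < t₀ := Nat.pos_of_ne_zero Subgroup.index_ne_zero_of_finite
  have hC'Ls : C'.index ≤ Ls.index := Nat.le_of_dvd
    (Nat.pos_of_ne_zero AddSubgroup.index_ne_zero_of_finite) (AddSubgroup.index_dvd_of_le hLsC')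
  have ht₁2 : 2 ≤ t₁ := by
    have hp : 0 < t₁ := Nat.pos_of_ne_zero Subgroup.index_ne_zero_of_finite
    by_contra hlt
    exact hTQ (Subgroup.relIndex_eq_one.1 (show Q.relIndex T = 1 by omega))
  have hLidx : Ls.index ≤ 2 * t₁ := by
    refine Nat.le_of_mul_le_mul_left (show t₀ * Ls.index ≤ t₀ * (2 * t₁) from ?_) ht₀p
    calc t₀ * Ls.index ≤ Y.relIndex Ls * Ls.index := Nat.mul_le_mul_right _ hℓ
      _ = t₀ * (2 * t₁) := by rw [hmul]; ring
  have ht₁eq : t₁ = 2 := by
    refine le_antisymm (Nat.le_of_mul_le_mul_right ?_ (by omega : 0 < t₁)) ht₁2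
    exact hsq.trans (hC'idx ▸ hC'Ls.trans hLidx)
  have hLs4 : Ls.index = 4 ∧ C'.index = 4 := by
    rw [← hC'idx, ht₁eq] at hsq
    rw [ht₁eq] at hLidx
    omega
  have hℓeq : Y.relIndex Ls = t₀ := by
    rw [hLs4.1, ht₁eq] at hmul
    omega
  have hsurj : Function.Surjective φ := ((Nat.bijective_iff_injective_and_card φ).2 ⟨hφ, by
    rw [← Subgroup.index_eq_card, ← AddSubgroup.index_eq_card]
    exact hℓeq.symm⟩).2
  obtain ⟨b, hbT, hbQ⟩ := SetLike.not_le_iff_exists.1 hTQ
  have hbv : b • (b • a - a) = b • a - a := by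
    have h1 : b • (b • a - a) = -(b • a - a) := by
      rw [smul_sub, ← mul_smul, hel b hbT, one_smul, neg_sub]
    rw [h1]
    exact neg_eq_of_add_eq_zero_left (h2 _)
  have hbC' : b • a - a ∈ C' := by
    refine (hmemC' _).2 fun t ht => ?_
    by_cases htQ : t ∈ Q
    · exact sub_mem_commV htQ _
    · have h3 : (Q.subgroupOf T).index = 2 := ht₁eq
      have h5 := (Subgroup.mul_mem_iff_of_index_two h3 (a := ⟨t, ht⟩) (b := ⟨b, hbT⟩)).2
        ⟨fun h => absurd h htQ, fun h => absurd h hbQ⟩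
      have h6 := sub_mem_commV (X := X) (show t * b ∈ Q from h5) (b • a - a)
      rwa [mul_smul, hbv] at h6
  have hC'eq : C' ≤ Ls := by
    refine AddSubgroup.relIndex_eq_one.1 ?_
    have := AddSubgroup.relIndex_mul_index hLsC'
    rw [hLs4.1, hLs4.2] at this
    omega
  obtain ⟨v, hv⟩ := hsurj (QuotientAddGroup.mk ⟨b • a - a, hC'eq hbC'⟩)
  obtain ⟨hτT, hτQ⟩ := Subgroup.mem_inf.1 (Quotient.out v).2
  have h7 := hsep _ hτT _ hbT (AddSubgroup.mem_addSubgroupOf.1 (QuotientAddGroup.eq.1 hv))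
  exact hbQ ((Q.mul_mem_cancel_left hτQ).1 (hKS ⟨h7, hT (mul_mem hτT hbT)⟩))

end CfsgLib.Stellmacher
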