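import Cfsg.Agent.Lib.Stellmacher.Parabolic
import Cfsg.Agent.Lib.Stellmacher.Lift
import Cfsg.Agent.Lib.Coprime.Action
import Cfsg.Agent.Lib.Coprime.HyperplaneGeneration
import Cfsg.Agent.Lib.Struct76.Basic
import Cfsg.Agent.Lib.Isolated.LocalCentral
import Cfsg.Agent.S3754

set_option autoImplicit false

/-! The structure of a solvable group with a unique maximal subgroup over a Sylow 2-subgroup. -/

namespace CfsgLib.Stellmacher

open Subgroup
open scoped commutatorElement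

variable {G : Type*} [Group G] [Finite G]

theorem para_of_unique [Group.IsSolvable G] (hS4 : ¬ Cfsg.Involves (Equiv.Perm (Fin 4)) G)
    (hC : centralizer (Cfsg.pCore 2 G : Set G) ≤ Cfsg.pCore 2 G) (P : Sylow 2 G) {M : Subgroup G}
    (hPM : (P : Subgroup G) ≤ M) (hover : ∀ H : Subgroup G, (P : Subgroup G) ≤ H → H ≠ ⊤ → H ≤ M)
    (hM : M ≠ ⊤) : Para (P : Subgroup G) (Cfsg.pCore 2 G) M := by
  classical
  haveI : Fact (Nat.Prime 2) := ⟨Nat.prime_two⟩
  haveI := Cfsg.pCore_normal 2 G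
  set π := QuotientGroup.mk' (Cfsg.pCore 2 G) with hπdef
  have hπ : Function.Surjective π := QuotientGroup.mk'_surjective _
  have hker : π.ker = Cfsg.pCore 2 G := QuotientGroup.ker_mk' _
  have hQS : Cfsg.pCore 2 G ≤ (P : Subgroup G) := CfsgLib.PCore.pCore_le_sylow P
  set Sb := (P : Subgroup G).map π with hSb
  set Mb := M.map π with hMb
  have hMbc : Mb.comap π = M := by
    rw [hMb, comap_map_eq, hker, sup_eq_left.2 (hQS.trans hPM)]
  have hSM : Sb ≤ Mb := map_mono hPM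
  have hMbtop : Mb ≠ ⊤ := fun h => hM (by rw [← hMbc, h, comap_top])
  have hoverb : ∀ L, Sb ≤ L → L ≠ ⊤ → L ≤ Mb := by
    intro L hL hne
    rw [← map_comap_eq_self_of_surjective hπ L]
    refine map_mono (hover _ (map_le_iff_le_comap.1 hL) fun h => hne ?_)
    rw [← map_comap_eq_self_of_surjective hπ L, h, map_top_of_surjective π hπ]
  have h0 : Cfsg.pCore 2 (G ⧸ Cfsg.pCore 2 G) = ⊥ := CfsgLib.PCore.pCore_quotient_pCore
  have hps : Cfsg.IsPSolvable 2 (G ⧸ Cfsg.pCore 2 G) :=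
    CfsgLib.PCore.isPSolvable_quotient CfsgLib.PCore.isPSolvable_of_isSolvable _
  set F := Cfsg.pPrimeCore 2 (G ⧸ Cfsg.pCore 2 G) with hF
  haveI : F.Normal := Cfsg.pPrimeCore_normal 2 _
  have hFodd : (Nat.card F).Coprime 2 := CfsgLib.PCore.pPrimeCore_coprime
  have hCF : centralizer (F : Set (G ⧸ Cfsg.pCore 2 G)) ≤ F :=
    CfsgLib.DualHallHigman.centralizer_pPrimeCore_le hps h0
  have hSbp : IsPGroup 2 Sb := P.2.map π
  have hdis : F ⊓ Sb = ⊥ := by
    rw [inf_comm]; exact CfsgLib.PCore.inf_eq_bot_of_isPGroup_coprime hSbp hFodd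
  have hcopS : (Nat.card Sb).Coprime (Nat.card F) := by
    obtain ⟨n, hn⟩ := IsPGroup.iff_card.1 hSbp
    rw [hn]; exact hFodd.symm.pow_left n
  -- invariant proper subgroups of `F`
  have hprop : ∀ L ≤ F, Sb ≤ normalizer (L : Set _) → L ≠ F → L ≤ Mb := by
    intro L hLF hn hne
    refine le_sup_left.trans (hoverb (L ⊔ Sb) le_sup_right fun htop => ?_)
    have h1 := CfsgLib.Structure.card_sup_dvd_mul hn
    rw [htop, card_top] at h1
    have h2 : Nat.card F * Nat.card Sb ∣ Nat.card (G ⧸ Cfsg.pCore 2 G) :=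
      hcopS.symm.mul_dvd_of_dvd_of_dvd (card_subgroup_dvd_card F) (card_subgroup_dvd_card Sb)
    have h3 := Nat.le_of_dvd (Nat.mul_pos Nat.card_pos Nat.card_pos) (h2.trans h1)
    exact hne (eq_of_le_of_card_ge hLF (Nat.le_of_mul_le_mul_right h3 Nat.card_pos))
  have hSF : Sb ≤ normalizer (F : Set _) := le_normalizer_of_normal
  have hFM : ¬ F ≤ Mb := by
    intro hle
    set R := (Cfsg.pCore 2 ((G ⧸ Cfsg.pCore 2 G) ⧸ F)).comap (QuotientGroup.mk' F) with hR
    haveI : (Cfsg.pCore 2 ((G ⧸ Cfsg.pCore 2 G) ⧸ F)).Normal := Cfsg.pCore_normal 2 _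
    haveI : R.Normal := Normal.comap inferInstance _
    set P' := P.mapSurjective hπ with hP'
    have hP'c : (P' : Subgroup (G ⧸ Cfsg.pCore 2 G)) = Sb := P.coe_mapSurjective hπ
    have hRle : R ≤ F ⊔ Sb := by
      rw [hR]
      refine (comap_mono ?_).trans (le_of_eq (?_ : (Sb.map (QuotientGroup.mk' F)).comap (QuotientGroup.mk' F) = _))
      · rw [← hP'c, ← Sylow.coe_mapSurjective (QuotientGroup.mk'_surjective F) P']
        exact CfsgLib.PCore.pCore_le_sylow _
      · rw [comap_map_eq, QuotientGroup.ker_mk', sup_comm]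
    by_cases hT : Sb ⊓ R = ⊥
    · have hRodd : (Nat.card R).Coprime 2 := by
        obtain ⟨R', hR'⟩ := CfsgLib.Struct76.exists_sylow_inf_normal P' R
        refine CfsgLib.PCore.coprime_of_not_dvd_card fun hdvd => ?_
        have hne := (Sylow.ne_bot_of_dvd_card R' hdvd)
        refine hne ?_
        rw [hR', hP'c, subgroupOf_eq_bot, disjoint_iff, hT]
      have hRF : R ≤ F := CfsgLib.PCore.le_pPrimeCore inferInstance hRodd
      have h1 : Cfsg.pCore 2 ((G ⧸ Cfsg.pCore 2 G) ⧸ F) = ⊥ := by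
        rw [← map_comap_eq_self_of_surjective (QuotientGroup.mk'_surjective F)
          (Cfsg.pCore 2 ((G ⧸ Cfsg.pCore 2 G) ⧸ F)), Subgroup.map_eq_bot_iff, QuotientGroup.ker_mk']
        exact hRF
      have h2 : Cfsg.pPrimeCore 2 ((G ⧸ Cfsg.pCore 2 G) ⧸ F) = ⊥ :=
        CfsgLib.PCore.pPrimeCore_quotient_pPrimeCore
      have h3 := CfsgLib.DualHallHigman.centralizer_pPrimeCore_le
        (CfsgLib.PCore.isPSolvable_quotient hps F) h1
      rw [h2] at h3
      refine hMbtop (top_le_iff.1 fun x _ => hle ((QuotientGroup.eq_one_iff x).1 ?_))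
      exact mem_bot.1 (h3 (mem_centralizer_iff.2 fun y hy => by
        rw [SetLike.mem_coe, mem_bot] at hy
        rw [hy, one_mul, mul_one]))
    · obtain ⟨R', hR'⟩ := CfsgLib.Struct76.exists_sylow_inf_normal P' R
      have hfr := Sylow.normalizer_sup_eq_top R'
      rw [hR', hP'c, subgroupOf_map_subtype] at hfr
      have hN : normalizer ((Sb ⊓ R : Subgroup _) : Set (G ⧸ Cfsg.pCore 2 G)) ≤ Mb := by
        refine hoverb _ ?_ fun htop => hT ?_
        · intro s hs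
          rw [mem_normalizer_iff_map_conj_eq, map_inf _ _ _ (MulAut.conj s).injective,
            mem_normalizer_iff_map_conj_eq.1 (le_normalizer hs),
            mem_normalizer_iff_map_conj_eq.1 ((le_normalizer_of_normal : Sb ≤ _) hs)]
        · haveI := normalizer_eq_top_iff.1 htop
          exact le_bot_iff.1 (h0 ▸ CfsgLib.PCore.le_pCore inferInstance (hSbp.to_le inf_le_left))
      exact hMbtop (top_le_iff.1 (hfr ▸ sup_le hN (hRle.trans (sup_le hle hSM))))
  -- `F` is a `q`-group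
  obtain ⟨q, hq, hFq⟩ : ∃ q, q.Prime ∧ IsPGroup q F := by
    by_contra hall
    push Not at hall
    refine hFM (inf_eq_right.1 (eq_of_le_of_card_ge inf_le_right (Nat.le_of_dvd Nat.card_pos ?_)))
    refine (Nat.dvd_iff_prime_pow_dvd_dvd _ _).2 fun r k hr hrk => ?_
    haveI : Fact r.Prime := ⟨hr⟩
    obtain ⟨R', hR'⟩ := CfsgLib.Coprime.exists_invariant_sylow Sb F hSF hcopS
      (Or.inl (by haveI := hSbp.isNilpotent; infer_instance)) r
    have hRF : (R' : Subgroup F).map F.subtype ≠ F := fun h => hall r hr (h ▸ R'.2.map _)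
    have hle : (R' : Subgroup F).map F.subtype ≤ Mb ⊓ F :=
      le_inf (hprop _ (map_subtype_le _) hR' hRF) (map_subtype_le _)
    have h1 : r ^ k ∣ Nat.card (R' : Subgroup F) := by
      rw [Sylow.card_eq_multiplicity]
      exact Nat.pow_dvd_pow r ((hr.pow_dvd_iff_le_factorization Nat.card_pos.ne').1 hrk)
    rw [← card_map_of_injective F.subtype_injective] at h1
    exact h1.trans (card_dvd_of_le hle)
  haveI : Fact q.Prime := ⟨hq⟩
  have hFne : F ≠ ⊥ := fun h => hFM (h ▸ bot_le)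
  have hq2 : q ≠ 2 := by
    rintro rfl
    exact hFne (CfsgLib.PCore.eq_bot_of_isPGroup_coprime hFq hFodd)
  set MF := Mb ⊓ F with hMF
  have hSMF : Sb ≤ normalizer (MF : Set _) := fun s hs => mem_normalizer_iff_map_conj_eq.2 (by
    rw [hMF, map_inf _ _ _ (MulAut.conj s).injective,
      mem_normalizer_iff_map_conj_eq.1 ((le_normalizer : Mb ≤ _) (hSM hs)),
      mem_normalizer_iff_map_conj_eq.1 (hSF hs)])
  have hMFF : F ≤ normalizer (MF : Set _) := by
    by_contra hn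
    have hlt : MF < F := lt_of_le_of_ne inf_le_right fun h => hn (h ▸ le_normalizer)
    have h1 : MF < F ⊓ normalizer (MF : Set _) := CfsgLib.Isolated.lt_inf_normalizer hFq hlt
    refine h1.not_ge (le_inf (hprop _ inf_le_left ?_ fun h => hn (h ▸ inf_le_right)) inf_le_left)
    intro s hs
    rw [mem_normalizer_iff_map_conj_eq, map_inf _ _ _ (MulAut.conj s).injective,
      mem_normalizer_iff_map_conj_eq.1 (hSF hs)]
    congr 1
    exact (map_equiv_normalizer_eq MF (MulAut.conj s)).trans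
      (by rw [show (MF.map (MulAut.conj s).toMonoidHom) = MF from mem_normalizer_iff_map_conj_eq.1 (hSMF hs)])
  -- only the identity of `Sb` centralizes `F` modulo `MF`
  have hSigma : ∀ s ∈ Sb, (∀ f ∈ F, ⁅s, f⁆ ∈ MF) → s = 1 := by
    let Sg : Subgroup (G ⧸ Cfsg.pCore 2 G) :=
      { carrier := {s | s ∈ Sb ∧ ∀ f ∈ F, ⁅s, f⁆ ∈ MF}
        one_mem' := ⟨one_mem _, fun f _ => by rw [commutatorElement_one_left]; exact one_mem _⟩
        mul_mem' := fun {s t} hs ht => ⟨mul_mem hs.1 ht.1, fun f hf => by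
          have e : ⁅s * t, f⁆ = s * ⁅t, f⁆ * s⁻¹ * ⁅s, f⁆ := by simp only [commutatorElement_def]; group
          rw [e]
          exact mul_mem ((mem_normalizer_iff.1 (hSMF hs.1) _).1 (ht.2 f hf)) (hs.2 f hf)⟩
        inv_mem' := fun {s} hs => ⟨inv_mem hs.1, fun f hf => by
          have e : ⁅s⁻¹, f⁆ = s⁻¹ * (⁅s, f⁆)⁻¹ * (s⁻¹)⁻¹ := by simp only [commutatorElement_def]; group
          rw [e]
          exact (mem_normalizer_iff.1 (hSMF (inv_mem hs.1)) _).1 (inv_mem (hs.2 f hf))⟩ }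
    have hSgS : Sg ≤ Sb := fun s hs => hs.1
    have hSgn : Sb ≤ normalizer (Sg : Set _) := Subgroup.le_normalizer_iff.2 fun s hs x hx =>
      ⟨mul_mem (mul_mem hs hx.1) (inv_mem hs), fun f hf => by
        have e : ⁅s * x * s⁻¹, f⁆ = s * ⁅x, s⁻¹ * f * (s⁻¹)⁻¹⁆ * s⁻¹ := by
          simp only [commutatorElement_def]; group
        rw [e]
        exact (mem_normalizer_iff.1 (hSMF hs) _).1
          (hx.2 _ ((mem_normalizer_iff.1 (hSF (inv_mem hs)) _).1 hf))⟩
    intro s hs hsf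
    have hcent : F ≤ centralizer (Sg : Set _) := by
      by_contra hn
      set D := F ⊓ centralizer (Sg : Set _) with hD
      have hDn : Sb ≤ normalizer (D : Set _) := Subgroup.le_normalizer_iff.2 fun x hx y hy => by
        obtain ⟨hyF, hyC⟩ := mem_inf.1 hy
        refine mem_inf.2 ⟨(mem_normalizer_iff.1 (hSF hx) _).1 hyF, mem_centralizer_iff.2 fun z hz => ?_⟩
        have h1 : x⁻¹ * z * x ∈ Sg := (mem_normalizer_iff''.1 (hSgn hx) z).1 hz
        have h2 : x⁻¹ * z * x * y = y * (x⁻¹ * z * x) := mem_centralizer_iff.1 hyC _ h1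
        calc z * (x * y * x⁻¹) = x * (x⁻¹ * z * x * y) * x⁻¹ := by group
          _ = x * (y * (x⁻¹ * z * x)) * x⁻¹ := by rw [h2]
          _ = x * y * x⁻¹ * z := by group
      have hDM : D ≤ Mb := hprop D inf_le_left hDn (fun h => hn (h ▸ inf_le_right))
      refine hFM fun k hk => ?_
      obtain ⟨c, hc, hkc⟩ := CfsgLib.Coprime.exists_centralizing_rep Sg F (hSgS.trans hSF)
        (hcopS.coprime_dvd_left (card_dvd_of_le hSgS))
        (Or.inl (by haveI := (hSbp.to_le hSgS).isNilpotent; infer_instance)) MF inf_le_right (hSgS.trans hSMF) hk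
        (fun a ha => by
          have e : k⁻¹ * (a * k * a⁻¹) = k⁻¹ * ⁅a, k⁆ * (k⁻¹)⁻¹ := by
            simp only [commutatorElement_def]; group
          rw [e]
          exact (mem_normalizer_iff.1 (hMFF (inv_mem hk)) _).1 (ha.2 k hk))
      have : k = c * (k⁻¹ * c)⁻¹ := by group
      rw [this]
      exact mul_mem (hDM hc) (inv_mem (mem_inf.1 hkc).1)
    have h1 : s ∈ centralizer (F : Set _) := le_centralizer_iff.1 hcent ⟨hs, hsf⟩
    exact mem_bot.1 (hdis ▸ ⟨hCF h1, hs⟩)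
  have hkern : ∀ K : Subgroup G, K.Normal → K ≤ M → K ⊓ (P : Subgroup G) ≤ Cfsg.pCore 2 G := by
    intro K hK hKM x hx
    haveI : (K.map π).Normal := hK.map π hπ
    refine (QuotientGroup.eq_one_iff x).1 (hSigma (π x) (mem_map_of_mem π hx.2) fun f hf => mem_inf.2 ⟨?_, ?_⟩)
    · exact map_mono hKM (commutator_le_left (K.map π) ⊤ (commutator_mem_commutator (mem_map_of_mem π hx.1) (mem_top f)))
    · exact commutator_le_right ⊤ F (commutator_mem_commutator (mem_top _) hf)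
  refine ⟨inferInstance, hQS, P.2, hPM, hover, hkern, ?_⟩
  intro K hK hKM T hT hTQ hsq hcm
  have hKQ : ∀ {x}, x ∈ K → x ∈ (P : Subgroup G) → x ∈ Cfsg.pCore 2 G := fun h h' => hkern K hK hKM ⟨h, h'⟩
  set Tb := T.map π with hTb
  have hTbS : Tb ≤ Sb := map_mono hT
  have hTbe : Cfsg.IsElementaryAbelian 2 Tb := by
    refine ⟨CfsgLib.PLocal.isMulCommutative_of_forall ?_, ?_⟩
    · rintro _ ⟨s, hs, rfl⟩ _ ⟨t, ht, rfl⟩
      rw [← commutatorElement_eq_one_iff_mul_comm, ← map_commutatorElement]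
      exact (QuotientGroup.eq_one_iff _).2 (hKQ (hcm s hs t ht)
        (mul_mem (mul_mem (mul_mem (hT hs) (hT ht)) (inv_mem (hT hs))) (inv_mem (hT ht))))
    · rintro _ ⟨t, ht, rfl⟩
      rw [← map_pow]
      exact (QuotientGroup.eq_one_iff _).2 (by
        rw [pow_two]; exact hKQ (hsq t ht) (mul_mem (hT ht) (hT ht)))
  have hTb1 : Tb ≠ ⊥ := fun h => hTQ fun t ht =>
    (QuotientGroup.eq_one_iff t).1 (mem_bot.1 (h ▸ mem_map_of_mem π ht))
  obtain ⟨Bb, c, ab, hBb, hBi, hc, hab, hca⟩ : ∃ (Bb : Subgroup (G ⧸ Cfsg.pCore 2 G)) (c ab : G ⧸ Cfsg.pCore 2 G),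
      Bb ≤ Tb ∧ Bb.relIndex Tb = 2 ∧ c ∈ F ⊓ centralizer (Bb : Set _) ∧ ab ∈ Tb ∧ ⁅c, ab⁆ ∉ Mb := by
    by_contra! hall
    obtain ⟨t, ht, ht1⟩ := (ne_bot_iff_exists_ne_one.1 hTb1 : ∃ t : Tb, t ≠ 1) |> fun ⟨t, ht⟩ => (⟨t.1, t.2, fun h => ht (Subtype.ext h)⟩ : ∃ t, t ∈ Tb ∧ t ≠ 1)
    refine ht1 (hSigma t (hTbS ht) fun f hf => ?_)
    let D : Subgroup (G ⧸ Cfsg.pCore 2 G) :=
      { carrier := {f | f ∈ F ∧ ⁅f, t⁆ ∈ MF}
        one_mem' := ⟨one_mem _, by rw [commutatorElement_one_left]; exact one_mem _⟩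
        mul_mem' := fun {u v} hu hv => ⟨mul_mem hu.1 hv.1, by
          have e : ⁅u * v, t⁆ = u * ⁅v, t⁆ * u⁻¹ * ⁅u, t⁆ := by simp only [commutatorElement_def]; group
          rw [e]
          exact mul_mem ((mem_normalizer_iff.1 (hMFF hu.1) _).1 hv.2) hu.2⟩
        inv_mem' := fun {u} hu => ⟨inv_mem hu.1, by
          have e : ⁅u⁻¹, t⁆ = u⁻¹ * (⁅u, t⁆)⁻¹ * (u⁻¹)⁻¹ := by simp only [commutatorElement_def]; group
          rw [e]
          exact (mem_normalizer_iff.1 (hMFF (inv_mem hu.1)) _).1 (inv_mem hu.2)⟩ }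
    have hFD : F ≤ D := by
      conv_lhs => rw [← CfsgLib.Coprime39.eq_hyperCent hTbe hTb1 hFodd (hTbS.trans hSF)]
      refine iSup_le fun B u hu => ?_
      refine ⟨(mem_inf.1 hu).1, mem_inf.2 ⟨hall _ u t B.2.1 B.2.2 hu ht, ?_⟩⟩
      exact commutator_le_left F ⊤ (commutator_mem_commutator (mem_inf.1 hu).1 (mem_top _))
    rw [← commutatorElement_inv f t]
    exact inv_mem (hFD hf).2
  obtain ⟨a, haT, rfl⟩ := hab
  obtain ⟨g, rfl⟩ := hπ c
  obtain ⟨hgF, hgB⟩ := mem_inf.1 hc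
  set B := T ⊓ Bb.comap π with hB
  have haB : a ∉ B := fun h => hca (by
    rw [commutatorElement_eq_one_iff_mul_comm.2 (mem_centralizer_iff.1 hgB _ (mem_inf.1 h).2).symm]
    exact one_mem _)
  have ha2 : a * a ∈ Cfsg.pCore 2 G := hKQ (hsq a haT) (mul_mem (hT haT) (hT haT))
  have haQ : a ∉ Cfsg.pCore 2 G := fun h => hca (by
    rw [show π a = 1 from (QuotientGroup.eq_one_iff a).2 h, commutatorElement_one_right]
    exact one_mem _)
  set d₀ := ⁅g, a⁆ with hd₀
  have hd₀F : π d₀ ∈ F := by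
    rw [hd₀, map_commutatorElement]
    exact commutator_le_left F ⊤ (commutator_mem_commutator hgF (mem_top _))
  obtain ⟨i, hi⟩ : ∃ i, orderOf (π d₀) = q ^ i := by
    obtain ⟨i, hi⟩ := IsPGroup.iff_orderOf.1 hFq ⟨π d₀, hd₀F⟩
    exact ⟨i, by rw [← hi, orderOf_mk]⟩
  have hd₀Q : d₀ ∉ Cfsg.pCore 2 G := fun h => hca (by
    rw [← map_commutatorElement, show π d₀ = 1 from (QuotientGroup.eq_one_iff d₀).2 h]
    exact one_mem _)
  have hinvK : ∀ (L : Subgroup G), L.Normal → a * a ∈ L → a * d₀ * a⁻¹ * d₀ ∈ L := by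
    intro L hL ha
    have e : a * d₀ * a⁻¹ * d₀ = a * g * a * g⁻¹ * a⁻¹ * (a⁻¹ * g * a * g⁻¹ * a⁻¹) := by
      rw [hd₀, commutatorElement_def]; group
    have e' : a * g * a * g⁻¹ * a⁻¹ * (a⁻¹ * g * a * g⁻¹ * a⁻¹) =
        (a * g * a * g⁻¹) * (a * a)⁻¹ * (a * g * a * g⁻¹)⁻¹ * ((a * g) * (a * a) * (a * g)⁻¹) := by
      group
    rw [e, e']
    exact mul_mem (hL.conj_mem _ (inv_mem ha) _) (hL.conj_mem _ ha _)
  obtain ⟨hq5, n, j, hdo, hdπ⟩ := exists_inverted_lift hS4 hC hq hq2 ha2 haQ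
    (hinvK _ inferInstance ha2) hi hd₀Q
  set d := d₀ ^ n with hd
  refine ⟨B, a, d, q, j, inf_le_left, ?_, ?_, haT, haB, hq, hq5, hdo, ?_, ?_, ?_⟩
  · rw [hB, inf_comm, inf_relIndex_right, relIndex_comap, ← hTb, hBi]
  · rintro x ⟨hx, hxQ⟩
    refine mem_inf.2 ⟨hx, ?_⟩
    show π x ∈ Bb
    rw [show π x = 1 from (QuotientGroup.eq_one_iff x).2 hxQ]
    exact one_mem _
  · intro hdM
    refine hca ?_
    rw [← map_commutatorElement, ← hd₀, show π d₀ = π d from hdπ.symm]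
    exact mem_map_of_mem π hdM
  · intro b hb k
    refine (QuotientGroup.eq_one_iff _).1 ?_
    show π (d ^ k * b * d ^ (-k) * b⁻¹) = 1
    have hab : Commute (π a) (π b) := congrArg Subtype.val
      (hTbe.1.1.comm (⟨π a, mem_map_of_mem π haT⟩ : Tb) ⟨π b, mem_map_of_mem π (mem_inf.1 hb).1⟩)
    have hgb : Commute (π g) (π b) := (mem_centralizer_iff.1 hgB _ (mem_inf.1 hb).2).symm
    have h0' : Commute (π d₀) (π b) := by
      rw [hd₀, map_commutatorElement, commutatorElement_def]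
      exact ((hgb.mul_left hab).mul_left hgb.inv_left).mul_left hab.inv_left
    have h1 : Commute (π d ^ k) (π b) := by
      rw [show π d = π d₀ from hdπ]; exact h0'.zpow_left k
    rw [map_mul, map_mul, map_mul, map_inv, map_zpow, map_zpow, h1.eq]
    group
  · haveI := hK
    refine (QuotientGroup.eq_one_iff _).1 ?_
    have h1 : QuotientGroup.mk' K (a * d₀ * a⁻¹) = QuotientGroup.mk' K d₀⁻¹ := by
      rw [← mul_inv_eq_one, ← map_inv, ← map_mul, inv_inv]
      exact (QuotientGroup.eq_one_iff _).2 (hinvK K hK (hsq a haT))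
    show QuotientGroup.mk' K (a * d * a⁻¹ * d) = 1
    rw [map_mul, hd, ← conj_pow, map_pow, h1, ← map_pow, ← map_mul, inv_pow, inv_mul_cancel, map_one]

end CfsgLib.Stellmacher
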