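import Cfsg.Agent.Lib.Stellmacher.InheritSpec
import Cfsg.Agent.Lib.Stellmacher.Conj
import Cfsg.Agent.Lib.Stellmacher.Select
import Cfsg.Agent.Lib.Stellmacher.BOne

set_option autoImplicit false

/-! A characteristic subgroup of a 2-group that is normal in every solvable `S₄`-free group with that
Sylow 2-subgroup in which `O₂` contains its centralizer. -/

namespace CfsgLib.Stellmacher

open Subgroup IsMulCommutative CfsgLib.LocalEven.Involved
open scoped commutatorElement

universe u

/-- The largest normal subgroup with both properties. -/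
def wSub (S : Type*) [Group S] : Subgroup S := sSup {V : Subgroup S | V.Normal ∧ PiSub ⊤ V}

section WSub

variable {S : Type*} [Group S] [Finite S]

theorem piSub_bot : PiSub (⊤ : Subgroup S) ⊥ := by
  refine PiSub.of_le_centralizer ⟨CfsgLib.PLocal.isMulCommutative_of_forall ?_, ?_⟩ ?_
  · intro a ha b hb; rw [mem_bot.1 ha, mem_bot.1 hb]
  · intro a ha; rw [mem_bot.1 ha, one_pow]
  · intro s _
    exact mem_centralizer_iff.2 fun b hb => by rw [mem_bot.1 hb, one_mul, mul_one]

theorem wSub_spec : (wSub S).Normal ∧ PiSub (⊤ : Subgroup S) (wSub S) := by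
  have key : ∀ s : Set (Subgroup S), s.Finite → (∀ N ∈ s, N.Normal ∧ PiSub ⊤ N) →
      (sSup s).Normal ∧ PiSub (⊤ : Subgroup S) (sSup s) := by
    intro s hs
    induction s, hs using Set.Finite.induction_on with
    | empty => intro _; rw [sSup_empty]; exact ⟨inferInstance, piSub_bot⟩
    | @insert a s _ _ ih =>
      intro h
      obtain ⟨hn, hq⟩ := ih fun N hN => h N (Set.mem_insert_of_mem _ hN)
      obtain ⟨han, haq⟩ := h a (Set.mem_insert _ _)
      rw [sSup_insert]
      have := han; have := hn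
      exact ⟨inferInstance, haq.sup hq le_top le_top⟩
  exact key _ (Set.toFinite _) fun N hN => hN

theorem le_wSub {V : Subgroup S} (hn : V.Normal) (h : PiSub (⊤ : Subgroup S) V) : V ≤ wSub S :=
  le_sSup ⟨hn, h⟩

theorem wSub_characteristic : (wSub S).Characteristic := by
  refine characteristic_iff_map_le.2 fun e => le_wSub (wSub_spec.1.map _ e.surjective) ?_
  have := (wSub_spec (S := S)).2.map e.toMonoidHom e.injective
  rwa [Subgroup.map_top_of_surjective _ e.surjective] at this

theorem wSub_ne_bot [Nontrivial S] (hS : IsPGroup 2 S) : wSub S ≠ ⊥ := by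
  haveI : Fact (Nat.Prime 2) := ⟨Nat.prime_two⟩
  haveI := hS.center_nontrivial
  obtain ⟨k, hk0, hk⟩ := (hS.to_subgroup (center S)).nontrivial_iff_card.1 inferInstance
  obtain ⟨z, hz⟩ := exists_prime_orderOf_dvd_card' 2 (show 2 ∣ Nat.card (center S) from hk ▸ dvd_pow_self 2 hk0.ne')
  have hzc : zpowers (z : S) ≤ center S := zpowers_le.2 z.2
  have hle : zpowers (z : S) ≤ wSub S := by
    refine le_wSub ⟨fun w hw g => ?_⟩ (PiSub.of_le_centralizer ⟨inferInstance, fun w hw => ?_⟩ ?_)
    · rw [mem_center_iff.1 (hzc hw) g, mul_inv_cancel_right]; exact hw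
    · obtain ⟨i, rfl⟩ := mem_zpowers_iff.1 hw
      rw [← zpow_natCast, ← zpow_mul, mul_comm, zpow_mul, zpow_natCast,
        show (z : S) ^ 2 = 1 by rw [← hz, ← orderOf_coe]; exact pow_orderOf_eq_one _, one_zpow]
    · intro s _
      exact mem_centralizer_iff.2 fun w hw => (mem_center_iff.1 (hzc hw) s).symm
  intro h
  have := hle (mem_zpowers (z : S))
  rw [h, mem_bot] at this
  rw [← orderOf_coe, this, orderOf_one] at hz
  exact absurd hz (by norm_num)

end WSub

/-- The invariant closure of `W` in a group with a unique maximal subgroup has both properties. -/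
theorem piSub_normalClosure {G : Type*} [Group G] [Finite G] {S Q M W : Subgroup G} (hP : Para S Q M)
    (hW : PiSub S W) (hWQ : W ≤ Q) (hM : normalizer (W : Set G) ≤ M) :
    PiSub S (normalClosure (W : Set G)) := by
  classical
  haveI := hP.normal
  set N := normalClosure (W : Set G) with hN
  have hWN : W ≤ N := le_normalClosure
  have hcs : ∀ x ∈ Group.conjugatesOfSet (W : Set G), ∃ (g : G) (w : G), w ∈ W ∧ g * w * g⁻¹ = x := by
    intro x hx
    obtain ⟨w, hw, hwx⟩ := Group.mem_conjugatesOfSet_iff.1 hx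
    obtain ⟨g, rfl⟩ := isConj_iff.1 hwx
    exact ⟨g, w, hw, rfl⟩
  have hcm : ∀ x ∈ Group.conjugatesOfSet (W : Set G), ∀ y ∈ Group.conjugatesOfSet (W : Set G),
      x * y = y * x := by
    intro x hx y hy
    obtain ⟨g, w, hw, rfl⟩ := hcs x hx
    obtain ⟨g', w', hw', rfl⟩ := hcs y hy
    have hle : ∀ h k : G, W.map (MulAut.conj h).toMonoidHom ≤ S.map (MulAut.conj k).toMonoidHom := by
      rintro h k _ ⟨v, hv, rfl⟩
      exact hP.Q_le_conj k (hP.normal.conj_mem v (hWQ hv) h)
    exact (hW.map (MulAut.conj g).toMonoidHom (MulAut.conj g).injective).commute_of_normalizing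
      (hW.map (MulAut.conj g').toMonoidHom (MulAut.conj g').injective) (hle g' g) (hle g g')
      _ ⟨w, hw, rfl⟩ _ ⟨w', hw', rfl⟩
  haveI : IsMulCommutative N := Subgroup.isMulCommutative_closure hcm
  have h2 : ∀ v ∈ N, v ^ 2 = 1 := by
    intro v hv
    induction hv using Subgroup.closure_induction with
    | mem y hy =>
      obtain ⟨g, w, hw, rfl⟩ := hcs y hy
      rw [conj_pow, hW.elem.2 w hw, mul_one, mul_inv_cancel]
    | one => exact one_pow 2
    | mul y z hy hz h1 h2 =>
      have hyz : Commute y z := congrArg Subtype.val (mul_comm' (⟨y, hy⟩ : N) ⟨z, hz⟩)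
      rw [hyz.mul_pow, h1, h2, one_mul]
    | inv y _ h1 => rw [inv_pow, h1, inv_one]
  have hnN : ∀ g : G, (MonoidHom.id G) g ∈ normalizer (N : Set G) := fun g => by
    rw [normalizer_eq_top]; exact mem_top g
  letI := conjAction N (MonoidHom.id G) hnN
  have hpi : IsPi S (toAdd N W) :=
    (isPi_iff_piSub N h2 (MonoidHom.id G) Function.injective_id hnN hWN S).2 (by rwa [Subgroup.map_id])
  have hM' : ∀ g : G, (∀ w ∈ toAdd N W, g • w ∈ toAdd N W) → g ∈ M := fun g hg =>
    hM (CfsgLib.Coprime.mem_normalizer_of_forall_conj fun v hv => hg (Additive.ofMul ⟨v, hWN hv⟩) hv)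
  have hgen : AddSubgroup.closure {x : Additive N | ∃ g : G, ∃ w ∈ toAdd N W, x = g • w} = ⊤ := by
    refine eq_top_iff.2 fun x _ => ?_
    have key : ∀ v ∈ N, ∃ hv : v ∈ N, Additive.ofMul (⟨v, hv⟩ : N) ∈
        AddSubgroup.closure {x : Additive N | ∃ g : G, ∃ w ∈ toAdd N W, x = g • w} := by
      intro v hv
      induction hv using Subgroup.closure_induction with
      | mem y hy =>
        refine ⟨Subgroup.subset_closure hy, AddSubgroup.subset_closure ?_⟩
        obtain ⟨g, w, hw, rfl⟩ := hcs y hy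
        exact ⟨g, Additive.ofMul ⟨w, hWN hw⟩, hw, rfl⟩
      | one => exact ⟨one_mem _, zero_mem _⟩
      | mul y z _ _ h1 h2 => exact ⟨mul_mem h1.1 h2.1, add_mem h1.2 h2.2⟩
      | inv y _ h1 => exact ⟨inv_mem h1.1, neg_mem h1.2⟩
    exact (key _ x.toMul.2).2
  have hadd : ∀ x : Additive N, x + x = 0 := add_self N h2
  have htop : (⊤ : AddSubgroup (Additive N)) = toAdd N N :=
    (le_antisymm (fun x _ => x.toMul.2) le_top)
  have hall : IsPi S (⊤ : AddSubgroup (Additive N)) :=
    ⟨fun _ _ _ _ => AddSubgroup.mem_top _, good_closure hP hadd hpi hM' hgen,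
      noSpec_closure hP hadd hpi hM' hgen⟩
  rw [htop] at hall
  have := (isPi_iff_piSub N h2 (MonoidHom.id G) Function.injective_id hnN le_rfl S).1 hall
  rwa [Subgroup.map_id] at this

/-- The induction. -/
theorem map_wSub_normal {S : Type u} [Group S] [Finite S] : ∀ (n : ℕ) (G : Type u) [Group G] [Finite G],
    Nat.card G = n → ∀ τ : S →* G, Function.Injective τ → (∃ P : Sylow 2 G, (P : Subgroup G) = τ.range) →
      Group.IsSolvable G → ¬ Cfsg.Involves (Equiv.Perm (Fin 4)) G →
      centralizer (Cfsg.pCore 2 G : Set G) ≤ Cfsg.pCore 2 G → ((wSub S).map τ).Normal := by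
  classical
  intro n
  induction n using Nat.strong_induction_on with
  | _ n ih =>
  intro G _ _ hcard τ hτ ⟨P, hP⟩ hsolv hS4 hC
  haveI : Fact (Nat.Prime 2) := ⟨Nat.prime_two⟩
  haveI := Cfsg.pCore_normal 2 G
  set W := (wSub S).map τ with hW
  have hWP : W ≤ (P : Subgroup G) := hP ▸ Subgroup.map_le_range _ _
  have hpi : PiSub (P : Subgroup G) W := by
    have := (wSub_spec (S := S)).2.map τ hτ
    rwa [← MonoidHom.range_eq_map, ← hP] at this
  have hQP : Cfsg.pCore 2 G ≤ (P : Subgroup G) := CfsgLib.PCore.pCore_le_sylow P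
  have hPn : (P : Subgroup G) ≤ normalizer (W : Set G) := hpi.le_normalizer
  by_contra hWn
  have hMtop : normalizer (W : Set G) ≠ ⊤ := fun h => hWn (normalizer_eq_top_iff.1 h)
  have hover : ∀ H : Subgroup G, (P : Subgroup G) ≤ H → H ≠ ⊤ → H ≤ normalizer (W : Set G) := by
    intro H hPH hne
    have hlt : Nat.card H < n := hcard ▸ lt_of_not_ge fun hge => hne
      (eq_top_of_le_card H hge)
    let τ' : S →* H := τ.codRestrict H fun s => hPH (hP ▸ ⟨s, rfl⟩)
    have hτ' : Function.Injective τ' := fun s t h => hτ (congrArg Subtype.val h)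
    have hQH : (Cfsg.pCore 2 G).subgroupOf H ≤ Cfsg.pCore 2 H :=
      CfsgLib.PCore.le_pCore inferInstance CfsgLib.PCore.pCore_isPGroup.comap_subtype
    have hC' : centralizer (Cfsg.pCore 2 H : Set H) ≤ Cfsg.pCore 2 H := fun h hh => by
      refine hQH (show (h : G) ∈ Cfsg.pCore 2 G from hC (mem_centralizer_iff.2 fun x hx => ?_))
      exact congrArg Subtype.val (mem_centralizer_iff.1 hh ⟨x, hPH (hQP hx)⟩ (hQH hx))
    have hr : (P.subtype hPH : Subgroup H) = τ'.range := by
      rw [Sylow.coe_subtype]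
      ext x
      rw [mem_subgroupOf, hP]
      exact ⟨fun ⟨s, hs⟩ => ⟨s, Subtype.ext hs⟩, fun ⟨s, hs⟩ => ⟨s, congrArg Subtype.val hs⟩⟩
    have hn := ih _ hlt H rfl τ' hτ' ⟨P.subtype hPH, hr⟩ inferInstance
      (fun h => hS4 (involves_of_subgroup h)) hC'
    intro h hh
    refine CfsgLib.Coprime.mem_normalizer_of_forall_conj fun w hw => ?_
    obtain ⟨s, hs, rfl⟩ := hw
    obtain ⟨s', hs', he⟩ := hn.conj_mem (τ' s) (mem_map_of_mem τ' hs) ⟨h, hh⟩
    exact ⟨s', hs', congrArg Subtype.val he⟩
  have hpara := para_of_unique hS4 hC P hPn hover hMtop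
  have hWQ := le_pCore_of_piSub hS4 hC P hpi hWP
  have hX := piSub_normalClosure hpara hpi hWQ le_rfl
  set N := normalClosure (W : Set G) with hN
  have hNP : N ≤ (P : Subgroup G) := (normalClosure_le_normal hWQ).trans hQP
  have hNe : (N.comap τ).map τ = N := by
    rw [Subgroup.map_comap_eq, inf_eq_right.2 (hP ▸ hNP)]
  have hpi' : PiSub (⊤ : Subgroup S) (N.comap τ) := by
    let e := MonoidHom.ofInjective hτ
    have hN' : PiSub τ.range N := hP ▸ hX
    -- pull back along the isomorphism onto the range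
    haveI := hN'.elem.1
    have h2 : ∀ v ∈ N.comap τ, v ^ 2 = 1 := fun v hv => hτ (by rw [map_pow, map_one]; exact hN'.elem.2 _ hv)
    haveI : IsMulCommutative (N.comap τ) := ⟨⟨fun a b => Subtype.ext (hτ (by
      show τ ((a : S) * b) = τ ((b : S) * a)
      rw [map_mul, map_mul, hN'.comm a.2 b.2]))⟩⟩
    have hn : ∀ s : S, (MonoidHom.id S) s ∈ normalizer (N.comap τ : Set S) := fun s => by
      rw [normalizer_eq_top]; exact mem_top s
    letI := conjAction (N.comap τ) (MonoidHom.id S) hn
    letI := conjAction N τ.range.subtype (fun s => hN'.le_normalizer s.2)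
    let f : Additive (N.comap τ) →+ Additive N := MonoidHom.toAdditive (τ.subgroupComap N)
    have hf : Function.Injective f := fun x y hxy => Additive.toMul.injective
      (Subtype.ext (hτ (congrArg (fun z : Additive N => (z.toMul : G)) hxy)))
    have h1 : IsPi ((⊤ : Subgroup S).map e.toMonoidHom) ((toAdd (N.comap τ) (N.comap τ)).map f) := by
      have h := hN'.isPi (fun s => hN'.le_normalizer s.2)
      convert h using 1
      · exact Subgroup.map_top_of_surjective _ e.surjective
      · refine le_antisymm (fun x _ => x.toMul.2) fun x _ => ?_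
        obtain ⟨s, hs⟩ := hNe.ge x.toMul.2
        exact ⟨Additive.ofMul ⟨s, hs.1⟩, hs.1, Additive.toMul.injective (Subtype.ext hs.2)⟩
    have h3 := (isPi_map_iff (φ := e.toMonoidHom) e.injective hf (fun γ v =>
      Additive.toMul.injective (Subtype.ext (by
        show τ (γ * (v.toMul : S) * γ⁻¹) = τ γ * τ (v.toMul : S) * (τ γ)⁻¹
        rw [map_mul, map_mul, map_inv])))).1 h1
    have := (isPi_iff_piSub (N.comap τ) h2 (MonoidHom.id S) Function.injective_id hn le_rfl ⊤).1 h3
    rwa [Subgroup.map_id] at this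
  have hNW : N ≤ W := by
    rw [← hNe, hW]
    exact map_mono (le_wSub inferInstance hpi')
  exact hWn (le_antisymm hNW le_normalClosure ▸ normalClosure_normal)

/-- Stellmacher's subgroup for solvable groups. -/
theorem exists_char_normal {S : Type u} [Group S] [Finite S] [Nontrivial S] (hS : IsPGroup 2 S) :
    ∃ W : Subgroup S, W ≠ ⊥ ∧ W.Characteristic ∧ ∀ (G : Type u) [Group G] [Finite G] (τ : S →* G),
      Function.Injective τ → (∃ P : Sylow 2 G, (P : Subgroup G) = τ.range) → Group.IsSolvable G →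
      ¬ Cfsg.Involves (Equiv.Perm (Fin 4)) G →
      centralizer (Cfsg.pCore 2 G : Set G) ≤ Cfsg.pCore 2 G → (W.map τ).Normal :=
  ⟨wSub S, wSub_ne_bot hS, wSub_characteristic, fun G _ _ τ => map_wSub_normal _ G rfl τ⟩

end CfsgLib.Stellmacher
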