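import Mathlib.GroupTheory.PGroup
import Mathlib.GroupTheory.Index
import Mathlib.GroupTheory.GroupAction.Basic
import Mathlib.GroupTheory.OrderOfElement
import Mathlib.Algebra.Module.Basic
import Mathlib.Tactic.Abel

set_option autoImplicit false
set_option linter.unusedSectionVars false

/-! The two properties of a module for a 2-group used in the construction of Stellmacher's
characteristic subgroup: no quadratic offenders, and no exceptional near offenders. -/

namespace CfsgLib.Stellmacher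

variable {G : Type*} [Group G] {X : Type*} [AddCommGroup X] [DistribMulAction G X]

variable (X) in
/-- The fixed vectors of a subgroup. -/
def fixV (T : Subgroup G) : AddSubgroup X where
  carrier := {x | ∀ t ∈ T, t • x = x}
  add_mem' := fun {x y} hx hy t ht => by rw [smul_add, hx t ht, hy t ht]
  zero_mem' := fun t _ => smul_zero t
  neg_mem' := fun {x} hx t ht => by rw [smul_neg, hx t ht]

variable (G) in
/-- The pointwise stabilizer. -/
def fixG (U : AddSubgroup X) : Subgroup G where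
  carrier := {g | ∀ u ∈ U, g • u = u}
  mul_mem' := fun {g h} hg hh u hu => by rw [mul_smul, hh u hu, hg u hu]
  one_mem' := fun u _ => one_smul G u
  inv_mem' := fun {g} hg u hu => by
    conv_lhs => rw [← hg u hu]
    rw [inv_smul_smul]

theorem mem_fixV {T : Subgroup G} {x : X} : x ∈ fixV X T ↔ ∀ t ∈ T, t • x = x := Iff.rfl

theorem mem_fixG {U : AddSubgroup X} {g : G} : g ∈ fixG G U ↔ ∀ u ∈ U, g • u = u := Iff.rfl

theorem fixV_anti {T T' : Subgroup G} (h : T ≤ T') : fixV X T' ≤ fixV X T :=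
  fun _ hx t ht => hx t (h ht)

theorem fixG_anti {U U' : AddSubgroup X} (h : U ≤ U') : fixG G U' ≤ fixG G U :=
  fun _ hg u hu => hg u (h hu)

theorem le_fixV_of_le_fixG {T : Subgroup G} {U : AddSubgroup X} (h : T ≤ fixG G U) : U ≤ fixV X T :=
  fun u hu _ ht => h ht u hu

theorem le_fixG_of_le_fixV {T : Subgroup G} {U : AddSubgroup X} (h : U ≤ fixV X T) : T ≤ fixG G U :=
  fun _ ht u hu => h hu _ ht

theorem mem_fixG_of_forall_gen {U : Set X} {g : G} (h : ∀ u ∈ U, g • u = u) :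
    g ∈ fixG G (AddSubgroup.closure U) := by
  intro u hu
  induction hu using AddSubgroup.closure_induction with
  | mem x hx => exact h x hx
  | zero => exact smul_zero g
  | add x y _ _ hx hy => rw [smul_add, hx, hy]
  | neg x _ hx => rw [smul_neg, hx]

theorem mem_fixG_sup {U U' : AddSubgroup X} {g : G} :
    g ∈ fixG G (U ⊔ U') ↔ g ∈ fixG G U ∧ g ∈ fixG G U' := by
  refine ⟨fun h => ⟨fixG_anti le_sup_left h, fixG_anti le_sup_right h⟩, fun ⟨h1, h2⟩ u hu => ?_⟩
  obtain ⟨y, hy, z, hz, rfl⟩ := AddSubgroup.mem_sup.1 hu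
  rw [smul_add, h1 y hy, h2 z hz]

/-- `W` admits no quadratic offender in `S`. -/
def Good (S : Subgroup G) (W : AddSubgroup X) : Prop :=
  ∀ T : Subgroup G, T ≤ S →
    (∀ s ∈ T, ∀ t ∈ T, ∀ w ∈ W, s • (t • w - w) = t • w - w) →
    ¬ T ≤ fixG G W → (fixG G W).relIndex T < (fixV X T).relIndex W

/-- `W` admits no near offender with a hyperplane and a vector mapped injectively. -/
def NoSpec (S : Subgroup G) (W : AddSubgroup X) : Prop :=
  ∀ T : Subgroup G, T ≤ S → (∀ t ∈ T, t * t = 1) → (∀ s ∈ T, ∀ t ∈ T, s * t = t * s) →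
    ∀ a ∈ W, ∀ W₀ : AddSubgroup X, W₀ ≤ W → fixV X T ⊓ W ≤ W₀ → a ∉ W₀ → W₀.relIndex W ≤ 2 →
      (∀ t ∈ T, ∀ x ∈ W₀, t • x - x ∈ fixV X T) → (∀ t ∈ T, t • a - a ∈ W₀) →
      (fixV X T).relIndex W = 2 * (fixG G W).relIndex T → 4 ≤ (fixG G W).relIndex T →
      (∀ t ∈ T, t • a - a ∈ fixV X T → t ∈ fixG G W) → False

/-- `W` is invariant under `S` and has both properties. -/
structure IsPi (S : Subgroup G) (W : AddSubgroup X) : Prop where
  inv : ∀ s ∈ S, ∀ w ∈ W, s • w ∈ W
  good : Good S W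
  noSpec : NoSpec S W

theorem isPi_of_fixed {S : Subgroup G} {W : AddSubgroup X} (h : S ≤ fixG G W) : IsPi S W where
  inv := fun s hs w hw => by rwa [h hs w hw]
  good := fun T hT _ hn => absurd (hT.trans h) hn
  noSpec := fun T hT _ _ a _ _ _ _ _ _ _ _ _ h4 _ => by
    rw [Subgroup.relIndex_eq_one.2 (hT.trans h)] at h4
    omega

theorem IsPi.mono_group {S S' : Subgroup G} {W : AddSubgroup X} (h : IsPi S W) (hle : S' ≤ S) :
    IsPi S' W where
  inv := fun s hs => h.inv s (hle hs)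
  good := fun T hT => h.good T (hT.trans hle)
  noSpec := fun T hT => h.noSpec T (hT.trans hle)

section Transport

variable {Γ : Type*} [Group Γ] {V : Type*} [AddCommGroup V] [DistribMulAction Γ V]
  {φ : Γ →* G} {f : V →+ X}

theorem fixV_comap (hf : Function.Injective f) (heq : ∀ γ v, f (γ • v) = φ γ • f v) (T : Subgroup Γ) :
    fixV V T = (fixV X (T.map φ)).comap f := by
  ext v
  rw [AddSubgroup.mem_comap, mem_fixV, mem_fixV]
  refine ⟨?_, fun h t ht => hf ?_⟩
  · rintro h _ ⟨t, ht, rfl⟩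
    rw [← heq, h t ht]
  · rw [heq]; exact h _ (Subgroup.mem_map_of_mem φ ht)

theorem fixG_comap (hf : Function.Injective f) (heq : ∀ γ v, f (γ • v) = φ γ • f v)
    (W : AddSubgroup V) : fixG Γ W = (fixG G (W.map f)).comap φ := by
  ext γ
  rw [Subgroup.mem_comap, mem_fixG, mem_fixG]
  refine ⟨?_, fun h w hw => hf ?_⟩
  · rintro h _ ⟨w, hw, rfl⟩
    rw [← heq, h w hw]
  · rw [heq]; exact h _ (AddSubgroup.mem_map_of_mem f hw)

variable (hφ : Function.Injective φ) (hf : Function.Injective f)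
  (heq : ∀ γ v, f (γ • v) = φ γ • f v) {S : Subgroup Γ} {W : AddSubgroup V}
include hφ hf heq

theorem isPi_map_iff : IsPi (S.map φ) (W.map f) ↔ IsPi S W := by
  have hV : ∀ T : Subgroup Γ, (fixV X (T.map φ)).relIndex (W.map f) = (fixV V T).relIndex W :=
    fun T => by rw [fixV_comap hf heq T, AddSubgroup.relIndex_comap]
  have hG : ∀ T : Subgroup Γ, (fixG G (W.map f)).relIndex (T.map φ) = (fixG Γ W).relIndex T :=
    fun T => by rw [fixG_comap hf heq W, Subgroup.relIndex_comap]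
  have hle : ∀ T : Subgroup Γ, T.map φ ≤ fixG G (W.map f) ↔ T ≤ fixG Γ W := fun T => by
    rw [fixG_comap hf heq W, Subgroup.map_le_iff_le_comap]
  have hmemV : ∀ (T : Subgroup Γ) (v : V), f v ∈ fixV X (T.map φ) ↔ v ∈ fixV V T := fun T v => by
    rw [fixV_comap hf heq T]; rfl
  have hmemG : ∀ γ : Γ, φ γ ∈ fixG G (W.map f) ↔ γ ∈ fixG Γ W := fun γ => by
    rw [fixG_comap hf heq W]; rfl
  have hsub : ∀ T' : Subgroup G, T' ≤ S.map φ → ∃ T, T ≤ S ∧ T.map φ = T' := fun T' h =>
    ⟨T'.comap φ ⊓ S, inf_le_right, by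
      rw [Subgroup.map_inf _ _ _ hφ, Subgroup.map_comap_eq]
      exact le_antisymm (inf_le_left.trans inf_le_right)
        (le_inf (le_inf (h.trans (Subgroup.map_le_range _ _)) le_rfl) h)⟩
  constructor
  · intro h
    refine ⟨fun s hs w hw => ?_, fun T hT hq hn => ?_, ?_⟩
    · obtain ⟨w', hw', he⟩ := h.inv _ (Subgroup.mem_map_of_mem φ hs) _ (AddSubgroup.mem_map_of_mem f hw)
      rw [← heq] at he
      rwa [← hf he]
    · rw [← hG, ← hV]
      refine h.good _ (Subgroup.map_mono hT) ?_ (by rwa [hle])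
      rintro _ ⟨s, hs, rfl⟩ _ ⟨t, ht, rfl⟩ _ ⟨w, hw, rfl⟩
      rw [← heq, ← map_sub, ← heq, hq s hs t ht w hw]
    · intro T hT h2 hcm a ha W₀ hW₀ hC ha₀ hidx h0 ha1 hc h4 hinj
      refine h.noSpec (T.map φ) (Subgroup.map_mono hT) ?_ ?_ (f a) (AddSubgroup.mem_map_of_mem f ha)
        (W₀.map f) (AddSubgroup.map_mono hW₀) ?_ ?_ ?_ ?_ ?_ ?_ ?_ ?_
      · rintro _ ⟨t, ht, rfl⟩
        rw [← map_mul, h2 t ht, map_one]
      · rintro _ ⟨s, hs, rfl⟩ _ ⟨t, ht, rfl⟩
        rw [← map_mul, ← map_mul, hcm s hs t ht]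
      · rintro _ ⟨hx, ⟨w, hw, rfl⟩⟩
        exact AddSubgroup.mem_map_of_mem f (hC ⟨(hmemV T w).1 hx, hw⟩)
      · rintro ⟨b, hb, he⟩
        exact ha₀ (hf he ▸ hb)
      · rw [AddSubgroup.relIndex_map_map_of_injective _ _ hf]; exact hidx
      · rintro _ ⟨t, ht, rfl⟩ _ ⟨x, hx, rfl⟩
        rw [← heq, ← map_sub, hmemV]
        exact h0 t ht x hx
      · rintro _ ⟨t, ht, rfl⟩
        rw [← heq, ← map_sub]
        exact AddSubgroup.mem_map_of_mem f (ha1 t ht)
      · rw [hV, hG]; exact hc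
      · rw [hG]; exact h4
      · rintro _ ⟨t, ht, rfl⟩ hm
        rw [← heq, ← map_sub, hmemV] at hm
        rw [hmemG]
        exact hinj t ht hm
  · intro h
    refine ⟨?_, fun T' hT' hq hn => ?_, ?_⟩
    · rintro _ ⟨s, hs, rfl⟩ _ ⟨w, hw, rfl⟩
      rw [← heq]
      exact AddSubgroup.mem_map_of_mem f (h.inv s hs w hw)
    · obtain ⟨T, hT, rfl⟩ := hsub T' hT'
      rw [hG, hV]
      refine h.good T hT (fun s hs t ht w hw => hf ?_) (by rwa [← hle])
      rw [heq, map_sub, heq]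
      exact hq _ (Subgroup.mem_map_of_mem φ hs) _ (Subgroup.mem_map_of_mem φ ht) _
        (AddSubgroup.mem_map_of_mem f hw)
    · intro T' hT' h2 hcm a' ha' W₀ hW₀ hC ha₀ hidx h0 ha1 hc h4 hinj
      obtain ⟨T, hT, rfl⟩ := hsub T' hT'
      obtain ⟨a, ha, rfl⟩ := ha'
      have hW₀eq : (W₀.comap f ⊓ W).map f = W₀ := by
        refine le_antisymm ?_ fun x hx => ?_
        · rintro _ ⟨w, hw, rfl⟩; exact hw.1
        · obtain ⟨w, hw, rfl⟩ := hW₀ hx
          exact ⟨w, ⟨hx, hw⟩, rfl⟩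
      refine h.noSpec T hT (fun t ht => hφ ?_) (fun s hs t ht => hφ ?_) a ha (W₀.comap f ⊓ W)
        inf_le_right ?_ (fun hh => ha₀ hh.1) ?_ (fun t ht x hx => ?_) (fun t ht => AddSubgroup.mem_inf.2 ⟨?_, ?_⟩) ?_ ?_
        (fun t ht hm => ?_)
      · rw [map_mul, map_one]; exact h2 _ (Subgroup.mem_map_of_mem φ ht)
      · rw [map_mul, map_mul]
        exact hcm _ (Subgroup.mem_map_of_mem φ hs) _ (Subgroup.mem_map_of_mem φ ht)
      · rintro w ⟨hw1, hw2⟩
        exact ⟨hC ⟨(hmemV T w).2 hw1, AddSubgroup.mem_map_of_mem f hw2⟩, hw2⟩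
      · rw [← AddSubgroup.relIndex_map_map_of_injective _ _ hf, hW₀eq]; exact hidx
      · rw [← hmemV, map_sub, heq]
        exact h0 _ (Subgroup.mem_map_of_mem φ ht) _ hx.1
      · show f (t • a - a) ∈ W₀
        rw [map_sub, heq]; exact ha1 _ (Subgroup.mem_map_of_mem φ ht)
      · exact sub_mem (h.inv t (hT ht) a ha) ha
      · rw [← hV, ← hG]; exact hc
      · rw [← hG]; exact h4
      · rw [← hmemG]
        refine hinj _ (Subgroup.mem_map_of_mem φ ht) ?_
        rw [← heq, ← map_sub, hmemV]; exact hm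

end Transport

section Split

variable [Finite G] [Finite X]

theorem relIndex_addSubgroup_pos (H K : AddSubgroup X) : 0 < H.relIndex K :=
  Nat.pos_of_ne_zero AddSubgroup.index_ne_zero_of_finite

/-- Splitting off a fixed subgroup from the cost of `T`. -/
theorem cost_split {T T' : Subgroup G} {U W : AddSubgroup X} (hT : T' ≤ T) (hU : U ≤ fixV X T')
    (hUW : U ≤ W) :
    (fixV X T').relIndex W * (fixV X T).relIndex U ≤ (fixV X T).relIndex W := by
  have h1 : fixV X T ⊓ W ≤ fixV X T' ⊓ W := inf_le_inf_right _ (fixV_anti hT)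
  rw [← AddSubgroup.inf_relIndex_right (fixV X T) W, ← AddSubgroup.inf_relIndex_right (fixV X T') W,
    ← AddSubgroup.relIndex_mul_relIndex _ _ _ h1 inf_le_right, mul_comm]
  refine Nat.mul_le_mul ?_ le_rfl
  calc (fixV X T).relIndex U = (fixV X T ⊓ W).relIndex U := by
        rw [← AddSubgroup.inf_relIndex_right (fixV X T ⊓ W) U, inf_assoc, inf_eq_right.2 hUW,
          AddSubgroup.inf_relIndex_right]
    _ ≤ _ := AddSubgroup.relIndex_le_of_le_right (le_inf hU hUW)
        (AddSubgroup.index_ne_zero_of_finite)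

/-- Splitting the order of the action of `T` by the kernel on `U`. -/
theorem order_split (T : Subgroup G) {U W : AddSubgroup X} (hUW : U ≤ W) :
    (fixG G W).relIndex (T ⊓ fixG G U) * (fixG G U).relIndex T = (fixG G W).relIndex T := by
  have h1 : fixG G W ⊓ T ≤ T ⊓ fixG G U := le_inf inf_le_right (inf_le_left.trans (fixG_anti hUW))
  rw [← Subgroup.inf_relIndex_right (fixG G W) T,
    ← Subgroup.relIndex_mul_relIndex _ _ _ h1 inf_le_left, inf_comm T (fixG G U),
    Subgroup.inf_relIndex_right]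
  congr 1
  rw [← Subgroup.inf_relIndex_right (fixG G W ⊓ T), inf_assoc,
    inf_eq_right.2 (inf_le_right : fixG G U ⊓ T ≤ T), Subgroup.inf_relIndex_right]

/-- Goodness of a subgroup gives more cost than order. -/
theorem Good.lt_of_split {S : Subgroup G} {U W : AddSubgroup X} (hg : Good S U) {T : Subgroup G}
    (hT : T ≤ S) (hq : ∀ s ∈ T, ∀ t ∈ T, ∀ u ∈ U, s • (t • u - u) = t • u - u)
    (hn : ¬ T ≤ fixG G U) (hUW : U ≤ W)
    (hrest : (fixG G W).relIndex (T ⊓ fixG G U) ≤ (fixV X (T ⊓ fixG G U)).relIndex W) :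
    (fixG G W).relIndex T < (fixV X T).relIndex W := by
  refine lt_of_lt_of_le ?_ (cost_split inf_le_left (le_fixV_of_le_fixG inf_le_right) hUW)
  rw [← order_split T hUW]
  refine Nat.mul_lt_mul_of_le_of_lt hrest (hg T hT hq hn) ?_
  exact relIndex_addSubgroup_pos _ _

/-- A piece outside the hyperplane inherits the exceptional configuration. -/
theorem NoSpec.false_of_piece {S : Subgroup G} {p W W₀ : AddSubgroup X} (hp : NoSpec S p)
    (hpinv : ∀ s ∈ S, ∀ w ∈ p, s • w ∈ p) (hpW : p ≤ W) {T : Subgroup G} (hT : T ≤ S)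
    (h2 : ∀ t ∈ T, t * t = 1) (hcm : ∀ s ∈ T, ∀ t ∈ T, s * t = t * s) {a : X}
    (hW₀ : W₀ ≤ W) (hC : fixV X T ⊓ W ≤ W₀) (ha₀ : a ∉ W₀) (haW : a ∈ W) (hidx : W₀.relIndex W ≤ 2)
    (h0 : ∀ t ∈ T, ∀ x ∈ W₀, t • x - x ∈ fixV X T) (ha1 : ∀ t ∈ T, t • a - a ∈ W₀)
    (hc : (fixV X T).relIndex W = 2 * (fixG G W).relIndex T) (h4 : 4 ≤ (fixG G W).relIndex T)
    (hinj : ∀ t ∈ T, t • a - a ∈ fixV X T → t ∈ fixG G W) (hnot : ¬ p ≤ W₀) : False := by
  obtain ⟨a', ha'p, ha'⟩ := SetLike.not_le_iff_exists.1 hnot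
  have hdiff : a' - a ∈ W₀ := by
    have h1 : W₀.relIndex W = 2 := by
      refine le_antisymm hidx ?_
      have := relIndex_addSubgroup_pos W₀ W
      by_contra hlt
      exact ha₀ (AddSubgroup.relIndex_eq_one.1 (show W₀.relIndex W = 1 by omega) haW)
    have h3 := AddSubgroup.add_mem_iff_of_index_two (H := W₀.addSubgroupOf W) h1
      (a := ⟨a', hpW ha'p⟩) (b := -⟨a, haW⟩)
    have h4 : ((⟨a', hpW ha'p⟩ + -⟨a, haW⟩ : W) ∈ W₀.addSubgroupOf W) :=
      h3.2 ⟨fun h => absurd h ha', fun h => absurd (neg_mem_iff.1 h) ha₀⟩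
    simpa [sub_eq_add_neg, AddSubgroup.mem_addSubgroupOf] using h4
  have hshift : ∀ t ∈ T, (t • a' - a') - (t • a - a) ∈ fixV X T := fun t ht => by
    have e : (t • a' - a') - (t • a - a) = t • (a' - a) - (a' - a) := by rw [smul_sub]; abel
    rw [e]; exact h0 t ht _ hdiff
  have hinj' : ∀ t ∈ T, t • a' - a' ∈ fixV X T → t ∈ fixG G W := fun t ht hm => hinj t ht (by
    have := sub_mem hm (hshift t ht)
    simpa using this)
  have hfix : (fixG G p).relIndex T = (fixG G W).relIndex T := by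
    refine le_antisymm (Nat.le_of_dvd (Nat.pos_of_ne_zero Subgroup.index_ne_zero_of_finite)
      (Subgroup.relIndex_dvd_of_le_left T (fixG_anti hpW))) ?_
    refine Nat.le_of_dvd (Nat.pos_of_ne_zero Subgroup.index_ne_zero_of_finite) ?_
    rw [← Subgroup.inf_relIndex_right (fixG G p) T]
    refine Subgroup.relIndex_dvd_of_le_left T ?_
    rintro t ⟨htp, htT⟩
    refine hinj' t htT ?_
    rw [htp a' ha'p, sub_self]; exact zero_mem _
  have hle : (fixV X T).relIndex p ≤ (fixV X T).relIndex W :=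
    AddSubgroup.relIndex_le_of_le_right hpW AddSubgroup.index_ne_zero_of_finite
  have hW₀p : (W₀ ⊓ p).relIndex p ≤ 2 := by
    rw [AddSubgroup.inf_relIndex_right]
    exact (AddSubgroup.relIndex_le_of_le_right hpW AddSubgroup.index_ne_zero_of_finite).trans hidx
  have hlow : 2 * (fixG G W).relIndex T ≤ (fixV X T).relIndex p := by
    have h1 : fixV X T ⊓ p ≤ W₀ ⊓ p :=
      le_inf ((inf_le_inf_left _ hpW).trans hC) inf_le_right
    rw [← AddSubgroup.inf_relIndex_right (fixV X T) p,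
      ← AddSubgroup.relIndex_mul_relIndex _ _ _ h1 inf_le_right, mul_comm]
    refine Nat.mul_le_mul ?_ ?_
    · -- the values at `a'` separate the cosets
      rw [AddSubgroup.relIndex, AddSubgroup.index_eq_card, Subgroup.relIndex, Subgroup.index_eq_card]
      refine Nat.card_le_card_of_injective
        (fun q => QuotientAddGroup.mk (⟨(Quotient.out q : T).1 • a' - a', ?_⟩ : (W₀ ⊓ p : AddSubgroup X)))
        ?_
      · refine AddSubgroup.mem_inf.2 ⟨?_, sub_mem (hpinv _ (hT (Quotient.out q).2) _ ha'p) ha'p⟩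
        have := add_mem (hC (AddSubgroup.mem_inf.2 ⟨hshift _ (Quotient.out q).2, ?_⟩)) (ha1 _ (Quotient.out q).2)
        · simpa using this
        · exact sub_mem (sub_mem (hpW (hpinv _ (hT (Quotient.out q).2) _ ha'p)) (hpW ha'p))
            (hW₀ (ha1 _ (Quotient.out q).2))
      · intro q q' he
        have hs := (Quotient.out q).2
        have ht := (Quotient.out q').2
        set s := ((Quotient.out q : T) : G)
        set t := ((Quotient.out q' : T) : G)
        have hm : -(s • a' - a') + (t • a' - a') ∈ fixV X T :=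
          (AddSubgroup.mem_addSubgroupOf.1 (QuotientAddGroup.eq.1 he)).1
        have h5 : (s * t) • a' - a' ∈ fixV X T := by
          have e : s • (-(s • a' - a') + (t • a' - a')) = (s * t) • a' - a' := by
            rw [smul_add, smul_neg, smul_sub, smul_sub, ← mul_smul, ← mul_smul, h2 s hs, one_smul]
            abel
          rw [← e, hm s hs]; exact hm
        have h6 := hinj' (s * t) (mul_mem hs ht) h5
        rw [← Quotient.out_eq q, ← Quotient.out_eq q']
        refine QuotientGroup.eq.2 ?_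
        show ((Quotient.out q : T) : G)⁻¹ * ((Quotient.out q' : T) : G) ∈ fixG G W
        rwa [inv_eq_of_mul_eq_one_right (h2 s hs)]
    · rw [AddSubgroup.inf_relIndex_right]
      by_contra hlt
      have h6 := relIndex_addSubgroup_pos W₀ p
      exact ha' (AddSubgroup.relIndex_eq_one.1 (show W₀.relIndex p = 1 by omega) ha'p)
  refine hp T hT h2 hcm a' ha'p (W₀ ⊓ p) inf_le_right (le_inf ((inf_le_inf_left _ hpW).trans hC) inf_le_right)
    (fun h => ha' h.1) hW₀p (fun t ht x hx => h0 t ht x hx.1) (fun t ht => ?_) ?_ (hfix ▸ h4)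
    (fun t ht hm => fixG_anti hpW (hinj' t ht hm))
  · refine AddSubgroup.mem_inf.2 ⟨?_, sub_mem (hpinv _ (hT ht) _ ha'p) ha'p⟩
    have := add_mem (hC (AddSubgroup.mem_inf.2 ⟨hshift t ht,
      sub_mem (sub_mem (hpW (hpinv _ (hT ht) _ ha'p)) (hpW ha'p)) (hW₀ (ha1 t ht))⟩)) (ha1 t ht)
    simpa using this
  · rw [hfix]
    exact le_antisymm (hc ▸ hle) hlow

/-- The join of two modules with both properties. -/
theorem IsPi.sup {S : Subgroup G} {U U' : AddSubgroup X} (h : IsPi S U) (h' : IsPi S U') :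
    IsPi S (U ⊔ U') where
  inv := fun s hs w hw => by
    obtain ⟨y, hy, z, hz, rfl⟩ := AddSubgroup.mem_sup.1 hw
    rw [smul_add]
    exact AddSubgroup.add_mem_sup (h.inv s hs y hy) (h'.inv s hs z hz)
  good := fun T hT hq hn => by
    by_cases hU : T ≤ fixG G U
    · have hU' : ¬ T ≤ fixG G U' := fun h2 => hn fun t ht => mem_fixG_sup.2 ⟨hU ht, h2 ht⟩
      refine h'.good.lt_of_split hT (fun s hs t ht u hu => hq s hs t ht u (AddSubgroup.mem_sup_right hu))
        hU' le_sup_right ?_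
      rw [Subgroup.relIndex_eq_one.2 fun t (ht : t ∈ T ⊓ fixG G U') =>
        mem_fixG_sup.2 ⟨hU (Subgroup.mem_inf.1 ht).1, (Subgroup.mem_inf.1 ht).2⟩]
      exact relIndex_addSubgroup_pos _ _
    · refine h.good.lt_of_split hT (fun s hs t ht u hu => hq s hs t ht u (AddSubgroup.mem_sup_left hu))
        hU le_sup_left ?_
      by_cases hU' : T ⊓ fixG G U ≤ fixG G U'
      · rw [Subgroup.relIndex_eq_one.2 fun t (ht : t ∈ T ⊓ fixG G U) =>
          mem_fixG_sup.2 ⟨(Subgroup.mem_inf.1 ht).2, hU' ht⟩]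
        exact relIndex_addSubgroup_pos _ _
      · refine (h'.good.lt_of_split (inf_le_left.trans hT)
          (fun s hs t ht u hu => hq s hs.1 t ht.1 u (AddSubgroup.mem_sup_right hu)) hU' le_sup_right ?_).le
        rw [Subgroup.relIndex_eq_one.2 fun t (ht : t ∈ T ⊓ fixG G U ⊓ fixG G U') =>
          mem_fixG_sup.2 ⟨(Subgroup.mem_inf.1 (Subgroup.mem_inf.1 ht).1).2, (Subgroup.mem_inf.1 ht).2⟩]
        exact relIndex_addSubgroup_pos _ _
  noSpec := fun T hT h2 hcm a ha W₀ hW₀ hC ha₀ hidx h0 ha1 hc h4 hinj => by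
    by_cases hU : U ≤ W₀
    · exact h'.noSpec.false_of_piece h'.inv le_sup_right hT h2 hcm hW₀ hC ha₀ ha hidx h0 ha1 hc h4 hinj
        fun hU' => ha₀ (sup_le hU hU' ha)
    · exact h.noSpec.false_of_piece h.inv le_sup_left hT h2 hcm hW₀ hC ha₀ ha hidx h0 ha1 hc h4 hinj hU

end Split

end CfsgLib.Stellmacher
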