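import Cfsg.Agent.Lib.Stellmacher.Tools
import Mathlib.GroupTheory.Commutator.Basic

set_option autoImplicit false
set_option linter.unusedSectionVars false

/-! The structure of a minimal parabolic group used for inheriting the two properties. -/

namespace CfsgLib.Stellmacher

open scoped commutatorElement

/-- `M` is the only maximal subgroup over `S`, and elements of `S` outside `Q` invert elements of
prime power order outside `M` that centralize a hyperplane modulo `Q`. -/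
structure Para {G : Type*} [Group G] (S Q M : Subgroup G) : Prop where
  normal : Q.Normal
  le_S : Q ≤ S
  isP : IsPGroup 2 S
  S_le : S ≤ M
  over : ∀ H : Subgroup G, S ≤ H → H ≠ ⊤ → H ≤ M
  kernel : ∀ K : Subgroup G, K.Normal → K ≤ M → K ⊓ S ≤ Q
  select : ∀ K : Subgroup G, K.Normal → K ≤ M → ∀ T : Subgroup G, T ≤ S → ¬ T ≤ Q →
    (∀ t ∈ T, t * t ∈ K) → (∀ s ∈ T, ∀ t ∈ T, ⁅s, t⁆ ∈ K) →
    ∃ (B : Subgroup G) (a d : G) (q j : ℕ), B ≤ T ∧ B.relIndex T = 2 ∧ T ⊓ Q ≤ B ∧ a ∈ T ∧ a ∉ B ∧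
      q.Prime ∧ 5 ≤ q ∧ orderOf d = q ^ j ∧ d ∉ M ∧
      (∀ b ∈ B, ∀ i : ℤ, d ^ i * b * d ^ (-i) * b⁻¹ ∈ Q) ∧ a * d * a⁻¹ * d ∈ K

variable {G : Type*} [Group G] [Finite G] {S Q M : Subgroup G}

theorem Para.conj_le (hP : Para S Q M) {B : Subgroup G} (hB : B ≤ S) {d : G}
    (hd : ∀ b ∈ B, ∀ i : ℤ, d ^ i * b * d ^ (-i) * b⁻¹ ∈ Q) (i : ℤ) :
    B.map (MulAut.conj (d ^ i)).toMonoidHom ≤ S := by
  rintro _ ⟨b, hb, rfl⟩
  show d ^ i * b * (d ^ i)⁻¹ ∈ S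
  have := mul_mem (hP.le_S (hd b hb i)) (hB hb)
  simpa [mul_assoc, zpow_neg] using this

theorem Para.le_conj (hP : Para S Q M) {B : Subgroup G} (hB : B ≤ S) {d : G}
    (hd : ∀ b ∈ B, ∀ i : ℤ, d ^ i * b * d ^ (-i) * b⁻¹ ∈ Q) (i : ℤ) :
    B ≤ S.map (MulAut.conj (d ^ i)).toMonoidHom := fun b hb =>
  ⟨d ^ (-i) * b * (d ^ (-i))⁻¹, hP.conj_le hB hd (-i) ⟨b, hb, rfl⟩, by
    show d ^ i * (d ^ (-i) * b * (d ^ (-i))⁻¹) * (d ^ i)⁻¹ = b
    group⟩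

theorem Para.Q_le_conj (hP : Para S Q M) (g : G) : Q ≤ S.map (MulAut.conj g).toMonoidHom := fun x hx =>
  ⟨g⁻¹ * x * (g⁻¹)⁻¹, hP.le_S (hP.normal.conj_mem x hx g⁻¹), by simp [mul_assoc]⟩

end CfsgLib.Stellmacher
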