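import Mathlib.LinearAlgebra.Prod
import Mathlib.FieldTheory.Finite.Basic
import Mathlib.GroupTheory.OrderOfElement
import Mathlib.Tactic.LinearCombination
import Mathlib.Tactic.Module

/-!
Transvections of a symplectic plane over a finite field of characteristic two.  A monoid containing the
transvections of `(r, 0)`, `(0, 1)` and `(0, c)` with `c ≠ 0, 1` contains the transvections of two vectors
whose symplectic product is `1`.
-/

set_option autoImplicit false
set_option linter.unusedSectionVars false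

namespace CfsgLib.Stellmacher.Plane

universe u

variable {κ : Type u} [Field κ] [CharP κ 2]

/-- The alternating form of the plane. -/
def omega (v w : κ × κ) : κ := v.1 * w.2 + v.2 * w.1

theorem omega_comm (v w : κ × κ) : omega v w = omega w v := by simp only [omega]; ring

theorem omega_self (v : κ × κ) : omega v v = 0 := by
  rw [omega, mul_comm v.2, CharTwo.add_self_eq_zero]

theorem omega_add_left (p q v : κ × κ) : omega (p + q) v = omega p v + omega q v := by
  simp only [omega, Prod.fst_add, Prod.snd_add]; ring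

theorem omega_smul_left (a : κ) (p v : κ × κ) : omega (a • p) v = a * omega p v := by
  simp only [omega, Prod.smul_fst, Prod.smul_snd, smul_eq_mul]; ring

theorem omega_smul_right (a : κ) (v w : κ × κ) : omega v (a • w) = a * omega v w := by
  rw [omega_comm, omega_smul_left, omega_comm]

theorem omega_add_right (v p q : κ × κ) : omega v (p + q) = omega v p + omega v q := by
  rw [omega_comm, omega_add_left, omega_comm p, omega_comm q]

/-- The transvection attached to a vector, as a linear map. -/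
def tvMap (v : κ × κ) : κ × κ →ₗ[κ] κ × κ where
  toFun p := p + omega p v • v
  map_add' p q := by rw [omega_add_left, add_smul]; abel
  map_smul' a p := by rw [omega_smul_left, mul_smul, RingHom.id_apply, smul_add]

theorem tvMap_apply (v p : κ × κ) : tvMap v p = p + omega p v • v := rfl

theorem tvMap_self_comp (v p : κ × κ) : tvMap v (tvMap v p) = p := by
  rw [tvMap_apply, tvMap_apply, omega_add_left, omega_smul_left, omega_self, mul_zero, add_zero,
    add_assoc, ← add_smul, CharTwo.add_self_eq_zero, zero_smul, add_zero]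

/-- The transvection attached to a vector. -/
def tv (v : κ × κ) : (κ × κ) ≃ₗ[κ] (κ × κ) :=
  LinearEquiv.ofInvolutive (tvMap v) (tvMap_self_comp v)

theorem tv_apply (v p : κ × κ) : tv v p = p + omega p v • v := rfl

theorem tv_self (v : κ × κ) : tv v v = v := by rw [tv_apply, omega_self, zero_smul, add_zero]

theorem tv_mul_self (v : κ × κ) : tv v * tv v = 1 := LinearEquiv.ext (tvMap_self_comp v)

theorem tv_inv (v : κ × κ) : (tv v)⁻¹ = tv v := inv_eq_of_mul_eq_one_right (tv_mul_self v)

theorem tv_zero : tv (0 : κ × κ) = 1 := LinearEquiv.ext fun p => by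
  rw [tv_apply, smul_zero, add_zero]; rfl

theorem omega_tv (v p q : κ × κ) : omega (tv v p) (tv v q) = omega p q := by
  simp only [tv_apply, omega_add_left, omega_add_right, omega_smul_left, omega_smul_right, omega_self,
    omega_comm v q]
  linear_combination (CharTwo.add_self_eq_zero (omega p v * omega q v))

/-- Maps preserving the form. -/
def sp : Submonoid ((κ × κ) ≃ₗ[κ] (κ × κ)) where
  carrier := {f | ∀ p q, omega (f p) (f q) = omega p q}
  one_mem' := fun _ _ => rfl
  mul_mem' {f g} hf hg p q := (hf (g p) (g q)).trans (hg p q)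

theorem tv_mem_sp (v : κ × κ) : tv v ∈ (sp : Submonoid ((κ × κ) ≃ₗ[κ] (κ × κ))) := omega_tv v

theorem tv_map {f : (κ × κ) ≃ₗ[κ] (κ × κ)} (hf : f ∈ sp) (v : κ × κ) : f * tv v * f⁻¹ = tv (f v) := by
  rw [mul_inv_eq_iff_eq_mul]
  refine LinearEquiv.ext fun p => ?_
  show f (tv v p) = tv (f v) (f p)
  rw [tv_apply, tv_apply, map_add, map_smul, hf p v]

theorem tv_injective : Function.Injective (tv : κ × κ → (κ × κ) ≃ₗ[κ] (κ × κ)) := by
  intro v w h
  have h1 := DFunLike.congr_fun h ((1, 0) : κ × κ)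
  have h2 := DFunLike.congr_fun h ((0, 1) : κ × κ)
  simp [tv_apply, omega, Prod.ext_iff] at h1 h2
  exact Prod.ext (CharTwo.sq_injective (by simpa [sq] using h2.1))
    (CharTwo.sq_injective (by simpa [sq] using h1.2))

theorem tv_add (a b : κ) : tv (((0, a) : κ × κ)) * tv (0, b) = tv (0, a + b) := by
  refine LinearEquiv.ext fun p => ?_
  show tv (0, a) (tv (0, b) p) = _
  refine Prod.ext (by simp [tv_apply, omega]) ?_
  simp [tv_apply, omega]
  linear_combination -CharTwo.add_self_eq_zero (p.1 * a * b)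

/-- The product of two transvections with nonorthogonal vectors has odd order. -/
theorem odd_orderOf [Finite κ] {v w : κ × κ} (h : omega v w ≠ 0) : Odd (orderOf (tv v * tv w)) := by
  let f := tv v * tv w
  show Odd (orderOf f)
  set t := omega v w ^ 2
  have hff : ∀ p, f (f p) = t • f p + p := by
    intro p
    show tv v (tv w (tv v (tv w p))) = t • tv v (tv w p) + p
    refine Prod.ext ?_ ?_ <;> simp [tv_apply, omega, t] <;> grind
  have hlin : ∀ m : ℕ, ∃ α β : κ, ∀ p, (f ^ m) p = α • f p + β • p := by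
    intro m
    induction m with
    | zero => exact ⟨0, 1, fun p => by rw [pow_zero, zero_smul, zero_add, one_smul]; rfl⟩
    | succ m ih =>
      obtain ⟨α, β, hαβ⟩ := ih
      refine ⟨α * t + β, α, fun p => ?_⟩
      show (f ^ (m + 1)) p = _
      rw [pow_succ']
      show f ((f ^ m) p) = _
      rw [hαβ, map_add, map_smul, map_smul, hff]
      module
  have : Finite ((κ × κ) ≃ₗ[κ] (κ × κ)) := Finite.of_injective _ DFunLike.coe_injective
  rcases Nat.even_or_odd (orderOf f) with he | ho
  · exfalso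
    obtain ⟨m, hm⟩ := he
    have hpos : 0 < orderOf f := orderOf_pos f
    have hz : f ^ m * f ^ m = 1 := by rw [← pow_add, ← hm, pow_orderOf_eq_one]
    have hne : f ^ m ≠ 1 := pow_ne_one_of_lt_orderOf (by omega) (by omega)
    obtain ⟨α, β, hαβ⟩ := hlin m
    have hsq : ∀ p, (α ^ 2 * t) • f p + (α ^ 2 + β ^ 2) • p = p := by
      intro p
      have h1 : (f ^ m) ((f ^ m) p) = p := DFunLike.congr_fun hz p
      rw [hαβ, hαβ, map_add, map_smul, map_smul, hff] at h1
      have h2 : (α * β) • f p + (α * β) • f p = 0 := by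
        rw [← add_smul, CharTwo.add_self_eq_zero, zero_smul]
      calc (α ^ 2 * t) • f p + (α ^ 2 + β ^ 2) • p
          = (α ^ 2 * t) • f p + (α ^ 2 + β ^ 2) • p + ((α * β) • f p + (α * β) • f p) := by
            rw [h2, add_zero]
        _ = α • (α • (t • f p + p) + β • f p) + β • (α • f p + β • p) := by module
        _ = p := h1
    have hfw : omega (f w) w = omega v w ^ 2 := by
      show omega (tv v (tv w w)) w = _
      rw [tv_self, tv_apply, omega_add_left, omega_smul_left, omega_self, omega_comm w v]; ring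
    have h3 := congrArg (fun q => omega q w) (hsq w)
    simp only [omega_add_left, omega_smul_left, hfw, omega_self, mul_zero, add_zero] at h3
    have hα : α = 0 := by
      simpa [t, h] using h3
    have hβ : β ^ 2 = 1 := by
      have h4 := congrArg (fun q => omega q v) (hsq w)
      simp only [omega_add_left, omega_smul_left, hα, omega_comm w v] at h4
      have h5 : β ^ 2 * omega v w = 1 * omega v w := by linear_combination h4
      exact mul_right_cancel₀ h h5
    have hβ1 : β = 1 := CharTwo.sq_injective (hβ.trans (one_pow 2).symm)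
    exact hne (LinearEquiv.ext fun p => by rw [hαβ, hα, hβ1, zero_smul, zero_add, one_smul]; rfl)
  · exact ho

variable {H : Submonoid ((κ × κ) ≃ₗ[κ] (κ × κ))}

theorem tv_mem_apply {v w : κ × κ} (hv : tv v ∈ H) (hw : tv w ∈ H) : tv (tv v w) ∈ H := by
  rw [← tv_map (tv_mem_sp v), tv_inv]
  exact H.mul_mem (H.mul_mem hv hw) hv

/-- The transvection interchanging two nonorthogonal vectors. -/
theorem swap_mem [Finite κ] {v w : κ × κ} (hv : tv v ∈ H) (hw : tv w ∈ H) {l : κ}
    (hl : l ^ 2 * omega v w = 1) :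
    tv (l • (v + w)) ∈ H ∧ tv (l • (v + w)) v = w := by
  have hvw : omega v w ≠ 0 := fun h => by simp [h] at hl
  set f := tv v * tv w with hf
  obtain ⟨j, hj⟩ := odd_orderOf hvw
  have hfn : f ^ (2 * j + 1) = 1 := hj ▸ pow_orderOf_eq_one f
  have hfH : f ∈ H := H.mul_mem hv hw
  have hfs : f ∈ sp := mul_mem (tv_mem_sp v) (tv_mem_sp w)
  have hflip : ∀ k : ℕ, tv v * (f ^ k)⁻¹ = f ^ k * tv v := by
    intro k
    have h1 : tv v * f * (tv v)⁻¹ = f⁻¹ := by
      rw [hf, mul_inv_rev, tv_inv, tv_inv, ← mul_assoc, tv_mul_self, one_mul]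
    have h2 : tv v * f ^ k * (tv v)⁻¹ = (f ^ k)⁻¹ := by rw [← conj_pow, h1, inv_pow]
    rw [← h2, tv_inv]
    simp only [← mul_assoc, tv_mul_self, one_mul]
  have hconj : ∀ k : ℕ, tv ((f ^ k) v) = f ^ (2 * k) * tv v := by
    intro k
    rw [← tv_map (pow_mem hfs k), mul_assoc, hflip, ← mul_assoc, ← pow_add, two_mul]
  have hjw : (f ^ j) v = w := by
    refine tv_injective ?_
    rw [hconj, eq_inv_of_mul_eq_one_left (a := f ^ (2 * j)) (b := f) (by rwa [← pow_succ]), hf,
      mul_inv_rev, tv_inv, tv_inv, mul_assoc, tv_mul_self, mul_one]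
  set i := j * (j + 1)
  set z := (f ^ i) v
  have hzH : tv z ∈ H := by rw [hconj]; exact H.mul_mem (pow_mem hfH _) hv
  have hzv : tv z v = w := by
    rw [hconj]
    show (f ^ (2 * i)) (tv v v) = w
    rw [tv_self, show 2 * i = (2 * j + 1) * j + j by simp only [i]; ring, pow_add, pow_mul, hfn, one_pow,
      one_mul, hjw]
  have hz : z = l • (v + w) := by
    have h1 : omega v z • z = v + w := by
      rw [← hzv, tv_apply, ← add_assoc, CharTwo.add_self_eq_zero, zero_add]
    have h2 : omega v z ^ 2 = omega v w := by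
      have h := congrArg (omega v) h1
      rwa [omega_smul_right, omega_add_right, omega_self, zero_add, ← sq] at h
    have h3 : l * omega v z = 1 := CharTwo.sq_injective (by
      show (l * omega v z) ^ 2 = 1 ^ 2
      rw [mul_pow, h2, hl, one_pow])
    rw [← h1, ← mul_smul, h3, one_smul]
  exact hz ▸ ⟨hzH, hzv⟩

/-- Two vectors with product one. -/
theorem exists_omega_one [Finite κ] {r c : κ} (hr : r ≠ 0) (hc0 : c ≠ 0) (hc1 : c ≠ 1)
    (hx : tv (r, 0) ∈ H) (hy : tv (0, 1) ∈ H) (hcm : tv (0, c) ∈ H) :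
    ∃ v w, tv v ∈ H ∧ tv w ∈ H ∧ omega v w = 1 := by
  let _ : Fintype κ := Fintype.ofFinite κ
  have hroot : ∀ a : κ, ∃ b, b ^ 2 = a := fun a => by
    obtain ⟨b, hb⟩ := FiniteField.isSquare_of_char_two (ringChar.eq κ 2) a
    exact ⟨b, by rw [sq, hb]⟩
  -- the pairs `((r, 0), (0, d))`
  have hswap : ∀ d : κ, d ≠ 0 → tv (0, d) ∈ H → ∀ l, l ^ 2 * (r * d) = 1 →
      tv (l * r, l * d) ∈ H ∧ tv (l * r, l * d) ((r, 0) : κ × κ) = (0, d) := by
    intro d _ hd l hl
    have h := swap_mem hx hd (l := l) (by simpa [omega] using hl)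
    rwa [show l • (((r, 0) : κ × κ) + (0, d)) = (l * r, l * d) by ext <;> simp] at h
  -- the field
  have hmul : ∀ a b : κ, a ≠ 0 → b ≠ 0 → tv (0, a) ∈ H → tv (0, b) ∈ H → tv (0, a / b) ∈ H := by
    intro a b ha hb haH hbH
    obtain ⟨l, hl⟩ := hroot (r * b)⁻¹
    obtain ⟨l₁, hl₁⟩ := hroot r⁻¹
    have hlb : l ^ 2 * (r * b) = 1 := by rw [hl, inv_mul_cancel₀ (mul_ne_zero hr hb)]
    have hl1 : l₁ ^ 2 * (r * 1) = 1 := by rw [hl₁, mul_one, inv_mul_cancel₀ hr]
    obtain ⟨hm, hmv⟩ := hswap b hb hbH l hlb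
    obtain ⟨hm₁, hm₁v⟩ := hswap 1 one_ne_zero hy l₁ hl1
    have h1 := tv_mem_apply hm haH
    have h2 : tv (l * r, l * b) ((0, a) : κ × κ) = (r * (a / b), 0) := by
      have hinv := DFunLike.congr_fun (tv_mul_self (l * r, l * b)) ((r, 0) : κ × κ)
      change tv _ (tv _ _) = _ at hinv
      rw [hmv] at hinv
      rw [show ((0, a) : κ × κ) = (a / b) • (0, b) by ext <;> simp [hb], map_smul, hinv]
      ext <;> simp [mul_comm]
    rw [h2] at h1
    have h3 := tv_mem_apply hm₁ h1
    rwa [show ((r * (a / b), 0) : κ × κ) = (a / b) • (r, 0) by ext <;> simp [mul_comm], map_smul, hm₁v,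
      show (a / b) • ((0, 1) : κ × κ) = (0, a / b) by ext <;> simp] at h3
  have hinvF : ∀ a : κ, a ≠ 0 → tv (0, a) ∈ H → tv (0, a⁻¹) ∈ H := fun a ha h => by
    simpa using hmul 1 a one_ne_zero ha hy h
  -- a square root inside the field
  obtain ⟨e, heH, hec⟩ : ∃ e, tv (0, e) ∈ H ∧ e ^ 2 = c := by
    set F : Set κ := {a | tv ((0, a) : κ × κ) ∈ H}
    have hmaps : Set.MapsTo (fun a : κ => a ^ 2) F F := by
      intro a ha
      show tv ((0, a ^ 2) : κ × κ) ∈ H
      by_cases ha0 : a = 0
      · subst ha0; simpa [F] using ha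
      · have h := hmul a a⁻¹ ha0 (inv_ne_zero ha0) ha (hinvF a ha0 ha)
        rwa [div_inv_eq_mul, ← sq] at h
    obtain ⟨e, he, hee⟩ := ((F.toFinite.injOn_iff_bijOn_of_mapsTo hmaps).1
      CharTwo.sq_injective.injOn).surjOn (show c ∈ F from hcm)
    exact ⟨e, he, hee⟩
  have he0 : e ≠ 0 := fun h => hc0 (by rw [← hec, h]; simp)
  obtain ⟨l₁, hl₁⟩ := hroot r⁻¹
  have hl1 : l₁ ^ 2 * (r * 1) = 1 := by rw [hl₁, mul_one, inv_mul_cancel₀ hr]
  have hlc : (l₁ / e) ^ 2 * (r * c) = 1 := by
    rw [div_pow, hl₁, hec]; field_simp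
  have hv := (hswap 1 one_ne_zero hy l₁ hl1).1
  have hw := (hswap c hc0 hcm _ hlc).1
  set v : κ × κ := (l₁ * r, l₁ * 1)
  set w : κ × κ := (l₁ / e * r, l₁ / e * c)
  set f := (c + 1) / e with hf
  have hc1' : c + 1 ≠ 0 := fun h => hc1 (CharTwo.add_eq_zero.1 h)
  have hf0 : f ≠ 0 := div_ne_zero hc1' he0
  have hfH : tv ((0, f⁻¹) : κ × κ) ∈ H := by
    refine hinvF f hf0 (hmul _ _ hc1' he0 ?_ heH)
    rw [← tv_add]; exact H.mul_mem hcm hy
  have hvw : omega v w = f := by
    simp only [omega, v, w, hf]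
    linear_combination ((c + 1) / e) * hl1
  obtain ⟨l, hl⟩ := hroot (omega ((0, 1) : κ × κ) w)⁻¹
  have hyw : omega ((0, 1) : κ × κ) w ≠ 0 := by
    have hl0 : l₁ ≠ 0 := fun h => by simp [h] at hl1
    simp [omega, w, hl0, he0, hr]
  obtain ⟨hm, hmy⟩ := swap_mem hy hw (l := l) (by rw [hl, inv_mul_cancel₀ hyw])
  have h := tv_mem_apply hm hfH
  rw [show ((0, f⁻¹) : κ × κ) = f⁻¹ • (0, 1) by ext <;> simp, map_smul, hmy] at h
  exact ⟨v, f⁻¹ • w, hv, h, by rw [omega_smul_right, hvw, inv_mul_cancel₀ hf0]⟩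

end CfsgLib.Stellmacher.Plane
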