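import Cfsg.Agent.Lib.Techniques.SThreeNoOffender
import Cfsg.Agent.Lib.Techniques.SThreeReduce

/-!
The product lemma: for a group `X` without section `S₃` acting on an elementary abelian 2-group, a subgroup `T`
acting quadratically on the factors of an invariant series either lies in the largest normal subgroup with
2-group image, or its index over that intersection times the order of its fixed space is below the order of the
module.
-/

set_option autoImplicit false
set_option linter.unusedSectionVars false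
set_option linter.style.haveILetI false

namespace CfsgLib.Stellmacher.ProductLemma

open CfsgLib.Techniques CfsgLib.Techniques.SThree

universe u v

variable {X : Type u} [Group X] [Finite X] {V : Type v} [AddCommGroup V] {ρ : X →* AddMonoid.End V}

/-- The largest normal subgroup whose image is a 2-group. -/
def flat (ρ : X →* AddMonoid.End V) : Subgroup X :=
  (Cfsg.pCore 2 (X ⧸ ρ.ker)).comap (QuotientGroup.mk' ρ.ker)

theorem flat_normal (ρ : X →* AddMonoid.End V) : (flat ρ).Normal :=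
  haveI := Cfsg.pCore_normal 2 (X ⧸ ρ.ker)
  Subgroup.Normal.comap inferInstance _

theorem ker_le_flat (ρ : X →* AddMonoid.End V) : ρ.ker ≤ flat ρ := fun x hx => by
  show QuotientGroup.mk x ∈ Cfsg.pCore 2 (X ⧸ ρ.ker)
  rw [(QuotientGroup.eq_one_iff x).2 hx]
  exact one_mem _

theorem mem_flat_of_act_eq_one {x : X} (h : ρ x = 1) : x ∈ flat ρ := ker_le_flat ρ h

theorem exists_pow_of_mem_flat {x : X} (hx : x ∈ flat ρ) : ∃ k : ℕ, ρ (x ^ 2 ^ k) = 1 := by
  obtain ⟨k, hk⟩ := (CfsgLib.PCore.pCore_isPGroup (p := 2) (G := X ⧸ ρ.ker)) ⟨QuotientGroup.mk x, hx⟩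
  exact ⟨k, (QuotientGroup.eq_one_iff (x ^ 2 ^ k)).1 (congrArg Subtype.val hk)⟩

theorem le_flat {N : Subgroup X} [N.Normal] (h : ∀ x ∈ N, ∃ k : ℕ, ρ (x ^ 2 ^ k) = 1) : N ≤ flat ρ := by
  rw [flat, ← Subgroup.map_le_iff_le_comap]
  refine CfsgLib.PCore.le_pCore (Subgroup.Normal.map inferInstance _ (QuotientGroup.mk'_surjective _)) ?_
  rintro ⟨_, x, hx, rfl⟩
  obtain ⟨k, hk⟩ := h x hx
  exact ⟨k, Subtype.ext ((QuotientGroup.eq_one_iff (x ^ 2 ^ k)).2 (MonoidHom.mem_ker.2 hk))⟩

/-- Elements in the flat kernels on an invariant subgroup and on the quotient are in the flat kernel. -/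
theorem flat_inf_le (hV2 : ∀ v : V, v + v = 0) (W : AddSubgroup V) (hW : ∀ x : X, ∀ v ∈ W, ρ x v ∈ W) :
    flat (subRep ρ W hW) ⊓ flat (quotRep ρ W hW) ≤ flat ρ := by
  haveI := flat_normal (subRep ρ W hW)
  haveI := flat_normal (quotRep ρ W hW)
  refine le_flat fun x hx => ?_
  obtain ⟨i, hi⟩ := exists_pow_of_mem_flat hx.1
  obtain ⟨j, hj⟩ := exists_pow_of_mem_flat hx.2
  set z := x ^ 2 ^ (i + j)
  have hzW : ∀ w ∈ W, ρ z w = w := by
    intro w hw
    have h : subRep ρ W hW z = 1 := by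
      show subRep ρ W hW (x ^ 2 ^ (i + j)) = 1
      rw [pow_add, pow_mul, map_pow, hi, one_pow]
    exact congrArg Subtype.val (DFunLike.congr_fun h ⟨w, hw⟩)
  have hzQ : ∀ v, ρ z v - v ∈ W := by
    intro v
    have h : quotRep ρ W hW z = 1 := by
      show quotRep ρ W hW (x ^ 2 ^ (i + j)) = 1
      rw [pow_add, mul_comm, pow_mul, map_pow, hj, one_pow]
    have h1 : (QuotientAddGroup.mk (ρ z v) : V ⧸ W) = QuotientAddGroup.mk v :=
      DFunLike.congr_fun h (QuotientAddGroup.mk v)
    have h2 := QuotientAddGroup.eq.1 h1.symm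
    rwa [neg_add_eq_sub] at h2
  refine ⟨i + j + 1, ?_⟩
  rw [pow_succ, pow_mul, sq]
  exact act_mul_self hV2 fun v => hzW _ (hzQ v)

theorem relIndex_ne {H K : Subgroup X} : H.relIndex K ≠ 0 :=
  Subgroup.index_ne_zero_of_finite (H := H.subgroupOf K)

/-- The conclusion of the product lemma. -/
def Bound (ρ : X →* AddMonoid.End V) (T : Subgroup X) : Prop :=
  T ≤ flat ρ ∨ (flat ρ).relIndex T * Nat.card (fixedPts ρ T) < Nat.card V

theorem Bound.le [Finite V] {T : Subgroup X} (h : Bound ρ T) :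
    (flat ρ).relIndex T * Nat.card (fixedPts ρ T) ≤ Nat.card V := by
  rcases h with h | h
  · rw [Subgroup.relIndex_eq_one.2 h, one_mul]
    exact Nat.card_le_card_of_injective _ Subtype.val_injective
  · exact h.le

theorem bound_of_trivial {T : Subgroup X} (h : ∀ t ∈ T, ∀ v, ρ t v = v) : Bound ρ T :=
  Or.inl fun t ht => mem_flat_of_act_eq_one (AddMonoidHom.ext (h t ht))

/-- Fixed vectors split over an invariant subgroup. -/
theorem card_fixedPts_le [Finite V] (T : Subgroup X) (W : AddSubgroup V)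
    (hW : ∀ x : X, ∀ v ∈ W, ρ x v ∈ W) :
    Nat.card (fixedPts ρ T) ≤
      Nat.card (fixedPts (subRep ρ W hW) T) * Nat.card (fixedPts (quotRep ρ W hW) T) := by
  let q : fixedPts ρ T →+ fixedPts (quotRep ρ W hW) T :=
    { toFun := fun v => ⟨QuotientAddGroup.mk (v : V), fun a ha => congrArg QuotientAddGroup.mk (v.2 a ha)⟩
      map_zero' := rfl
      map_add' := fun _ _ => rfl }
  have h1 : Nat.card q.ker ≤ Nat.card (fixedPts (subRep ρ W hW) T) := by
    have hmem : ∀ v : q.ker, ((v : fixedPts ρ T) : V) ∈ W := fun v =>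
      (QuotientAddGroup.eq_zero_iff _).1 (congrArg Subtype.val (AddMonoidHom.mem_ker.1 v.2))
    exact Nat.card_le_card_of_injective
      (fun v => (⟨⟨_, hmem v⟩, fun a ha => Subtype.ext (v.1.2 a ha)⟩ : fixedPts (subRep ρ W hW) T))
      fun a b e => Subtype.ext (Subtype.ext (congrArg Subtype.val (congrArg Subtype.val e) :))
  rw [← q.ker.card_mul_index, AddSubgroup.index_ker]
  exact Nat.mul_le_mul h1 (Nat.card_le_card_of_injective _ Subtype.val_injective)

/-- The bounds combine along an invariant subgroup. -/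
theorem bound_of_inv [Finite V] (hV2 : ∀ v : V, v + v = 0) {T : Subgroup X} (W : AddSubgroup V)
    (hW : ∀ x : X, ∀ v ∈ W, ρ x v ∈ W) (h1 : Bound (subRep ρ W hW) T) (h2 : Bound (quotRep ρ W hW) T) :
    Bound ρ T := by
  by_cases hle : T ≤ flat ρ
  · exact Or.inl hle
  refine Or.inr ?_
  set a := (flat (subRep ρ W hW)).relIndex T
  set b := (flat (quotRep ρ W hW)).relIndex T
  have hidx : (flat ρ).relIndex T ≤ a * b :=
    (Subgroup.relIndex_le_of_le_left (flat_inf_le hV2 W hW) relIndex_ne).trans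
      Subgroup.relIndex_inf_le
  have hcard : Nat.card V = Nat.card W * Nat.card (V ⧸ W) := by
    rw [W.card_eq_card_quotient_mul_card_addSubgroup, mul_comm]
  refine lt_of_le_of_lt (Nat.mul_le_mul hidx (card_fixedPts_le T W hW)) ?_
  rw [hcard]
  calc a * b * (Nat.card (fixedPts (subRep ρ W hW) T) * Nat.card (fixedPts (quotRep ρ W hW) T))
      = a * Nat.card (fixedPts (subRep ρ W hW) T) * (b * Nat.card (fixedPts (quotRep ρ W hW) T)) := by ring
    _ < Nat.card W * Nat.card (V ⧸ W) := by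
      rcases h1 with h1 | h1
      · rcases h2 with h2 | h2
        · exact absurd ((le_inf h1 h2).trans (flat_inf_le hV2 W hW)) hle
        · exact Nat.mul_lt_mul_of_le_of_lt (Bound.le (Or.inl h1)) h2 Nat.card_pos
      · exact Nat.mul_lt_mul_of_lt_of_le h1 h2.le Nat.card_pos

/-- In an irreducible action the image has no nontrivial normal 2-subgroup. -/
theorem pCore_image_eq_bot [Finite V] (hV2 : ∀ v : V, v + v = 0)
    (hirr : ∀ U : AddSubgroup V, (∀ g, ∀ x ∈ U, ρ g x ∈ U) → U = ⊥ ∨ U = ⊤) :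
    Cfsg.pCore 2 (X ⧸ ρ.ker) = ⊥ := by
  haveI : Fact (Nat.Prime 2) := ⟨Nat.prime_two⟩
  let σ : X ⧸ ρ.ker →* AddMonoid.End V := QuotientGroup.lift ρ.ker ρ fun _ hx => hx
  set Q := Cfsg.pCore 2 (X ⧸ ρ.ker)
  haveI : Q.Normal := Cfsg.pCore_normal 2 _
  refine eq_bot_iff.2 fun q hq => Subgroup.mem_bot.2 ?_
  obtain ⟨g, rfl⟩ := QuotientGroup.mk_surjective q
  refine (QuotientGroup.eq_one_iff g).2 (MonoidHom.mem_ker.2 (AddMonoidHom.ext fun x => ?_))
  by_cases hV : ∀ v : V, v = 0
  · exact (hV _).trans (hV _).symm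
  push Not at hV
  obtain ⟨v₀, hv₀⟩ := hV
  obtain ⟨v, hv0, hv⟩ := exists_fixed_ne_zero (ρ := σ) hV2 (R := Q) CfsgLib.PCore.pCore_isPGroup (v₀ := v₀) hv₀
  rcases hirr (fixedPts σ Q) (fun y w hw => by
    have h := (act_mem_fixedPts_conj σ Q (QuotientGroup.mk y)).2 hw
    rwa [map_conj_eq_self_iff.2 (Subgroup.normalizer_eq_top Q ▸ Subgroup.mem_top _)] at h) with h | h
  · exact absurd (AddSubgroup.mem_bot.1 (h ▸ hv)) hv0
  · exact (h ▸ AddSubgroup.mem_top x : x ∈ fixedPts σ Q) _ hq

theorem not_involves_quotient (hS3 : ¬ Cfsg.Involves (Equiv.Perm (Fin 3)) X) (K : Subgroup X) [K.Normal] :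
    ¬ Cfsg.Involves (Equiv.Perm (Fin 3)) (X ⧸ K) := fun h =>
  hS3 (LocalEven.Involved.involves_of_surjective _ (QuotientGroup.mk'_surjective K) h)

/-- An irreducible action has no quadratic offender. -/
theorem card_lt_of_irreducible [Finite V] (hS3 : ¬ Cfsg.Involves (Equiv.Perm (Fin 3)) X)
    (hV2 : ∀ v : V, v + v = 0)
    (hirr : ∀ U : AddSubgroup V, (∀ g, ∀ x ∈ U, ρ g x ∈ U) → U = ⊥ ∨ U = ⊤) {T : Subgroup X}
    (hq : Quad ρ T) (hne : ¬ T ≤ ρ.ker) :
    ρ.ker.relIndex T * Nat.card (fixedPts ρ T) < Nat.card V := by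
  let σ : X ⧸ ρ.ker →* AddMonoid.End V := QuotientGroup.lift ρ.ker ρ fun _ hx => hx
  have hσ : ∀ y, σ y = 1 → y = 1 := fun y => QuotientGroup.induction_on y fun g hg =>
    (QuotientGroup.eq_one_iff _).2 (MonoidHom.mem_ker.2 hg)
  set A := T.map (QuotientGroup.mk' ρ.ker)
  have hfix : fixedPts σ A = fixedPts ρ T := (fixedPts_comp σ (QuotientGroup.mk' ρ.ker) T).symm
  have hA : A ≠ ⊥ := fun e => hne (by simpa [A, Subgroup.map_eq_bot_iff] using e)
  have hqA : Quad σ A := by
    rintro _ ⟨t, ht, rfl⟩ v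
    rw [hfix]
    exact hq t ht v
  have hcA : Nat.card A = ρ.ker.relIndex T := by
    have h1 : ((QuotientGroup.mk' ρ.ker).comp T.subtype).range = A := by
      rw [MonoidHom.range_comp, Subgroup.range_subtype]
    rw [← h1, ← Subgroup.index_ker, ← MonoidHom.comap_ker, QuotientGroup.ker_mk']
    rfl
  have h := fun hoff => no_quadratic_offender σ hσ hV2 (pCore_image_eq_bot hV2 hirr)
    (not_involves_quotient hS3 _) hA hqA hoff
  rw [hfix, hcA] at h
  rw [← (fixedPts ρ T).index_mul_card]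
  exact Nat.mul_lt_mul_of_pos_right (not_le.1 h) Nat.card_pos

/-- The product lemma for a quadratic action. -/
theorem bound_of_quad [Finite V] (hS3 : ¬ Cfsg.Involves (Equiv.Perm (Fin 3)) X) (hV2 : ∀ v : V, v + v = 0)
    {T : Subgroup X} (hq : Quad ρ T) : Bound ρ T := by
  suffices ∀ (n : ℕ) (W : Type v) [AddCommGroup W] [Finite W] (σ : X →* AddMonoid.End W),
      Nat.card W ≤ n → (∀ w : W, w + w = 0) → Quad σ T → Bound σ T from this _ V ρ le_rfl hV2 hq
  intro n
  induction n with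
  | zero =>
    intro W _ _ σ hn
    exact absurd (Nat.card_pos (α := W)) (by omega)
  | succ n ih =>
    intro W _ _ σ hn hW2 hqW
    by_cases hirr : ∀ U : AddSubgroup W, (∀ g, ∀ x ∈ U, σ g x ∈ U) → U = ⊥ ∨ U = ⊤
    · by_cases hne : T ≤ σ.ker
      · exact bound_of_trivial fun t ht v => DFunLike.congr_fun (MonoidHom.mem_ker.1 (hne ht)) v
      · refine Or.inr (lt_of_le_of_lt (Nat.mul_le_mul_right _ ?_) (card_lt_of_irreducible hS3 hW2 hirr hqW hne))
        exact Subgroup.relIndex_le_of_le_left (ker_le_flat σ) relIndex_ne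
    · push Not at hirr
      obtain ⟨U, hU, hU0, hU1⟩ := hirr
      have hUlt : Nat.card U < Nat.card W := lt_of_le_of_ne (Nat.card_le_card_of_injective _ Subtype.val_injective)
        fun e => hU1 (AddSubgroup.eq_top_of_card_eq U e)
      have hQlt : Nat.card (W ⧸ U) < Nat.card W := by
        rw [U.card_eq_card_quotient_mul_card_addSubgroup]
        exact lt_mul_of_one_lt_right Nat.card_pos (U.one_lt_card_iff_ne_bot.2 hU0)
      refine bound_of_inv hW2 U hU (ih U _ (by omega) (fun w => Subtype.ext (hW2 w)) ?_)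
        (ih (W ⧸ U) _ (by omega) (fun w => QuotientAddGroup.induction_on w fun x =>
          congrArg QuotientAddGroup.mk (hW2 x)) ?_)
      · exact fun a ha v b hb => Subtype.ext (hqW a ha v b hb)
      · exact fun a ha v => QuotientAddGroup.induction_on v fun x b hb =>
          congrArg QuotientAddGroup.mk (hqW a ha x b hb)

end CfsgLib.Stellmacher.ProductLemma
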